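import Mathlib.GroupTheory.Sylow
import Mathlib.GroupTheory.PGroup
import Mathlib.GroupTheory.Commutator.Basic
import Mathlib.GroupTheory.Subgroup.Centralizer
import Cfsg.Agent.Cores.PCore
import Cfsg.Prelude.Def_Amalgam
import Cfsg.Agent.PGroups.Basic

/-!
General helpers used by the local-analysis statements: conjugates of subgroups, normalization of
one subgroup by another, fixed points of p-groups, `pCoreOf`.
-/

set_option autoImplicit false

namespace Cfsg.Agent.H60

open Subgroup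
open scoped commutatorElement

variable {G : Type*} [Group G] {p : ℕ}

/-- The conjugate `gHg⁻¹`, in the spelling of the statements. -/
abbrev cj (H : Subgroup G) (g : G) : Subgroup G := H.map (MulAut.conj g).toMonoidHom

theorem mem_cj {H : Subgroup G} {g x : G} : x ∈ cj H g ↔ g⁻¹ * x * g ∈ H := by
  constructor
  · rintro ⟨m, hm, rfl⟩; simpa [mul_assoc] using hm
  · intro h; exact ⟨_, h, by simp [mul_assoc]⟩

theorem cj_cj (H : Subgroup G) (g h : G) : cj (cj H g) h = cj H (h * g) := by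
  ext x; simp [mul_assoc]

@[simp] theorem cj_one (H : Subgroup G) : cj H 1 = H := by
  ext x; simp

theorem cj_mono {H K : Subgroup G} (h : H ≤ K) (g : G) : cj H g ≤ cj K g := Subgroup.map_mono h

theorem cj_le_cj_iff {H K : Subgroup G} (g : G) : cj H g ≤ cj K g ↔ H ≤ K :=
  Subgroup.map_le_map_iff_of_injective (MulAut.conj g).injective

theorem cj_inj {H K : Subgroup G} {g : G} : cj H g = cj K g ↔ H = K :=
  ⟨fun h => le_antisymm ((cj_le_cj_iff g).1 h.le) ((cj_le_cj_iff g).1 h.ge), fun h => by rw [h]⟩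

theorem cj_le_iff {H K : Subgroup G} (g : G) : cj H g ≤ K ↔ H ≤ cj K g⁻¹ := by
  conv_rhs => rw [← cj_le_cj_iff g, cj_cj, mul_inv_cancel, cj_one]

theorem le_cj_iff {H K : Subgroup G} (g : G) : H ≤ cj K g ↔ cj H g⁻¹ ≤ K := by
  rw [cj_le_iff, inv_inv]

theorem card_cj (H : Subgroup G) (g : G) : Nat.card ↥(cj H g) = Nat.card ↥H :=
  (Nat.card_congr (H.equivMapOfInjective _ (MulAut.conj g).injective).toEquiv).symm

theorem isPGroup_cj {H : Subgroup G} (h : IsPGroup p H) (g : G) : IsPGroup p (cj H g) := h.map _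

theorem cj_eq_bot_iff {H : Subgroup G} {g : G} : cj H g = ⊥ ↔ H = ⊥ :=
  ⟨fun h => cj_inj.1 (h.trans (Subgroup.map_bot _).symm), fun h => by rw [h]; exact Subgroup.map_bot _⟩

theorem cj_inf (H K : Subgroup G) (g : G) : cj (H ⊓ K) g = cj H g ⊓ cj K g :=
  Subgroup.map_inf _ _ _ (MulAut.conj g).injective

theorem cj_sup (H K : Subgroup G) (g : G) : cj (H ⊔ K) g = cj H g ⊔ cj K g :=
  Subgroup.map_sup _ _ _

theorem cj_centralizer (H : Subgroup G) (g : G) :
    cj (centralizer (H : Set G)) g = centralizer (cj H g : Set G) := by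
  ext x
  rw [mem_cj, mem_centralizer_iff, mem_centralizer_iff]
  constructor
  · rintro h _ ⟨y, hy, rfl⟩
    have h1 := h y hy
    show (g * y * g⁻¹) * x = x * (g * y * g⁻¹)
    calc (g * y * g⁻¹) * x = g * (y * (g⁻¹ * x * g)) * g⁻¹ := by group
      _ = g * ((g⁻¹ * x * g) * y) * g⁻¹ := by rw [h1]
      _ = x * (g * y * g⁻¹) := by group
  · intro h y hy
    have h1 : (g * y * g⁻¹) * x = x * (g * y * g⁻¹) := h _ ⟨y, hy, rfl⟩
    calc y * (g⁻¹ * x * g) = g⁻¹ * ((g * y * g⁻¹) * x) * g := by group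
      _ = g⁻¹ * (x * (g * y * g⁻¹)) * g := by rw [h1]
      _ = g⁻¹ * x * g * y := by group

theorem cj_normalizer (H : Subgroup G) (g : G) :
    cj (normalizer (H : Set G)) g = normalizer (cj H g : Set G) :=
  Subgroup.map_equiv_normalizer_eq H (MulAut.conj g)

theorem cj_eq_self_iff {H : Subgroup G} {g : G} : cj H g = H ↔ g ∈ normalizer (H : Set G) := by
  rw [mem_normalizer_iff]
  constructor
  · intro h x
    conv_rhs => rw [← h, mem_cj]
    simp [mul_assoc]
  · intro h
    ext x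
    rw [mem_cj, h]; simp [mul_assoc]

theorem cj_eq_of_mem {H K : Subgroup G} (hK : K ≤ normalizer (H : Set G)) {g : G} (hg : g ∈ K) :
    cj H g = H := cj_eq_self_iff.2 (hK hg)

theorem cj_le_of_mem {H : Subgroup G} {g : G} (hg : g ∈ H) : cj H g ≤ H := by
  intro x hx
  rw [mem_cj] at hx
  simpa [mul_assoc] using H.mul_mem (H.mul_mem hg hx) (H.inv_mem hg)

/-- `A` normalizes `C(B)` when it normalizes `B`. -/
theorem normalizer_le_normalizer_centralizer (B : Subgroup G) :
    normalizer (B : Set G) ≤ normalizer (centralizer (B : Set G) : Set G) := by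
  intro g hg
  rw [mem_normalizer_iff] at hg ⊢
  intro x
  simp only [mem_centralizer_iff, SetLike.mem_coe]
  constructor
  · intro hx b hb
    have hb' : g⁻¹ * b * g ∈ B := by
      rw [hg]; simpa [mul_assoc] using hb
    have h1 := hx _ hb'
    calc b * (g * x * g⁻¹) = g * ((g⁻¹ * b * g) * x) * g⁻¹ := by group
      _ = g * (x * (g⁻¹ * b * g)) * g⁻¹ := by rw [h1]
      _ = g * x * g⁻¹ * b := by group
  · intro hx b hb
    have h1 := hx _ ((hg b).1 hb)
    calc b * x = g⁻¹ * ((g * b * g⁻¹) * (g * x * g⁻¹)) * g := by group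
      _ = g⁻¹ * ((g * x * g⁻¹) * (g * b * g⁻¹)) * g := by rw [h1]
      _ = x * b := by group

theorem le_normalizer_inf {A B C : Subgroup G} (hB : A ≤ normalizer (B : Set G))
    (hC : A ≤ normalizer (C : Set G)) : A ≤ normalizer ((B ⊓ C : Subgroup G) : Set G) := by
  intro a ha
  rw [mem_normalizer_iff]
  intro x
  rw [mem_inf, mem_inf, mem_normalizer_iff.1 (hB ha) x, mem_normalizer_iff.1 (hC ha) x]

theorem le_normalizer_sup {A B C : Subgroup G} (hB : A ≤ normalizer (B : Set G))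
    (hC : A ≤ normalizer (C : Set G)) : A ≤ normalizer ((B ⊔ C : Subgroup G) : Set G) := by
  rw [le_normalizer_iff]
  intro a ha x hx
  have h1 : ∀ D : Subgroup G, A ≤ normalizer (D : Set G) → cj D a ≤ D := by
    intro D hD y hy
    rw [mem_cj] at hy
    have := (mem_normalizer_iff.1 (hD ha) _).1 hy
    simpa [mul_assoc] using this
  have h2 : cj (B ⊔ C) a ≤ B ⊔ C := by
    rw [cj_sup]; exact sup_le_sup (h1 B hB) (h1 C hC)
  exact h2 (mem_cj.2 (by simpa [mul_assoc] using hx))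

theorem commutator_le_of_le_normalizer {A B : Subgroup G} (h : A ≤ normalizer (B : Set G)) :
    ⁅A, B⁆ ≤ B := by
  rw [commutator_le]
  intro a ha b hb
  rw [commutatorElement_def]
  exact B.mul_mem ((mem_normalizer_iff.1 (h ha) b).1 hb) (B.inv_mem hb)

/-- Normalizing subgroups have their commutator in the intersection. -/
theorem commutator_le_inf_of_le_normalizer {A B : Subgroup G} (h₁ : A ≤ normalizer (B : Set G))
    (h₂ : B ≤ normalizer (A : Set G)) : ⁅A, B⁆ ≤ A ⊓ B :=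
  le_inf (commutator_comm A B ▸ commutator_le_of_le_normalizer h₂) (commutator_le_of_le_normalizer h₁)

theorem le_normalizer_self (A : Subgroup G) : A ≤ normalizer (A : Set G) := Subgroup.le_normalizer

/-- A p-group acting on a nontrivial p-group has nontrivial fixed points. -/
theorem inf_centralizer_ne_bot [Finite G] [Fact p.Prime] {A B : Subgroup G} (hA : IsPGroup p A)
    (hB : IsPGroup p B) (hAB : A ≤ normalizer (B : Set G)) (hB1 : B ≠ ⊥) :
    B ⊓ centralizer (A : Set G) ≠ ⊥ := by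
  have hS : IsPGroup p ↥(A ⊔ B : Subgroup G) := hA.to_sup_of_normal_right' hB hAB
  have hn : (B.subgroupOf (A ⊔ B)).Normal :=
    (normal_subgroupOf_iff_le_normalizer le_sup_right).2 (sup_le hAB Subgroup.le_normalizer)
  have hne : B.subgroupOf (A ⊔ B) ≠ ⊥ := by
    rw [Ne, subgroupOf_eq_bot, disjoint_iff, inf_of_le_left (le_sup_right : B ≤ A ⊔ B)]; exact hB1
  have := PGroups.inf_center_ne_bot hS (B.subgroupOf (A ⊔ B)) hne
  rw [Ne, eq_bot_iff_forall] at this ⊢
  intro hall
  apply this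
  intro x hx
  refine Subtype.ext (hall _ ⟨hx.1, mem_centralizer_iff.2 ?_⟩)
  intro a ha
  exact congrArg Subtype.val (Subgroup.mem_center_iff.1 hx.2 ⟨a, le_sup_left (a := A) (b := B) ha⟩)

/-- A p'-element moving each element of a p-group by something it centralizes acts trivially. -/
theorem commute_of_commutator_fixed [Finite G] [hp : Fact p.Prime] {x y : G} {M : Subgroup G}
    (hM : IsPGroup p M) (hx : (orderOf x).Coprime p) (hxM : ∀ m ∈ M, x * m = m * x)
    (hxy : x * y * x⁻¹ * y⁻¹ ∈ M) : x * y = y * x := by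
  set m := x * y * x⁻¹ * y⁻¹ with hm
  have e1 : x * y * x⁻¹ = m * y := by rw [hm]; group
  have key : ∀ k : ℕ, x ^ k * y * (x ^ k)⁻¹ = m ^ k * y := by
    intro k
    induction k with
    | zero => simp
    | succ k ih =>
      calc x ^ (k + 1) * y * (x ^ (k + 1))⁻¹ = x * (x ^ k * y * (x ^ k)⁻¹) * x⁻¹ := by
            rw [pow_succ']; group
        _ = x * (m ^ k * y) * x⁻¹ := by rw [ih]
        _ = (x * m ^ k) * y * x⁻¹ := by group
        _ = m ^ k * (x * y * x⁻¹) := by
            rw [hxM _ (M.pow_mem hxy k)]; group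
        _ = m ^ (k + 1) * y := by rw [e1, pow_succ]; group
  have h1 := key (orderOf x)
  rw [pow_orderOf_eq_one] at h1
  simp only [one_mul, inv_one, mul_one, right_eq_mul] at h1
  obtain ⟨k, hk'⟩ := hM ⟨m, hxy⟩
  have hk : orderOf m ∣ p ^ k := orderOf_dvd_of_pow_eq_one (congrArg Subtype.val hk')
  have h2 : orderOf m ∣ Nat.gcd (orderOf x) (p ^ k) := Nat.dvd_gcd (orderOf_dvd_of_pow_eq_one h1) hk
  rw [Nat.Coprime.pow_right k hx, Nat.dvd_one, orderOf_eq_one_iff] at h2
  calc x * y = x * y * x⁻¹ * x := by group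
    _ = y * x := by rw [e1, h2, one_mul]

/-- A finite group in which every p'-element is trivial is a p-group. -/
theorem isPGroup_of_coprime_eq_one [Finite G] [hp : Fact p.Prime] {H : Subgroup G}
    (h : ∀ x ∈ H, (orderOf x).Coprime p → x = 1) : IsPGroup p H := by
  rintro ⟨x, hx⟩
  obtain ⟨a, n, hn, he⟩ := Nat.exists_eq_pow_mul_and_not_dvd (orderOf_pos x).ne' p hp.out.ne_one
  refine ⟨a, Subtype.ext ?_⟩
  show x ^ p ^ a = 1
  refine h _ (H.pow_mem hx _) ?_
  have h1 : orderOf (x ^ p ^ a) ∣ n :=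
    orderOf_dvd_of_pow_eq_one (by rw [← pow_mul, ← he, pow_orderOf_eq_one])
  exact (Nat.Coprime.coprime_dvd_left h1 ((hp.out.coprime_iff_not_dvd.2 hn).symm))

theorem pCoreOf_le (H : Subgroup G) : Cfsg.pCoreOf p H ≤ H := map_subtype_le _

theorem pCoreOf_isPGroup (H : Subgroup G) : IsPGroup p (Cfsg.pCoreOf p H) :=
  (Cores.pCore_isPGroup).map _

theorem le_normalizer_pCoreOf (H : Subgroup G) :
    H ≤ normalizer (Cfsg.pCoreOf p H : Set G) := by
  rw [le_normalizer_iff]
  rintro h hh _ ⟨x, hx, rfl⟩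
  exact ⟨⟨h, hh⟩ * x * ⟨h, hh⟩⁻¹, (Cfsg.pCore_normal p H).conj_mem x hx _, rfl⟩

theorem le_pCoreOf {H N : Subgroup G} (hN : N ≤ H) (hn : H ≤ normalizer (N : Set G))
    (hp : IsPGroup p N) : N ≤ Cfsg.pCoreOf p H := by
  have : (N.subgroupOf H).Normal := (normal_subgroupOf_iff_le_normalizer hN).2 hn
  have hp' : IsPGroup p (N.subgroupOf H) := hp.comap_subtype
  have h1 : (N.subgroupOf H).map H.subtype ≤ Cfsg.pCoreOf p H := Subgroup.map_mono (Cores.le_pCore hp')
  rwa [subgroupOf_map_subtype, inf_of_le_left hN] at h1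

theorem pCoreOf_eq_bot_iff (H : Subgroup G) : Cfsg.pCoreOf p H = ⊥ ↔ Cfsg.pCore p ↥H = ⊥ :=
  (Subgroup.map_eq_bot_iff_of_injective _ (Subgroup.subtype_injective H))

theorem normalizer_le_normalizer_pCoreOf (H : Subgroup G) :
    normalizer (H : Set G) ≤ normalizer (Cfsg.pCoreOf p H : Set G) := by
  rw [le_normalizer_iff]
  intro n hn z hz
  have h : cj (Cfsg.pCoreOf p H) n ≤ Cfsg.pCoreOf p H := by
    refine le_pCoreOf ?_ ?_ (isPGroup_cj (pCoreOf_isPGroup H) n)
    · exact le_trans (cj_mono (pCoreOf_le H) n) (cj_eq_self_iff.2 hn).le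
    · have h2 := cj_mono (le_normalizer_pCoreOf (p := p) H) n
      rwa [cj_eq_self_iff.2 hn, cj_normalizer] at h2
  exact h (mem_cj.2 (by simpa [mul_assoc] using hz))

theorem iSup_commutator_le {ι : Sort*} {A : ι → Subgroup G} {B D : Subgroup G}
    (hn : ∀ i, A i ≤ normalizer (D : Set G)) (h : ∀ i, ⁅A i, B⁆ ≤ D) : ⁅⨆ i, A i, B⁆ ≤ D := by
  suffices hP : ∀ x ∈ ⨆ i, A i, x ∈ normalizer (D : Set G) ∧ ∀ b ∈ B, ⁅x, b⁆ ∈ D from
    commutator_le.2 fun x hx b hb => (hP x hx).2 b hb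
  intro x hx
  induction hx using Subgroup.iSup_induction' with
  | hp i x hx => exact ⟨hn i hx, fun b hb => h i (commutator_mem_commutator hx hb)⟩
  | h1 => exact ⟨one_mem _, fun b _ => by simp⟩
  | hmul x y _ _ hx hy =>
    refine ⟨mul_mem hx.1 hy.1, fun b hb => ?_⟩
    have e : ⁅x * y, b⁆ = x * ⁅y, b⁆ * x⁻¹ * ⁅x, b⁆ := by simp only [commutatorElement_def]; group
    rw [e]
    exact D.mul_mem ((mem_normalizer_iff.1 hx.1 _).1 (hy.2 b hb)) (hx.2 b hb)

/-- `C_H(O_p(H)) ≤ O_p(H)` in the ambient group. -/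
theorem hasCharP_iff (H : Subgroup G) :
    centralizer (Cfsg.pCore p ↥H : Set ↥H) ≤ Cfsg.pCore p ↥H ↔
      H ⊓ centralizer (Cfsg.pCoreOf p H : Set G) ≤ Cfsg.pCoreOf p H := by
  constructor
  · rintro h x ⟨hxH, hx⟩
    refine ⟨⟨x, hxH⟩, h ?_, rfl⟩
    rw [mem_centralizer_iff]
    intro y hy
    exact Subtype.ext (mem_centralizer_iff.1 hx (y : G) ⟨y, hy, rfl⟩)
  · intro h x hx
    obtain ⟨y, hy, hyx⟩ := h (x := (x : G)) ⟨x.2, mem_centralizer_iff.2 (by
      rintro _ ⟨y, hy, rfl⟩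
      exact congrArg Subtype.val (mem_centralizer_iff.1 hx y hy))⟩
    rwa [← Subtype.ext hyx]

end Cfsg.Agent.H60
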