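import Cfsg.Prelude.Def_LocalStructure
import Cfsg.Agent.H58.Amalgam
import Cfsg.Agent.H60.Basic
import Cfsg.Agent.Fusion.PResidual
import Mathlib.GroupTheory.Nilpotent

/-!
The subgroups V^(n) on the coset graph of an amalgam pair with strongly p-embedded residues.
-/

set_option autoImplicit false
set_option linter.style.haveILetI false

namespace Cfsg.Agent.H60

open Subgroup
open scoped commutatorElement

section general

variable {G : Type*} [Group G] {p : ℕ}

/-- Nilpotent action: a subgroup covered by `W ⊔ [V,Q]` lies in `W`. -/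
theorem le_of_le_sup_commutator {Q V W : Subgroup G} [Finite Q] [Fact p.Prime] (hQ : IsPGroup p Q)
    (hVQ : V ≤ Q) (hWQ : W ≤ Q) (hW : Q ≤ normalizer (W : Set G)) (h : V ≤ W ⊔ ⁅V, Q⁆) : V ≤ W := by
  haveI := hQ.isNilpotent
  obtain ⟨n, hn⟩ := (isNilpotent_iff_lowerCentralSeries Q).1 inferInstance
  have hC : ∀ k, Q.lowerCentralSeries k ≤ Q ∧ Q ≤ normalizer (Q.lowerCentralSeries k : Set G) := by
    intro k
    induction k with
    | zero => exact ⟨le_of_eq (Subgroup.lowerCentralSeries_zero _), by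
        rw [Subgroup.lowerCentralSeries_zero]; exact Subgroup.le_normalizer⟩
    | succ k ih =>
      have h1 : Q.lowerCentralSeries (k + 1) ≤ Q := by
        rw [Subgroup.lowerCentralSeries_succ]
        exact commutator_le_of_le_normalizer (le_trans ih.1 Subgroup.le_normalizer)
      refine ⟨h1, ?_⟩
      rw [le_normalizer_iff]
      intro q hq x hx
      have h2 : cj (Q.lowerCentralSeries (k + 1)) q ≤ Q.lowerCentralSeries (k + 1) := by
        rw [Subgroup.lowerCentralSeries_succ]
        show ((⁅Q.lowerCentralSeries k, Q⁆).map _) ≤ _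
        rw [map_commutator]
        exact commutator_mono (cj_eq_self_iff.2 (ih.2 hq)).le (cj_le_of_mem hq)
      exact h2 (mem_cj.2 (by simpa [mul_assoc] using hx))
  have hk : ∀ k, V ≤ W ⊔ Q.lowerCentralSeries k := by
    intro k
    induction k with
    | zero => rw [Subgroup.lowerCentralSeries_zero]; exact le_trans hVQ le_sup_right
    | succ k ih =>
      refine le_trans h (sup_le le_sup_left ?_)
      refine le_trans (commutator_mono ih le_rfl) ?_
      have hD : Q ≤ normalizer ((W ⊔ Q.lowerCentralSeries (k + 1) : Subgroup G) : Set G) :=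
        le_normalizer_sup hW (hC (k + 1)).2
      rw [show W ⊔ Q.lowerCentralSeries k = ⨆ b : Bool, cond b W (Q.lowerCentralSeries k) from
        (iSup_bool_eq (f := fun b => cond b W (Q.lowerCentralSeries k))).symm]
      refine iSup_commutator_le (fun b => ?_) (fun b => ?_)
      · cases b
        · exact le_trans (hC k).1 hD
        · exact le_trans hWQ hD
      · cases b
        · exact le_trans (le_of_eq (Subgroup.lowerCentralSeries_succ _ k).symm) le_sup_right
        · rw [commutator_comm]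
          exact le_trans (commutator_le_of_le_normalizer hW) le_sup_left
  have := hk n
  rwa [hn, sup_bot_eq] at this

theorem pResidualOf_le (L : Subgroup G) : (Cfsg.pResidual p ↥L).map L.subtype ≤ L := map_subtype_le _

theorem mem_pElementClosure {K : Subgroup G} {x : G} (hx : x ∈ K) (h : ∃ k, orderOf x = p ^ k) :
    x ∈ Cfsg.pElementClosure p K := Subgroup.subset_closure ⟨hx, h⟩

theorem pElementClosure_le (K : Subgroup G) : Cfsg.pElementClosure p K ≤ K :=
  (Subgroup.closure_le _).2 fun _ hx => hx.1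

theorem le_normalizer_pElementClosure (K : Subgroup G) :
    K ≤ normalizer (Cfsg.pElementClosure p K : Set G) := by
  rw [le_normalizer_iff]
  intro k hk x hx
  induction hx using Subgroup.closure_induction with
  | mem x hx =>
    obtain ⟨hxK, j, hj⟩ := hx
    refine mem_pElementClosure (K.mul_mem (K.mul_mem hk hxK) (K.inv_mem hk)) ⟨j, ?_⟩
    rw [← hj, show k * x * k⁻¹ = MulAut.conj k x from rfl, MulEquiv.orderOf_eq]
  | one => simp
  | mul x y _ _ hx hy =>
    rw [show k * (x * y) * k⁻¹ = (k * x * k⁻¹) * (k * y * k⁻¹) by group]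
    exact mul_mem hx hy
  | inv x _ hx =>
    rw [show k * x⁻¹ * k⁻¹ = (k * x * k⁻¹)⁻¹ by group]
    exact inv_mem hx

theorem isPGroup_le_pElementClosure [Fact p.Prime] {K T : Subgroup G} [Finite T] (hT : IsPGroup p T)
    (hTK : T ≤ K) : T ≤ Cfsg.pElementClosure p K := fun x hx => by
  obtain ⟨k, hk⟩ := IsPGroup.iff_orderOf.1 hT ⟨x, hx⟩
  exact mem_pElementClosure (hTK hx) ⟨k, by rw [← Subgroup.orderOf_mk x hx]; exact hk⟩

/-- Frattini: `K` is generated by `O^p(O^{p'}(K))`, a Sylow subgroup and its normalizer in `K`. -/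
theorem le_of_pResidual_frattini [Fact p.Prime] (K : Subgroup G) [Finite K] (T : Sylow p K)
    (W : Subgroup G)
    (hR : (Cfsg.pResidual p ↥(Cfsg.pElementClosure p K)).map (Cfsg.pElementClosure p K).subtype ≤ W)
    (hT : (T : Subgroup K).map K.subtype ≤ W)
    (hN : K ⊓ normalizer ((T : Subgroup K).map K.subtype : Set G) ≤ W) : K ≤ W := by
  set L := Cfsg.pElementClosure p K with hLdef
  have hLK : L ≤ K := pElementClosure_le K
  haveI : Finite L := Finite.of_injective _ (Subgroup.inclusion_injective hLK)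
  set TG := (T : Subgroup K).map K.subtype with hTG
  have hTK : TG ≤ K := map_subtype_le _
  haveI : Finite TG := Finite.of_injective _ (Subgroup.inclusion_injective hTK)
  have hTGp : IsPGroup p TG := T.2.map _
  have hTL : TG ≤ L := isPGroup_le_pElementClosure hTGp hTK
  have hLW : L ≤ W := by
    obtain ⟨P, hP⟩ := (hTGp.comap_subtype : IsPGroup p (TG.subgroupOf L)).exists_le_sylow
    have hPT : (P : Subgroup L).map L.subtype ≤ TG := by
      have h1 : ((P : Subgroup L).map L.subtype).subgroupOf K = (T : Subgroup K) := by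
        refine T.3 ((P.2.map _).comap_subtype) ?_
        intro x hx
        exact ⟨⟨(x : G), hTL ⟨x, hx, rfl⟩⟩, hP ⟨x, hx, rfl⟩, rfl⟩
      intro x hx
      refine ⟨⟨x, hLK (map_subtype_le _ hx)⟩, ?_, rfl⟩
      rw [← h1]; exact hx
    have h := congrArg (fun U : Subgroup L => U.map L.subtype) (Fusion.sylow_sup_pResidual P)
    simp only [Subgroup.map_sup, ← MonoidHom.range_eq_map, Subgroup.range_subtype] at h
    conv_lhs => rw [← h]
    exact sup_le (le_trans hPT hT) hR
  haveI : (L.subgroupOf K).Normal :=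
    (normal_subgroupOf_iff_le_normalizer hLK).2 (le_normalizer_pElementClosure K)
  have h := Sylow.normalizer_sup_eq_top' (N := L.subgroupOf K) T
    (fun x hx => mem_subgroupOf.2 (hTL ⟨x, hx, rfl⟩))
  intro x hx
  have hx' : (⟨x, hx⟩ : K) ∈ (⊤ : Subgroup K) := trivial
  rw [← h] at hx'
  have hle : normalizer ((T : Subgroup K) : Set K) ⊔ L.subgroupOf K ≤ W.subgroupOf K := by
    refine sup_le (fun y hy => hN ⟨y.2, ?_⟩) (Subgroup.comap_mono hLW)
    exact Subgroup.le_normalizer_map K.subtype ⟨y, hy, rfl⟩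
  exact hle hx'

theorem sylowCenterClosure_le (H : Subgroup G) : Cfsg.sylowCenterClosure p H ≤ H := by
  refine iSup_le fun S => (Subgroup.closure_le _).2 ?_
  rintro x ⟨hx, -⟩
  exact map_subtype_le _ hx.1

theorem sylowCenterClosure_cj_le [Fact p.Prime] (H : Subgroup G) [Finite H] (g : G) :
    cj (Cfsg.sylowCenterClosure p H) g ≤ Cfsg.sylowCenterClosure p (cj H g) := by
  unfold Cfsg.sylowCenterClosure cj
  rw [Subgroup.map_iSup]
  refine iSup_le fun S => ?_
  let e : H ≃* ↥(cj H g) := H.equivMapOfInjective _ (MulAut.conj g).injective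
  let S' : Sylow p ↥(cj H g) := S.mapSurjective (f := e.toMonoidHom) e.surjective
  refine le_trans ?_ (le_iSup _ S')
  have hS' : (S' : Subgroup ↥(cj H g)).map (cj H g).subtype = cj ((S : Subgroup H).map H.subtype) g := by
    show ((S : Subgroup H).map e.toMonoidHom).map _ = _
    rw [Subgroup.map_map]
    show _ = ((S : Subgroup H).map H.subtype).map _
    rw [Subgroup.map_map]
    rfl
  rw [hS']
  unfold Cfsg.omegaOne
  rw [MonoidHom.map_closure, Subgroup.closure_le]
  rintro _ ⟨x, ⟨⟨hxS, hxC⟩, hxp⟩, rfl⟩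
  refine Subgroup.subset_closure ⟨⟨⟨x, hxS, rfl⟩, ?_⟩, by rw [← map_pow, hxp, map_one]⟩
  rw [← cj_centralizer]
  exact ⟨x, hxC, rfl⟩

theorem sylowCenterClosure_ne_bot [hp : Fact p.Prime] (H : Subgroup G) [Finite H]
    (hdvd : p ∣ Nat.card H) : Cfsg.sylowCenterClosure p H ≠ ⊥ := by
  obtain ⟨S⟩ : Nonempty (Sylow p H) := inferInstance
  have hS : (S : Subgroup H) ≠ ⊥ := S.ne_bot_of_dvd_card hdvd
  haveI : Nontrivial ↥(S : Subgroup H) := (Subgroup.nontrivial_iff_ne_bot _).2 hS
  obtain ⟨z, hz, hzc, ho⟩ := PGroups.exists_mem_center_orderOf_eq S.2 ⊤ top_ne_bot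
  intro hbot
  have h1 : ((z : H) : G) ∈ Cfsg.sylowCenterClosure p H := by
    refine Subgroup.mem_iSup_of_mem S ?_
    refine Subgroup.subset_closure ⟨⟨⟨(z : H), z.2, rfl⟩, ?_⟩, ?_⟩
    · refine mem_centralizer_iff.2 ?_
      rintro _ ⟨y, hy, rfl⟩
      exact congrArg (fun t : ↥(S : Subgroup H) => ((t : H) : G)) (Subgroup.mem_center_iff.1 hzc ⟨y, hy⟩)
    · have h2 : z ^ p = 1 := orderOf_dvd_iff_pow_eq_one.1 ho.dvd
      exact congrArg (fun t : ↥(S : Subgroup H) => ((t : H) : G)) h2
  rw [hbot, Subgroup.mem_bot] at h1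
  have : z = 1 := Subtype.ext (Subtype.ext h1)
  rw [this, orderOf_one] at ho
  exact hp.out.one_lt.ne ho

end general

variable {X : Type*} [Group X] {p : ℕ} {M₁ M₂ : Subgroup X}

theorem stabilizer_smul_cj (g : X) (v : Cfsg.CosetVertex M₁ M₂) :
    MulAction.stabilizer X (g • v) = cj (MulAction.stabilizer X v) g := by
  ext x
  simp only [MulAction.mem_stabilizer_iff, mem_cj, mul_smul, inv_smul_eq_iff]

theorem finite_stabilizer (h : Cfsg.IsCharPAmalgamPair p M₁ M₂) (v : Cfsg.CosetVertex M₁ M₂) :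
    Finite (MulAction.stabilizer X v) := by
  haveI := h.2.1
  haveI := h.2.2.1
  rcases v with q | q <;> induction q using QuotientGroup.induction_on with | _ x => ?_
  · rw [H58.stabilizer_inl]; exact Finite.of_equiv _ (M₁.equivMapOfInjective _ (MulAut.conj x).injective).toEquiv
  · rw [H58.stabilizer_inr]; exact Finite.of_equiv _ (M₂.equivMapOfInjective _ (MulAut.conj x).injective).toEquiv

theorem dvd_card_stabilizer (h : Cfsg.IsCharPAmalgamPair p M₁ M₂) (v : Cfsg.CosetVertex M₁ M₂) :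
    p ∣ Nat.card (MulAction.stabilizer X v) := by
  rcases v with q | q <;> induction q using QuotientGroup.induction_on with | _ x => ?_
  · rw [H58.stabilizer_inl]; exact (card_cj M₁ x).symm ▸ h.2.2.2.1
  · rw [H58.stabilizer_inr]; exact (card_cj M₂ x).symm ▸ h.2.2.2.2.1

theorem cosetGraph_dist_smul_le (hconn : (Cfsg.cosetGraph M₁ M₂).Connected) (g : X)
    (a b : Cfsg.CosetVertex M₁ M₂) :
    (Cfsg.cosetGraph M₁ M₂).dist (g • a) (g • b) ≤ (Cfsg.cosetGraph M₁ M₂).dist a b := by
  obtain ⟨w, hw⟩ := hconn.exists_walk_length_eq_dist a b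
  let f : Cfsg.cosetGraph M₁ M₂ →g Cfsg.cosetGraph M₁ M₂ := ⟨fun v => g • v, fun h => H58.smul_adj g h⟩
  rw [← hw, ← SimpleGraph.Walk.length_map f w]
  exact SimpleGraph.dist_le (w.map f)

theorem vertexVIter_cj_le (h : Cfsg.IsCharPAmalgamPair p M₁ M₂) [Fact p.Prime] (g : X) (m : ℕ)
    (v : Cfsg.CosetVertex M₁ M₂) :
    cj (Cfsg.vertexVIter p M₁ M₂ m v) g ≤ Cfsg.vertexVIter p M₁ M₂ m (g • v) := by
  unfold Cfsg.vertexVIter cj
  rw [Subgroup.map_iSup]
  refine iSup_le fun μ => ?_
  haveI := finite_stabilizer h μ.1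
  refine le_trans (sylowCenterClosure_cj_le _ g) ?_
  rw [← stabilizer_smul_cj]
  exact le_iSup (fun μ : {μ // (Cfsg.cosetGraph M₁ M₂).dist (g • v) μ ≤ m} => Cfsg.vertexZ p μ.1)
    ⟨g • μ.1, le_trans (cosetGraph_dist_smul_le (H58.connected h.1.1) g _ _) μ.2⟩

theorem stabilizer_le_normalizer_vertexVIter (h : Cfsg.IsCharPAmalgamPair p M₁ M₂) [Fact p.Prime]
    (m : ℕ) (v : Cfsg.CosetVertex M₁ M₂) :
    MulAction.stabilizer X v ≤ normalizer (Cfsg.vertexVIter p M₁ M₂ m v : Set X) := by
  rw [le_normalizer_iff]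
  intro g hg x hx
  have h1 := vertexVIter_cj_le h g m v
  rw [MulAction.mem_stabilizer_iff.1 hg] at h1
  exact h1 (mem_cj.2 (by simpa [mul_assoc] using hx))

theorem vertexZ_le_vertexVIter (v μ : Cfsg.CosetVertex M₁ M₂) (m : ℕ)
    (hd : (Cfsg.cosetGraph M₁ M₂).dist v μ ≤ m) :
    Cfsg.vertexZ p μ ≤ Cfsg.vertexVIter p M₁ M₂ m v :=
  le_iSup (fun μ : {μ // (Cfsg.cosetGraph M₁ M₂).dist v μ ≤ m} => Cfsg.vertexZ p μ.1) ⟨μ, hd⟩

theorem vertexVIter_ne_bot (h : Cfsg.IsCharPAmalgamPair p M₁ M₂) [Fact p.Prime] (m : ℕ)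
    (v : Cfsg.CosetVertex M₁ M₂) : Cfsg.vertexVIter p M₁ M₂ m v ≠ ⊥ := fun hb => by
  haveI := finite_stabilizer h v
  refine sylowCenterClosure_ne_bot _ (dvd_card_stabilizer h v) (le_bot_iff.1 (hb ▸ ?_))
  exact vertexZ_le_vertexVIter v v m (by simp)

theorem vertexVIter_adj_le (hconn : (Cfsg.cosetGraph M₁ M₂).Connected)
    {l d : Cfsg.CosetVertex M₁ M₂} (hadj : (Cfsg.cosetGraph M₁ M₂).Adj l d) (m : ℕ) :
    Cfsg.vertexVIter p M₁ M₂ m d ≤ Cfsg.vertexVIter p M₁ M₂ (m + 1) l := by
  refine iSup_le fun μ => vertexZ_le_vertexVIter l μ.1 (m + 1) ?_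
  have h1 := hconn.dist_triangle (u := l) (v := d) (w := μ.1)
  have h2 := SimpleGraph.dist_le hadj.toWalk
  have h3 := μ.2
  simp at h2
  omega

/-- A common Sylow subgroup at an edge, whose normalizers lie in the edge stabilizer. -/
theorem exists_edge_sylow (h : Cfsg.IsSpeAmalgamPair p M₁ M₂) [Fact p.Prime]
    {l d : Cfsg.CosetVertex M₁ M₂} (hadj : (Cfsg.cosetGraph M₁ M₂).Adj l d) :
    ∃ T : Sylow p ↥(MulAction.stabilizer X l),
      (T : Subgroup _).map (MulAction.stabilizer X l).subtype ≤ MulAction.stabilizer X d ∧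
      MulAction.stabilizer X l ⊓ normalizer ((T : Subgroup _).map (MulAction.stabilizer X l).subtype : Set X)
        ≤ MulAction.stabilizer X d ∧
      ∀ T' : Sylow p ↥(MulAction.stabilizer X d), Nat.card T' = Nat.card T := by
  haveI := h.1.2.1
  haveI := h.1.2.2.1
  haveI : Finite ↥(M₁ ⊓ M₂ : Subgroup X) := Finite.of_injective _ (Subgroup.inclusion_injective inf_le_left)
  obtain ⟨S⟩ : Nonempty (Sylow p ↥(M₁ ⊓ M₂ : Subgroup X)) := inferInstance
  obtain ⟨hNeq, hNle⟩ := h.2.1 S
  set SX := (S : Subgroup ↥(M₁ ⊓ M₂ : Subgroup X)).map (M₁ ⊓ M₂).subtype with hSX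
  have hSX12 : SX ≤ M₁ ⊓ M₂ := map_subtype_le _
  -- the statement at a translate of the base edge
  have key : ∀ (A B : Subgroup X), SX ≤ A → SX ≤ B → (A ⊓ normalizer (SX : Set X) ≤ B) → Finite A →
      Finite B → (∀ P : Sylow p A, Nat.card S = Nat.card P) → (∀ P : Sylow p B, Nat.card S = Nat.card P) →
      ∀ x : X, ∀ A' B' : Subgroup X, A' = cj A x → B' = cj B x →
      ∃ T : Sylow p ↥A', (T : Subgroup _).map A'.subtype ≤ B' ∧
        A' ⊓ normalizer ((T : Subgroup _).map A'.subtype : Set X) ≤ B' ∧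
        ∀ T' : Sylow p ↥B', Nat.card T' = Nat.card T := by
    intro A B hA hB hN fA fB cA cB x A' B' hA' hB'
    subst hA' hB'
    haveI := fA
    haveI := fB
    obtain ⟨P, hP⟩ := ((S.2.map _).comap_subtype : IsPGroup p (SX.subgroupOf A)).exists_le_sylow
    have hcS : Nat.card SX = Nat.card S :=
      (Nat.card_congr (Subgroup.equivMapOfInjective _ _ (Subgroup.subtype_injective _)).toEquiv).symm
    have hPmap : (P : Subgroup A).map A.subtype = SX := by
      have h1 : SX ≤ (P : Subgroup A).map A.subtype := fun y hy => ⟨⟨y, hA hy⟩, hP hy, rfl⟩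
      haveI : Finite ↥((P : Subgroup A).map A.subtype) :=
        Finite.of_injective _ (Subgroup.inclusion_injective (map_subtype_le (P : Subgroup A)))
      refine (eq_of_le_of_card_ge h1 ?_).symm
      rw [hcS, cA P]
      exact le_of_eq (Nat.card_congr (Subgroup.equivMapOfInjective _ _ (Subgroup.subtype_injective _)).toEquiv).symm
    let eA : A ≃* ↥(cj A x) := A.equivMapOfInjective _ (MulAut.conj x).injective
    let T : Sylow p ↥(cj A x) := P.mapSurjective (f := eA.toMonoidHom) eA.surjective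
    have hT : (T : Subgroup ↥(cj A x)).map (cj A x).subtype = cj SX x := by
      rw [← hPmap]
      show ((P : Subgroup A).map eA.toMonoidHom).map _ = ((P : Subgroup A).map A.subtype).map _
      rw [Subgroup.map_map, Subgroup.map_map]; rfl
    refine ⟨T, hT ▸ cj_mono hB x, ?_, fun T' => ?_⟩
    · rw [hT, ← cj_normalizer, ← cj_inf]; exact cj_mono hN x
    · haveI : Finite ↥(cj B x) := Finite.of_equiv _ (B.equivMapOfInjective _ (MulAut.conj x).injective).toEquiv
      let eB : B ≃* ↥(cj B x) := B.equivMapOfInjective _ (MulAut.conj x).injective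
      obtain ⟨P'⟩ : Nonempty (Sylow p B) := inferInstance
      let T'' : Sylow p ↥(cj B x) := P'.mapSurjective (f := eB.toMonoidHom) eB.surjective
      have e1 : Nat.card T'' = Nat.card P' :=
        (Nat.card_congr (Subgroup.equivMapOfInjective _ eB.toMonoidHom eB.injective).toEquiv).symm
      have e2 : Nat.card T = Nat.card P :=
        (Nat.card_congr (Subgroup.equivMapOfInjective _ eA.toMonoidHom eA.injective).toEquiv).symm
      calc Nat.card T' = Nat.card T'' := Nat.card_congr (Sylow.equiv T' T'').toEquiv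
        _ = Nat.card P := by rw [e1, ← cB P', cA P]
        _ = Nat.card T := e2.symm
  obtain ⟨x, ⟨rfl, rfl⟩ | ⟨rfl, rfl⟩⟩ := H58.exists_eq_of_adj hadj
  · refine key M₁ M₂ (hSX12.trans inf_le_left) (hSX12.trans inf_le_right) (hNle.trans inf_le_right)
      inferInstance inferInstance (fun P => ?_) (fun P => ?_) x _ _ ?_ ?_
    · obtain ⟨P'⟩ : Nonempty (Sylow p M₂) := inferInstance
      exact (h.1.2.2.2.2.2.1 S P P').1
    · obtain ⟨P'⟩ : Nonempty (Sylow p M₁) := inferInstance
      exact (h.1.2.2.2.2.2.1 S P' P).2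
    · rw [stabilizer_smul_cj, H58.stabilizer_inl_one]
    · rw [stabilizer_smul_cj, H58.stabilizer_inr_one]
  · refine key M₂ M₁ (hSX12.trans inf_le_right) (hSX12.trans inf_le_left)
      ((hNeq ▸ hNle).trans inf_le_left) inferInstance inferInstance (fun P => ?_) (fun P => ?_) x _ _ ?_ ?_
    · obtain ⟨P'⟩ : Nonempty (Sylow p M₁) := inferInstance
      exact (h.1.2.2.2.2.2.1 S P' P).2
    · obtain ⟨P'⟩ : Nonempty (Sylow p M₂) := inferInstance
      exact (h.1.2.2.2.2.2.1 S P P').1
    · rw [stabilizer_smul_cj, H58.stabilizer_inr_one]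
    · rw [stabilizer_smul_cj, H58.stabilizer_inl_one]

/-- No nontrivial subgroup of an edge stabilizer is normalized by both ends. -/
theorem eq_bot_of_edge (h : Cfsg.IsAmalgamPair M₁ M₂) {l d : Cfsg.CosetVertex M₁ M₂}
    (hadj : (Cfsg.cosetGraph M₁ M₂).Adj l d) {W : Subgroup X}
    (hW : W ≤ Cfsg.edgeStabilizer l d)
    (hl : MulAction.stabilizer X l ≤ normalizer (W : Set X))
    (hd : MulAction.stabilizer X d ≤ normalizer (W : Set X)) : W = ⊥ := by
  refine H58.eq_bot_of_transitive_normalizer h l d hadj W hW (fun a b ha hb => ?_) (fun a b ha hb => ?_)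
  · obtain ⟨g, hg, e⟩ := H58.exists_smul_eq_of_adj ha hb
    exact ⟨g, ⟨hl hg, hg⟩, e⟩
  · obtain ⟨g, hg, e⟩ := H58.exists_smul_eq_of_adj ha hb
    exact ⟨g, ⟨hd hg, hg⟩, e⟩

/-- Every `V^(n+1)` at a vertex is generated by the translates of `V^(n)` at one neighbour. -/
theorem vertexVIter_succ_le_iSup (h : Cfsg.IsSpeAmalgamPair p M₁ M₂) [Fact p.Prime]
    {l d : Cfsg.CosetVertex M₁ M₂} (hadj : (Cfsg.cosetGraph M₁ M₂).Adj l d) (m : ℕ) :
    Cfsg.vertexVIter p M₁ M₂ (m + 1) l ≤
      ⨆ g : MulAction.stabilizer X l, cj (Cfsg.vertexVIter p M₁ M₂ m d) (g : X) := by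
  haveI := finite_stabilizer h.1 l
  haveI := finite_stabilizer h.1 d
  have hconn := H58.connected h.1.1.1
  have hcj : ∀ (g : MulAction.stabilizer X l) (v : Cfsg.CosetVertex M₁ M₂),
      (g : X) • d = v → Cfsg.vertexVIter p M₁ M₂ m v ≤
        ⨆ g : MulAction.stabilizer X l, cj (Cfsg.vertexVIter p M₁ M₂ m d) (g : X) := by
    intro g v hv
    refine le_trans ?_ (le_iSup _ g)
    rw [le_cj_iff]
    refine le_trans (vertexVIter_cj_le h.1 _ m v) (le_of_eq ?_)
    rw [← hv, inv_smul_smul]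
  refine iSup_le fun μ => ?_
  rcases eq_or_ne μ.1 l with he | hne
  · rw [he]
    obtain ⟨T, hTd, -, hTc⟩ := exists_edge_sylow h hadj
    refine iSup_le fun S => ?_
    obtain ⟨g, hg⟩ := MulAction.exists_smul_eq ↥(MulAction.stabilizer X l) T S
    refine le_trans ?_ (hcj g ((g : X) • d) rfl)
    refine le_trans ?_ (vertexZ_le_vertexVIter ((g : X) • d) ((g : X) • d) m (by simp))
    set d' := (g : X) • d with hd'
    haveI := finite_stabilizer h.1 d'
    set SX := (S : Subgroup ↥(MulAction.stabilizer X l)).map (MulAction.stabilizer X l).subtype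
    have hSd : SX ≤ MulAction.stabilizer X d' := by
      rintro _ ⟨s, hs, rfl⟩
      rw [hd', stabilizer_smul_cj]
      rw [← hg] at hs
      obtain ⟨t, ht, rfl⟩ := hs
      exact ⟨(t : X), hTd ⟨t, ht, rfl⟩, rfl⟩
    obtain ⟨P, hP⟩ := ((S.2.map _).comap_subtype :
      IsPGroup p (SX.subgroupOf (MulAction.stabilizer X d'))).exists_le_sylow
    refine le_trans ?_ (le_iSup _ P)
    have hcard : Nat.card P = Nat.card SX := by
      haveI := finite_stabilizer h.1 d
      have hPc : Nat.card P = Nat.card T := by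
        let e : ↥(MulAction.stabilizer X d) ≃* ↥(MulAction.stabilizer X d') :=
          ((MulAction.stabilizer X d).equivMapOfInjective _ (MulAut.conj (g : X)).injective).trans
            (MulEquiv.subgroupCongr (stabilizer_smul_cj (g : X) d).symm)
        obtain ⟨P0⟩ : Nonempty (Sylow p ↥(MulAction.stabilizer X d)) := inferInstance
        rw [← hTc P0]
        let P1 := P0.mapSurjective (f := e.toMonoidHom) e.surjective
        rw [Nat.card_congr (Sylow.equiv P P1).toEquiv]
        exact (Nat.card_congr (Subgroup.equivMapOfInjective _ e.toMonoidHom e.injective).toEquiv).symm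
      rw [hPc, Nat.card_congr (Sylow.equiv T S).toEquiv]
      exact Nat.card_congr (Subgroup.equivMapOfInjective _ _ (Subgroup.subtype_injective _)).toEquiv
    have heq : SX = (P : Subgroup _).map (MulAction.stabilizer X d').subtype := by
      haveI : Finite ↥((P : Subgroup _).map (MulAction.stabilizer X d').subtype) :=
        Finite.of_injective _ (Subgroup.inclusion_injective (map_subtype_le _))
      refine eq_of_le_of_card_ge (fun y hy => ⟨⟨y, hSd hy⟩, hP hy, rfl⟩) ?_
      rw [← hcard]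
      exact le_of_eq (Nat.card_congr (Subgroup.equivMapOfInjective _ _ (Subgroup.subtype_injective _)).toEquiv).symm
    show Cfsg.omegaOne p (SX ⊓ centralizer (SX : Set X)) ≤ _
    rw [heq]
  · obtain ⟨v, hv⟩ := μ
    obtain ⟨w, hw⟩ := hconn.exists_walk_length_eq_dist l v
    cases w with
    | nil => exact absurd rfl hne
    | cons ha w' =>
      obtain ⟨g, hg, he⟩ := H58.exists_smul_eq_of_adj hadj ha
      refine le_trans (vertexZ_le_vertexVIter _ v m ?_) (hcj ⟨g, hg⟩ _ he)
      have h1 := SimpleGraph.dist_le w'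
      simp at hw
      omega

/-- If `[V^(m+1), O^p(O^{p'}(G_l))]` lies in a part `W` of `V^(m+1)` containing one neighbour's
`V^(m)` and normalized by the edge stabilizer, then `V^(m+1) ≤ W`. -/
theorem vertexVIter_le_of_residual (h : Cfsg.IsSpeAmalgamPair p M₁ M₂) [Fact p.Prime]
    {l d : Cfsg.CosetVertex M₁ M₂} (hadj : (Cfsg.cosetGraph M₁ M₂).Adj l d) (m : ℕ) {W : Subgroup X}
    (hW1 : Cfsg.vertexVIter p M₁ M₂ m d ≤ W) (hW2 : W ≤ Cfsg.vertexVIter p M₁ M₂ (m + 1) l)
    (hE : Cfsg.edgeStabilizer l d ≤ normalizer (W : Set X))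
    (hR : ⁅Cfsg.vertexVIter p M₁ M₂ (m + 1) l,
      (Cfsg.pResidual p ↥(Cfsg.pElementClosure p (MulAction.stabilizer X l))).map
        (Cfsg.pElementClosure p (MulAction.stabilizer X l)).subtype⁆ ≤ W) :
    Cfsg.vertexVIter p M₁ M₂ (m + 1) l ≤ W := by
  haveI := finite_stabilizer h.1 l
  set K := MulAction.stabilizer X l with hK
  obtain ⟨T, hTd, hTN, -⟩ := exists_edge_sylow h hadj
  set R := (Cfsg.pResidual p ↥(Cfsg.pElementClosure p K)).map (Cfsg.pElementClosure p K).subtype
  have hRW : R ≤ normalizer (W : Set X) := by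
    rw [le_normalizer_iff]
    intro r hr w hw
    have h1 : ⁅w, r⁆ ∈ W := hR (commutator_mem_commutator (hW2 hw) hr)
    rw [commutatorElement_def] at h1
    have h2 := W.mul_mem (W.inv_mem hw) h1
    have h3 := W.inv_mem h2
    simpa [mul_assoc] using h3
  have hKW : K ≤ normalizer (W : Set X) := by
    refine le_of_pResidual_frattini K T _ hRW ?_ ?_
    · exact le_trans (le_inf (map_subtype_le _) hTd) hE
    · exact le_trans (le_inf inf_le_left hTN) hE
  refine le_trans (vertexVIter_succ_le_iSup h hadj m) (iSup_le fun g => ?_)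
  exact le_trans (cj_mono hW1 _) (cj_eq_self_iff.2 (hKW g.2)).le

/-- `V^(m+1)` at a vertex, if inside `Q`, is not `V^(m)` of a neighbour. -/
theorem not_vertexVIter_succ_le (h : Cfsg.IsSpeAmalgamPair p M₁ M₂) [Fact p.Prime]
    {l d : Cfsg.CosetVertex M₁ M₂} (hadj : (Cfsg.cosetGraph M₁ M₂).Adj l d) (m : ℕ)
    (hQd : Cfsg.vertexQ p l ≤ MulAction.stabilizer X d)
    (hVQ : Cfsg.vertexVIter p M₁ M₂ (m + 1) l ≤ Cfsg.vertexQ p l) :
    ¬ Cfsg.vertexVIter p M₁ M₂ (m + 1) l ≤ Cfsg.vertexVIter p M₁ M₂ m d := by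
  intro hle
  have heq : Cfsg.vertexVIter p M₁ M₂ (m + 1) l = Cfsg.vertexVIter p M₁ M₂ m d :=
    le_antisymm hle (vertexVIter_adj_le (H58.connected h.1.1.1) hadj m)
  refine vertexVIter_ne_bot h.1 (m + 1) l (eq_bot_of_edge h.1.1 hadj ?_ ?_ ?_)
  · exact le_inf (le_trans hVQ (pCoreOf_le _)) (le_trans hVQ hQd)
  · exact stabilizer_le_normalizer_vertexVIter h.1 _ _
  · rw [heq]; exact stabilizer_le_normalizer_vertexVIter h.1 _ _

theorem vertexQ_le_stabilizer (h : Cfsg.IsSpeAmalgamPair p M₁ M₂) [Fact p.Prime]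
    {l d : Cfsg.CosetVertex M₁ M₂} (hadj : (Cfsg.cosetGraph M₁ M₂).Adj l d) :
    Cfsg.vertexQ p l ≤ MulAction.stabilizer X d := by
  haveI := finite_stabilizer h.1 l
  obtain ⟨T, hTd, -, -⟩ := exists_edge_sylow h hadj
  exact le_trans (Subgroup.map_mono (Cores.pCore_le_sylow T)) hTd

end Cfsg.Agent.H60
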