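import Cfsg.Agent.H60.Basic
import Cfsg.Agent.H30.Subnormal

/-!
A minimal normal subgroup normalizes every subnormal subgroup.
-/

set_option autoImplicit false
set_option linter.style.haveILetI false

namespace Cfsg.Agent.H60

open Subgroup

universe u

/-- `N` is a minimal normal subgroup. -/
def IsMinNormal {G : Type u} [Group G] (N : Subgroup G) : Prop :=
  N.Normal ∧ N ≠ ⊥ ∧ ∀ K : Subgroup G, K.Normal → K ≤ N → K ≠ ⊥ → K = N

theorem isMinNormal_map_equiv {G H : Type u} [Group G] [Group H] (e : G ≃* H) {N : Subgroup G}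
    (h : IsMinNormal N) : IsMinNormal (N.map e.toMonoidHom) := by
  obtain ⟨hn, hne, hmin⟩ := h
  refine ⟨hn.map _ e.surjective, fun h => hne ((Subgroup.map_eq_bot_iff_of_injective _ e.injective).1 h),
    fun K hK hle hKne => ?_⟩
  have hcomap : (K.comap e.toMonoidHom).map e.toMonoidHom = K := map_comap_eq_self_of_surjective e.surjective K
  have h1 := hmin (K.comap e.toMonoidHom) (hK.comap _) ?_ ?_
  · rw [← h1, hcomap]
  · intro x hx
    obtain ⟨y, hy, he⟩ := hle (Subgroup.mem_comap.1 hx)
    exact e.injective he ▸ hy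
  · intro h; exact hKne (by rw [← hcomap, h, Subgroup.map_bot])

theorem minNormal_le_normalizer_aux : ∀ (n : ℕ) (G : Type u) [Group G] [Finite G], Nat.card G ≤ n →
    ∀ N H : Subgroup G, IsMinNormal N → H.IsSubnormal → N ≤ normalizer (H : Set G) := by
  intro n
  induction n with
  | zero => intro G _ _ hc; exact absurd hc (Nat.not_le.2 Nat.card_pos)
  | succ n ih =>
    intro G _ _ hc N H ⟨hNn, hN1, hmin⟩ hH
    rcases eq_or_ne H ⊤ with rfl | hne
    · exact le_top.trans le_normalizer
    obtain ⟨X, hXn, hHX, hX⟩ := hH.exists_normal_and_le_and_lt_top_of_ne hne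
    by_cases hNX : N ≤ X
    · have hcX : Nat.card X ≤ n := by
        have h1 : Nat.card X ∣ Nat.card G := card_subgroup_dvd_card X
        have h2 : Nat.card X ≠ Nat.card G := fun h => hX.ne (eq_top_of_card_eq X h)
        have := Nat.lt_of_le_of_ne (Nat.le_of_dvd Nat.card_pos h1) h2
        omega
      set T := sSup {K : Subgroup X | IsMinNormal K ∧ K ≤ N.subgroupOf X} with hT
      haveI hTn : (T.map X.subtype).Normal := by
        constructor
        intro z hz g
        obtain ⟨t, ht, rfl⟩ := hz
        have hle : T ≤ T.comap (MulAut.conjNormal (H := X) g).toMonoidHom := by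
          refine sSup_le fun K hK => ?_
          rw [← Subgroup.map_le_iff_le_comap]
          refine le_sSup ⟨isMinNormal_map_equiv _ hK.1, ?_⟩
          rintro _ ⟨k, hk, rfl⟩
          show g * (k : G) * g⁻¹ ∈ N
          exact hNn.conj_mem _ (hK.2 hk) g
        exact ⟨_, hle ht, rfl⟩
      have hne' : T.map X.subtype ≠ ⊥ := by
        haveI : (N.subgroupOf X).Normal := normal_subgroupOf
        have hb : N.subgroupOf X ≠ ⊥ := fun h => hN1 (by
          rw [← map_subgroupOf_eq_of_le hNX, h, Subgroup.map_bot])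
        obtain ⟨K, hKle, hK⟩ := Finite.exists_le_minimal
          (p := fun K : Subgroup X => K.Normal ∧ K ≠ ⊥) (a := N.subgroupOf X) ⟨inferInstance, hb⟩
        intro h
        rw [Subgroup.map_eq_bot_iff_of_injective _ X.subtype_injective] at h
        apply hK.1.2
        rw [eq_bot_iff, ← h]
        exact le_sSup ⟨⟨hK.1.1, hK.1.2, fun L h1 h2 h3 => le_antisymm h2 (hK.2 ⟨h1, h3⟩ h2)⟩, hKle⟩
      have hTN : T.map X.subtype = N := hmin _ hTn
        ((map_mono (sSup_le fun K hK => hK.2)).trans (le_of_eq (map_subgroupOf_eq_of_le hNX))) hne'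
      have hTle : T ≤ normalizer ((H.subgroupOf X : Subgroup X) : Set X) :=
        sSup_le fun K hK => ih X hcX K _ hK.1 hH.subgroupOf
      rw [← hTN]
      refine (map_mono hTle).trans ?_
      have h2 := le_normalizer_map (f := X.subtype) (H := H.subgroupOf X)
      rwa [map_subgroupOf_eq_of_le hHX] at h2
    · have hb : N ⊓ X = ⊥ := by
        by_contra h
        exact hNX (le_of_le_of_eq' inf_le_right (hmin (N ⊓ X) inferInstance inf_le_left h))
      intro a ha
      refine centralizer_le_normalizer _ (mem_centralizer_iff.2 fun x hx => ?_)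
      have h1 : a * x * a⁻¹ * x⁻¹ ∈ N ⊓ X :=
        ⟨by have := N.mul_mem ha (hNn.conj_mem _ (N.inv_mem ha) x); simpa [mul_assoc] using this,
          X.mul_mem (hXn.conj_mem _ (hHX hx) a) (X.inv_mem (hHX hx))⟩
      rw [hb, Subgroup.mem_bot, mul_inv_eq_one, mul_inv_eq_iff_eq_mul] at h1
      exact h1.symm
where
  le_of_le_of_eq' {G : Type u} [Group G] {A B C : Subgroup G} (h : A ≤ B) (e : A = C) : C ≤ B := e ▸ h

theorem minNormal_le_normalizer {G : Type u} [Group G] [Finite G] {N H : Subgroup G}
    (hN : IsMinNormal N) (hH : H.IsSubnormal) : N ≤ normalizer (H : Set G) :=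
  minNormal_le_normalizer_aux _ G le_rfl N H hN hH

end Cfsg.Agent.H60
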