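import Cfsg.Prelude.Def_LocalEven
import Cfsg.Agent.H60.MinNormalSubnormal
import Cfsg.Agent.Cores.PCore
import Cfsg.Agent.Fusion.PResidual
import Cfsg.Agent.Coprime.Centralize

/-!
Basic structure of p-minimal groups.
-/

set_option autoImplicit false
set_option linter.style.haveILetI false

namespace Cfsg.Agent.H60

open Subgroup

universe u

variable {P : Type u} [Group P] [Finite P] {p : ℕ} [Fact p.Prime]
variable {S : Sylow p P} {M : Subgroup P}

theorem pMin_le (hP : Cfsg.IsPMinimal p P) (hM : IsCoatom M) (hSM : (S : Subgroup P) ≤ M)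
    {H : Subgroup P} (hSH : (S : Subgroup P) ≤ H) (hH : H ≠ ⊤) : H ≤ M := by
  rcases eq_top_or_exists_le_coatom H with h | ⟨X, hX, hHX⟩
  · exact absurd h hH
  · obtain ⟨Y, -, huniq⟩ := (hP S).2
    rwa [huniq M ⟨hM, hSM⟩, ← huniq X ⟨hX, hSH.trans hHX⟩]

theorem pMin_sup_eq_top (hP : Cfsg.IsPMinimal p P) (hM : IsCoatom M) (hSM : (S : Subgroup P) ≤ M)
    {N : Subgroup P} (hN : ¬ N ≤ M) : (S : Subgroup P) ⊔ N = ⊤ := by
  by_contra h
  exact hN (le_sup_right.trans (pMin_le hP hM hSM le_sup_left h))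

theorem pMin_dichotomy (hP : Cfsg.IsPMinimal p P) (hM : IsCoatom M) (hSM : (S : Subgroup P) ≤ M)
    {N : Subgroup P} (hN : N.Normal) : Cfsg.pResidual p P ≤ N ∨ N ≤ M.normalCore := by
  by_cases h : N ≤ M
  · exact Or.inr (normal_le_normalCore.2 h)
  · refine Or.inl (Fusion.pResidual_le.2 fun g hg => ?_)
    have htop := pMin_sup_eq_top hP hM hSM h
    set f := QuotientGroup.mk' N
    have hsurj : (S : Subgroup P).map f = ⊤ := by
      have h1 := congrArg (Subgroup.map f) htop
      rw [Subgroup.map_sup, Subgroup.map_top_of_surjective _ (QuotientGroup.mk'_surjective N)] at h1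
      rwa [show N.map f = ⊥ from (Subgroup.map_eq_bot_iff _).2 (QuotientGroup.ker_mk' N).ge, sup_bot_eq] at h1
    obtain ⟨s, hs, he⟩ : f g ∈ (S : Subgroup P).map f := hsurj ▸ mem_top _
    obtain ⟨k, hk⟩ := S.isPGroup' ⟨s, hs⟩
    have h1 : f g ^ p ^ k = 1 := by
      rw [← he, ← map_pow, show s ^ p ^ k = 1 from congrArg Subtype.val hk, map_one]
    have h2 : orderOf (f g) = 1 := Nat.eq_one_of_dvd_coprimes (hg.pow_right k) (orderOf_map_dvd f g)
      (orderOf_dvd_of_pow_eq_one h1)
    exact (QuotientGroup.eq_one_iff g).1 (orderOf_eq_one_iff.1 h2)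

theorem pMin_residual_not_le (hM : IsCoatom M) (hSM : (S : Subgroup P) ≤ M) :
    ¬ Cfsg.pResidual p P ≤ M :=
  fun h => hM.1 (top_le_iff.1 ((Fusion.sylow_sup_pResidual S).ge.trans (sup_le hSM h)))

theorem pMin_core_lt (hM : IsCoatom M) (hSM : (S : Subgroup P) ≤ M) :
    M.normalCore < Cfsg.pResidual p P ⊔ M.normalCore :=
  lt_of_le_of_ne le_sup_right fun h => pMin_residual_not_le hM hSM
    ((le_sup_left.trans h.ge).trans M.normalCore_le)

/-- A normal subgroup whose Sylow subgroup `N ∩ S` has all of `S` in its normalizer. -/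
theorem pMin_inf_sylow_le_pCore (hP : Cfsg.IsPMinimal p P) (hM : IsCoatom M) (hSM : (S : Subgroup P) ≤ M)
    {N : Subgroup P} [hN : N.Normal] (hNM : N ≤ M) : N ⊓ (S : Subgroup P) ≤ Cfsg.pCore p P := by
  obtain ⟨T, hT⟩ := ((S.isPGroup'.to_inf_right : IsPGroup p (N ⊓ (S : Subgroup P) : Subgroup P)).comap_of_injective
    N.subtype N.subtype_injective).exists_le_sylow
  have heq : (T : Subgroup N).map N.subtype = N ⊓ (S : Subgroup P) := by
    refine le_antisymm ?_ fun z hz => ⟨⟨z, hz.1⟩, hT hz, rfl⟩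
    obtain ⟨R, hR⟩ := (T.isPGroup'.map N.subtype).exists_le_sylow
    obtain ⟨g, hg⟩ := MulAction.exists_smul_eq P S R
    have hcard : Nat.card ((T : Subgroup N).map N.subtype) ≤ Nat.card (N ⊓ (S : Subgroup P) : Subgroup P) := by
      rw [← card_cj (N ⊓ (S : Subgroup P)) g]
      refine card_le_of_le fun z hz => ?_
      rw [mem_cj]
      refine ⟨by simpa using hN.conj_mem _ (map_subtype_le _ hz) g⁻¹, ?_⟩
      have h1 := hR hz
      rw [← hg] at h1
      obtain ⟨s, hs, rfl⟩ := h1
      simpa [mul_assoc] using hs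
    exact (Subgroup.eq_of_le_of_card_ge (show N ⊓ (S : Subgroup P) ≤ (T : Subgroup N).map N.subtype from
      fun z hz => ⟨⟨z, hz.1⟩, hT hz, rfl⟩) hcard).ge
  have hfr := Sylow.normalizer_sup_eq_top T
  rw [heq] at hfr
  have hS : (S : Subgroup P) ≤ normalizer ((N ⊓ (S : Subgroup P) : Subgroup P) : Set P) :=
    le_normalizer_inf (le_normalizer.trans (le_top.trans (normalizer_eq_top_iff.2 hN).ge)) le_normalizer
  have htop : normalizer ((N ⊓ (S : Subgroup P) : Subgroup P) : Set P) = ⊤ := by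
    by_contra h
    exact hM.1 (top_le_iff.1 (hfr ▸ sup_le (pMin_le hP hM hSM hS h) hNM))
  haveI := normalizer_eq_top_iff.1 htop
  exact Cores.le_pCore S.isPGroup'.to_inf_right

theorem pMin_middle (hP : Cfsg.IsPMinimal p P) (hM : IsCoatom M) (hSM : (S : Subgroup P) ≤ M)
    {N : Subgroup P} (hN : N.Normal) (h1 : M.normalCore ≤ N) (h2 : N ≤ Cfsg.pResidual p P ⊔ M.normalCore) :
    N = M.normalCore ∨ N = Cfsg.pResidual p P ⊔ M.normalCore := by
  rcases pMin_dichotomy hP hM hSM hN with h | h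
  · exact Or.inr (le_antisymm h2 (sup_le h h1))
  · exact Or.inl (le_antisymm h h1)

/-- A subnormal subgroup inside `M` meets `S` inside `O_p(P)`. -/
theorem pMin_subnormal (hP : Cfsg.IsPMinimal p P) (hM : IsCoatom M) (hSM : (S : Subgroup P) ≤ M)
    {N : Subgroup P} (hN : N.IsSubnormal) (hNM : N ≤ M) : N ⊓ (S : Subgroup P) ≤ Cfsg.pCore p P := by
  set F := M.normalCore with hF
  set π := QuotientGroup.mk' F with hπ
  set K := sSup {L : Subgroup P | ∃ s ∈ (S : Subgroup P), L = cj N s} with hK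
  have hKs : K.IsSubnormal := H30.isSubnormal_sSup fun L hL => by
    obtain ⟨s, -, rfl⟩ := hL
    exact hN.map (f := (MulAut.conj s).toMonoidHom) (MulAut.conj s).surjective
  have hKM : K ≤ M := sSup_le fun L hL => by
    obtain ⟨s, hs, rfl⟩ := hL
    exact (cj_mono hNM s).trans (cj_le_of_mem (hSM hs))
  have hNK : N ≤ K := le_sSup ⟨1, one_mem _, (cj_one N).symm⟩
  have hSK : (S : Subgroup P) ≤ normalizer (K : Set P) := by
    rw [le_normalizer_iff]
    intro s hs z hz
    have hle : K ≤ K.comap (MulAut.conj s).toMonoidHom := sSup_le fun L hL => by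
      obtain ⟨t, ht, rfl⟩ := hL
      rw [← Subgroup.map_le_iff_le_comap]
      exact le_sSup ⟨s * t, mul_mem hs ht, cj_cj N t s⟩
    exact hle hz
  set Rb := (Cfsg.pResidual p P ⊔ F).map π with hRb
  have hker : π.ker = F := QuotientGroup.ker_mk' F
  have hsur : Function.Surjective π := QuotientGroup.mk'_surjective F
  have hmin : IsMinNormal Rb := by
    refine ⟨(inferInstance : (Cfsg.pResidual p P ⊔ F).Normal).map _ hsur, ?_, fun L hL hle hne => ?_⟩
    · rw [hRb, ne_eq, Subgroup.map_eq_bot_iff, hker]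
      exact fun h => (pMin_core_lt (S := S) hM hSM).not_ge h
    · have h1 : F ≤ L.comap π := le_of_eq_of_le hker.symm (ker_le_comap π L)
      have h2 : L.comap π ≤ Cfsg.pResidual p P ⊔ F := by
        have := Subgroup.comap_mono (f := π) hle
        rwa [hRb, comap_map_eq, hker, sup_eq_left.2 le_sup_right] at this
      rcases pMin_middle hP hM hSM (hL.comap π) h1 h2 with h | h
      · refine absurd ?_ hne
        rw [← map_comap_eq_self_of_surjective hsur L, h, Subgroup.map_eq_bot_iff, hker]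
      · rw [← map_comap_eq_self_of_surjective hsur L, h]
  have hle : Rb ≤ normalizer ((K.map π : Subgroup _) : Set _) :=
    minNormal_le_normalizer hmin (hKs.map hsur)
  have hSle : (S : Subgroup P).map π ≤ normalizer ((K.map π : Subgroup _) : Set _) :=
    (map_mono hSK).trans (le_normalizer_map _)
  have htop : (S : Subgroup P).map π ⊔ Rb = ⊤ := by
    rw [hRb, ← Subgroup.map_sup, ← sup_assoc, Fusion.sylow_sup_pResidual S, top_sup_eq,
      Subgroup.map_top_of_surjective _ hsur]
  have hnorm : (K.map π).Normal := normalizer_eq_top_iff.1 (top_le_iff.1 (htop ▸ sup_le hSle hle))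
  have hKF : K ≤ F := by
    have h2 : K ⊔ F ≤ M := sup_le hKM M.normalCore_le
    haveI : (K ⊔ F).Normal := by
      have := hnorm.comap π
      rwa [comap_map_eq, hker] at this
    exact le_sup_left.trans (normal_le_normalCore.2 h2)
  exact (inf_le_inf_right _ (hNK.trans hKF)).trans (pMin_inf_sylow_le_pCore hP hM hSM M.normalCore_le)

end Cfsg.Agent.H60
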