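import Mathlib
import Cfsg.Agent.PGroups.Extraspecial

/-!
The degree of a faithful representation of an extraspecial group over a finite prime field.
-/

set_option autoImplicit false
set_option linter.style.haveILetI false

namespace Cfsg.Agent.H60

open Subgroup

variable {E : Type*} [Group E] [Finite E] {p r : ℕ} [hp : Fact p.Prime]
  {V : Type*} [AddCommGroup V] [Module (ZMod r) V] [Finite V] [hr : Fact r.Prime]

/-- The bound, when the centre acts by scalars of a field. -/
theorem scalar_rep_bound {L : Type*} [Field L] [Finite L] [Algebra (ZMod r) L] [Module L V]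
    [IsScalarTower (ZMod r) L V] [Nontrivial V] (ρ : E →* Module.End L V) {z : E} (hz : z ∈ center E) (σ : L)
    (hσ : ∀ v : V, ρ z v = σ • v) (hσp : orderOf σ = p)
    (hZ : Nat.card (center E) = p) (hc : commutator E ≤ center E) (hpr : p ≠ r) {w : ℕ}
    (hcard : Nat.card E = p ^ (2 * w + 1)) {n : ℕ}
    (hmin : ∀ k : ℕ, 1 ≤ k → p ∣ r ^ k - 1 → n ≤ k) : r ^ (n * p ^ w) ≤ Nat.card V := by
  classical
  haveI := Fintype.ofFinite E
  haveI : Module.Finite L V := Module.Finite.of_finite
  haveI : Module.Finite (ZMod r) L := Module.Finite.of_finite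
  have hz1 : z ≠ 1 := fun h => by
    obtain ⟨v, hv⟩ := exists_ne (0 : V)
    have h1 := hσ v
    rw [h, map_one, Module.End.one_apply] at h1
    have h2 : σ = 1 := smul_left_injective L hv (h1.symm.trans (one_smul L v).symm)
    rw [h2, orderOf_one] at hσp
    exact hp.out.one_lt.ne hσp
  have hzgen : zpowers z = center E := PGroups.zpowers_eq_of_card_eq hZ hz hz1
  have hpow : ∀ (k : ℕ) (v : V), ρ (z ^ k) v = σ ^ k • v := by
    intro k
    induction k with
    | zero => simp
    | succ k ih => intro v; rw [pow_succ', map_mul, Module.End.mul_apply, ih, hσ, smul_smul, pow_succ']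
  have hscal : ∀ c ∈ center E, ∃ a : L, (∀ v : V, ρ c v = a • v) ∧ (a = 1 → c = 1) := by
    intro c hc'
    rw [← hzgen] at hc'
    obtain ⟨k, rfl⟩ := (isOfFinOrder_of_finite z).mem_powers_iff_mem_zpowers.2 hc'
    refine ⟨σ ^ k, fun v => hpow k v, fun h => ?_⟩
    rw [← orderOf_dvd_iff_pow_eq_one, hσp] at h
    obtain ⟨j, rfl⟩ := h
    show z ^ (p * j) = 1
    have := Subgroup.orderOf_dvd_natCard (center E) hz
    rw [hZ, orderOf_dvd_iff_pow_eq_one] at this
    rw [pow_mul, this, one_pow]
  have hcommz : ∀ a b : E, a * b * a⁻¹ * b⁻¹ ∈ center E := fun a b =>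
    hc (Subgroup.commutator_mem_commutator (Subgroup.mem_top a) (Subgroup.mem_top b))
  choose sc hsc hsc1 using fun a b => hscal _ (hcommz a b)
  obtain ⟨v0, hv0⟩ := exists_ne (0 : V)
  have hcomm : ∀ a b : E, ∀ v : V, ρ a (ρ b (ρ a⁻¹ v)) = sc a b • ρ b v := by
    intro a b v
    rw [← hsc a b, ← Module.End.mul_apply, ← Module.End.mul_apply, ← map_mul, ← map_mul, ← Module.End.mul_apply,
      ← map_mul, inv_mul_cancel_right, mul_assoc]
  have hli : LinearIndependent L (fun q : E ⧸ center E => ρ q.out) := by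
    rw [Fintype.linearIndependent_iff]
    intro c hrel q0
    have hu : ∀ q, q ≠ q0 → q.out * (q0.out)⁻¹ ∉ center E := fun q hq hm => hq (by
      rw [← QuotientGroup.out_eq' q, ← QuotientGroup.out_eq' q0, eq_comm, QuotientGroup.eq]
      have h2 := Subgroup.mem_center_iff.1 hm q0.out
      rw [inv_mul_cancel_right] at h2
      have h3 : q0.out⁻¹ * q.out = q.out * q0.out⁻¹ := by
        conv_lhs => rw [← h2]
        group
      rw [h3]; exact hm)
    have hrel0 : ∀ v : V, ∑ q, c q • ρ (q.out * (q0.out)⁻¹) v = 0 := by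
      intro v
      have h := congrArg (fun f : Module.End L V => f (ρ (q0.out)⁻¹ v)) hrel
      simpa [LinearMap.sum_apply, map_mul] using h
    have hχ : ∀ (h : E) (v : V), ∑ q, c q • sc h (q.out * (q0.out)⁻¹) • ρ (q.out * (q0.out)⁻¹) v = 0 := by
      intro h v
      have h1 := congrArg (ρ h) (hrel0 (ρ h⁻¹ v))
      rw [map_sum, map_zero] at h1
      rw [← h1]
      exact Finset.sum_congr rfl fun q _ => by rw [map_smul, hcomm]
    have hsum : ∀ q, q ≠ q0 → ∑ h : E, sc h (q.out * (q0.out)⁻¹) = 0 := by
      intro q hq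
      set u := q.out * (q0.out)⁻¹ with hudef
      obtain ⟨h0, hh0⟩ : ∃ h0, h0 * u ≠ u * h0 := by
        by_contra hall
        push Not at hall
        exact hu q hq (Subgroup.mem_center_iff.2 hall)
      have hne : sc h0 u ≠ 1 := fun h => hh0 (by
        have := hsc1 h0 u h
        rw [mul_inv_eq_one, mul_inv_eq_iff_eq_mul] at this
        exact this)
      have hshift : ∑ h : E, sc h u = sc h0 u * ∑ h : E, sc h u := by
        conv_lhs => rw [← Equiv.sum_comp (Equiv.mulLeft h0) (fun h => sc h u)]
        rw [Finset.mul_sum]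
        refine Finset.sum_congr rfl fun h _ => ?_
        show sc (h0 * h) u = _
        have e1 : ρ u (ρ u⁻¹ v0) = v0 := by
          rw [← Module.End.mul_apply, ← map_mul, mul_inv_cancel, map_one, Module.End.one_apply]
        refine smul_left_injective L hv0 ?_
        show sc (h0 * h) u • v0 = (sc h0 u * sc h u) • v0
        have e := hcomm (h0 * h) u (ρ u⁻¹ v0)
        rw [e1] at e
        rw [← e, _root_.mul_inv_rev, map_mul ρ h0 h, map_mul ρ h⁻¹ h0⁻¹, Module.End.mul_apply, Module.End.mul_apply, hcomm h u,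
          map_smul, hcomm h0 u, e1, smul_smul, mul_comm]
      rcases eq_or_ne (∑ h : E, sc h u) 0 with h | h
      · exact h
      · exact absurd ((mul_left_eq_self₀.1 hshift.symm).resolve_right h) hne
    have hq0 : ∀ h : E, sc h (q0.out * (q0.out)⁻¹) = 1 := fun h => by
      refine smul_left_injective L hv0 ?_
      show sc h _ • v0 = (1 : L) • v0
      rw [← hsc h, mul_inv_cancel, one_smul]
      simp
    have htot : (c q0 * (Fintype.card E : L)) • v0 = 0 := by
      have h1 : ∑ h : E, ∑ q, c q • sc h (q.out * (q0.out)⁻¹) • ρ (q.out * (q0.out)⁻¹) v0 = 0 :=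
        Finset.sum_eq_zero fun h _ => hχ h v0
      rw [Finset.sum_comm] at h1
      simp only [← Finset.smul_sum, ← Finset.sum_smul] at h1
      rw [Finset.sum_eq_single q0 (fun q _ hq => by rw [hsum q hq, zero_smul, smul_zero])
        (fun h => absurd (Finset.mem_univ q0) h), Finset.sum_congr rfl (fun h _ => hq0 h)] at h1
      simpa [mul_smul] using h1
    have hE : ((Fintype.card E : ℕ) : L) ≠ 0 := by
      intro h
      rw [← map_natCast (algebraMap (ZMod r) L), map_eq_zero_iff _ (algebraMap (ZMod r) L).injective,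
        ZMod.natCast_eq_zero_iff, ← Nat.card_eq_fintype_card, hcard] at h
      exact hpr ((Nat.prime_dvd_prime_iff_eq hr.out hp.out).1 (hr.out.dvd_of_dvd_pow h)).symm
    exact (mul_eq_zero.1 ((smul_eq_zero.1 htot).resolve_right hv0)).resolve_right hE
  set m := Module.finrank L V with hm
  have hidx : Nat.card (E ⧸ center E) = p ^ (2 * w) := by
    have h := (center E).card_eq_card_quotient_mul_card_subgroup
    rw [hcard, hZ, pow_succ] at h
    exact (Nat.eq_of_mul_eq_mul_right hp.out.pos h).symm
  have hm2 : p ^ (2 * w) ≤ m * m := by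
    have h := hli.fintype_card_le_finrank
    rwa [Module.finrank_linearMap, ← Nat.card_eq_fintype_card, hidx] at h
  have hpm : p ^ w ≤ m := Nat.mul_self_le_mul_self_iff.1 (by rw [← pow_add, ← two_mul]; exact hm2)
  set d := Module.finrank (ZMod r) L with hd
  have hLcard : Nat.card L = r ^ d := by rw [Module.natCard_eq_pow_finrank (K := ZMod r), Nat.card_zmod]
  have hnd : n ≤ d := by
    refine hmin d Module.finrank_pos ?_
    have hσ0 : σ ≠ 0 := fun h => by
      have := hσp
      rw [h] at this
      have h' := pow_orderOf_eq_one (0 : L)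
      rw [this, zero_pow hp.out.ne_zero] at h'
      exact zero_ne_one h'
    have := orderOf_dvd_natCard (Units.mk0 σ hσ0)
    rwa [← orderOf_units, Units.val_mk0, hσp, Nat.card_units, hLcard] at this
  calc r ^ (n * p ^ w) ≤ r ^ (d * m) := Nat.pow_le_pow_right hr.out.pos (Nat.mul_le_mul hnd hpm)
    _ = Nat.card V := by
      rw [hd, hm, Module.finrank_mul_finrank (ZMod r) L V, Module.natCard_eq_pow_finrank (K := ZMod r), Nat.card_zmod]

/-- An irreducible representation in which the centre acts without fixed points. -/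
theorem irred_rep_bound (ρ : E →* Module.End (ZMod r) V) (hV : Nontrivial V)
    (hirr : ∀ U : Submodule (ZMod r) V, (∀ g : E, ∀ v ∈ U, ρ g v ∈ U) → U = ⊥ ∨ U = ⊤)
    {z : E} (hz : z ∈ center E) (hZ : Nat.card (center E) = p) (hc : commutator E ≤ center E)
    (hz1 : ρ z ≠ 1) (hpr : p ≠ r) {w : ℕ} (hcard : Nat.card E = p ^ (2 * w + 1)) {n : ℕ}
    (hmin : ∀ k : ℕ, 1 ≤ k → p ∣ r ^ k - 1 → n ≤ k) : r ^ (n * p ^ w) ≤ Nat.card V := by
  classical
  haveI : Module.Finite (ZMod r) V := Module.Finite.of_finite
  set L := Algebra.adjoin (ZMod r) {ρ z} with hL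
  have hcomm : ∀ f ∈ L, ∀ g : E, f * ρ g = ρ g * f := by
    intro f hf g
    induction hf using Algebra.adjoin_induction with
    | mem x hx =>
      rw [Set.mem_singleton_iff.1 hx, ← map_mul, ← map_mul, Subgroup.mem_center_iff.1 hz g]
    | algebraMap a => exact Algebra.commutes a (ρ g)
    | add x y _ _ hx hy => rw [add_mul, mul_add, hx, hy]
    | mul x y _ _ hx hy => rw [mul_assoc, hy, ← mul_assoc, hx, mul_assoc]
  have hdom : ∀ f ∈ L, ∀ g ∈ L, f * g = 0 → f = 0 ∨ g = 0 := by
    intro f hf g _ h
    by_cases hf0 : f = 0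
    · exact Or.inl hf0
    · right
      rcases hirr (LinearMap.ker f) (fun a v hv => by
        rw [LinearMap.mem_ker] at hv ⊢
        have := congrArg (fun φ : Module.End (ZMod r) V => φ v) (hcomm f hf a)
        simpa [hv] using this) with hk | hk
      · refine LinearMap.ext fun v => ?_
        have := congrArg (fun φ : Module.End (ZMod r) V => φ v) h
        exact LinearMap.ker_eq_bot.1 hk (by simpa using this)
      · exact absurd (LinearMap.ker_eq_top.1 hk) hf0
  letI : CommRing L := Algebra.adjoinCommRingOfComm (ZMod r) (by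
    intro a ha b hb
    rw [Set.mem_singleton_iff.1 ha, Set.mem_singleton_iff.1 hb])
  haveI : Nontrivial L := ⟨⟨0, 1, fun h => zero_ne_one (α := Module.End (ZMod r) V) (congrArg Subtype.val h)⟩⟩
  haveI : NoZeroDivisors L := ⟨fun {a b} h => by
    rcases hdom a a.2 b b.2 (congrArg Subtype.val h) with h' | h'
    · exact Or.inl (Subtype.ext h')
    · exact Or.inr (Subtype.ext h')⟩
  haveI : IsDomain L := NoZeroDivisors.to_isDomain L
  haveI : Finite (Module.End (ZMod r) V) := Module.finite_of_finite (ZMod r)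
  haveI : Fintype L := Fintype.ofFinite L
  letI : Field L := Fintype.fieldOfDomain L
  have hzp : z ^ p = 1 := by
    have := Subgroup.orderOf_dvd_natCard (center E) hz
    rw [hZ] at this
    exact orderOf_dvd_iff_pow_eq_one.1 this
  let ρL : E →* Module.End L V :=
    { toFun := fun g =>
        { toFun := fun v => ρ g v
          map_add' := fun a b => map_add (ρ g) a b
          map_smul' := fun c v => (LinearMap.congr_fun (hcomm c c.2 g) v).symm }
      map_one' := LinearMap.ext fun v => by simp
      map_mul' := fun a b => LinearMap.ext fun v => by simp }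
  exact scalar_rep_bound (L := L) ρL hz ⟨ρ z, Algebra.subset_adjoin rfl⟩ (fun v => rfl)
    (orderOf_eq_prime (Subtype.ext (by
      show (ρ z) ^ p = 1
      rw [← map_pow, hzp, map_one])) (fun h => hz1 (congrArg Subtype.val h))) hZ hc hpr hcard hmin

/-- A representation in which the centre acts nontrivially. -/
theorem rep_bound (ρ : E →* Module.End (ZMod r) V) {z : E} (hz : z ∈ center E)
    (hZ : Nat.card (center E) = p) (hc : commutator E ≤ center E) (hz1 : ρ z ≠ 1) (hpr : p ≠ r) {w : ℕ}
    (hcard : Nat.card E = p ^ (2 * w + 1)) {n : ℕ} (hmin : ∀ k : ℕ, 1 ≤ k → p ∣ r ^ k - 1 → n ≤ k) :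
    r ^ (n * p ^ w) ≤ Nat.card V := by
  classical
  set T : Module.End (ZMod r) V := ρ z - 1 with hT
  have hzp : z ^ p = 1 := by
    have := Subgroup.orderOf_dvd_natCard (center E) hz
    rw [hZ] at this
    exact orderOf_dvd_iff_pow_eq_one.1 this
  have hfix : ∀ x : V, T (T x) = 0 → T x = 0 := by
    intro x hx
    have hy : ρ z (T x) = T x := sub_eq_zero.1 hx
    have hk : ∀ k : ℕ, ρ (z ^ k) x = x + (k : ZMod r) • T x := by
      intro k
      induction k with
      | zero => simp
      | succ k ih =>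
        rw [pow_succ', map_mul, Module.End.mul_apply, ih, map_add, map_smul, hy, Nat.cast_succ, add_smul, one_smul]
        simp [hT]
        abel
    have h1 := hk p
    rw [hzp, map_one, Module.End.one_apply, eq_comm, add_eq_left, smul_eq_zero] at h1
    refine h1.resolve_left fun h => ?_
    rw [ZMod.natCast_eq_zero_iff] at h
    exact hpr ((Nat.prime_dvd_prime_iff_eq hr.out hp.out).1 h).symm
  have hinv : ∀ g : E, ∀ v ∈ LinearMap.range T, ρ g v ∈ LinearMap.range T := by
    rintro g _ ⟨x, rfl⟩
    refine ⟨ρ g x, ?_⟩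
    simp only [hT, LinearMap.sub_apply, Module.End.one_apply, map_sub, ← Module.End.mul_apply, ← map_mul, one_mul,
      Subgroup.mem_center_iff.1 hz g]
  have hne : LinearMap.range T ≠ ⊥ := fun h => hz1 (sub_eq_zero.1 (LinearMap.range_eq_bot.1 h))
  obtain ⟨U, hU, ⟨⟨hUinv, hUne⟩, hUmin⟩⟩ := Finite.exists_le_minimal
    (p := fun U : Submodule (ZMod r) V => (∀ g : E, ∀ v ∈ U, ρ g v ∈ U) ∧ U ≠ ⊥)
    (a := LinearMap.range T) ⟨hinv, hne⟩
  let ρU : E →* Module.End (ZMod r) U :=
    { toFun := fun g => (ρ g).restrict (hUinv g)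
      map_one' := LinearMap.ext fun u => Subtype.ext (by simp)
      map_mul' := fun a b => LinearMap.ext fun u => Subtype.ext (by simp) }
  haveI : Nontrivial U := Submodule.nontrivial_iff_ne_bot.2 hUne
  refine le_trans (irred_rep_bound ρU inferInstance ?_ hz hZ hc ?_ hpr hcard hmin)
    (Nat.card_le_card_of_injective _ U.subtype_injective)
  · intro W hW
    rcases eq_or_ne W ⊥ with h | h
    · exact Or.inl h
    · right
      have h1 : W.map U.subtype = U := by
        refine le_antisymm (Submodule.map_subtype_le U W) (hUmin ⟨?_, ?_⟩ (Submodule.map_subtype_le U W))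
        · rintro g _ ⟨u, hu, rfl⟩
          exact ⟨ρU g u, hW g u hu, rfl⟩
        · intro hb
          exact h (Submodule.map_injective_of_injective U.subtype_injective (hb.trans (Submodule.map_bot _).symm))
      rw [eq_top_iff]
      intro u _
      obtain ⟨u', hu', he⟩ := h1.ge u.2
      exact (Subtype.ext he : u' = u) ▸ hu'
  · intro h
    obtain ⟨⟨y, hy⟩, hy0⟩ := exists_ne (0 : U)
    obtain ⟨x, hx⟩ := hU hy
    have h1 : ρ z y = y := congrArg Subtype.val (LinearMap.congr_fun h ⟨y, hy⟩)
    have h2 : T (T x) = 0 := by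
      rw [hx, hT, LinearMap.sub_apply, Module.End.one_apply, h1, sub_self]
    exact hy0 (Subtype.ext (hx.symm.trans (hfix x h2)))

/-- The same for an action by additive endomorphisms. -/
theorem addAction_bound (f : E → V →+ V) (hf1 : ∀ v, f 1 v = v) (hfm : ∀ g h v, f (g * h) v = f g (f h v)) {z : E}
    (hz : z ∈ center E) (hZ : Nat.card (center E) = p) (hc : commutator E ≤ center E) (hz1 : ∃ v, f z v ≠ v)
    (hpr : p ≠ r) {w : ℕ} (hcard : Nat.card E = p ^ (2 * w + 1)) {n : ℕ}
    (hmin : ∀ k : ℕ, 1 ≤ k → p ∣ r ^ k - 1 → n ≤ k) : r ^ (n * p ^ w) ≤ Nat.card V := by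
  let F : E → Module.End (ZMod r) V := fun g =>
    { toFun := fun v => f g v
      map_add' := fun a b => map_add (f g) a b
      map_smul' := fun c v => ZMod.map_smul (f g) c v }
  have h1 : F 1 = 1 := LinearMap.ext fun v => by simp [F, hf1]
  have h2 : ∀ g h : E, F (g * h) = F g * F h := fun g h => LinearMap.ext fun v => by simp [F, hfm]
  let ρ : E →* Module.End (ZMod r) V := { toFun := F, map_one' := h1, map_mul' := h2 }
  refine rep_bound ρ hz hZ hc ?_ hpr hcard hmin
  intro h
  obtain ⟨v, hv⟩ := hz1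
  exact hv (LinearMap.congr_fun h v)

/-- The same for an action by automorphisms of a commutative group of exponent `r`. -/
theorem action_bound {A : Type*} [CommGroup A] [Finite A] (hA : ∀ a : A, a ^ r = 1) (φ : E →* MulAut A) {z : E}
    (hz : z ∈ center E) (hZ : Nat.card (center E) = p) (hc : commutator E ≤ center E) (hz1 : φ z ≠ 1) (hpr : p ≠ r)
    {w : ℕ} (hcard : Nat.card E = p ^ (2 * w + 1)) {n : ℕ}
    (hmin : ∀ k : ℕ, 1 ≤ k → p ∣ r ^ k - 1 → n ≤ k) : r ^ (n * p ^ w) ≤ Nat.card A := by
  letI := AddCommGroup.zmodModule (n := r) (G := Additive A) fun x => congrArg Additive.ofMul (hA x.toMul)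
  refine addAction_bound (V := Additive A) (fun g => MonoidHom.toAdditive (φ g).toMonoidHom)
    (fun v => ?_) (fun g h v => ?_) hz hZ hc ?_ hpr hcard hmin
  · show Additive.ofMul (φ 1 v.toMul) = v
    rw [map_one]; rfl
  · show Additive.ofMul (φ (g * h) v.toMul) = Additive.ofMul (φ g (φ h v.toMul))
    rw [map_mul]; rfl
  · by_contra hno
    push Not at hno
    exact hz1 (MulEquiv.ext fun a => congrArg Additive.toMul (hno (Additive.ofMul a)))

end Cfsg.Agent.H60
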