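import Cfsg.Prelude.Def_Sz
import Cfsg.Agent.Suzuki.Structure

/-!
The matrix group `Lie.Sz F (2^(m+1))` is the stabilizer `Cfsg.Sz F m` of the Suzuki-Tits ovoid.
-/

set_option autoImplicit false

namespace Cfsg.Agent.H60

open Matrix
open scoped Pointwise
open Cfsg.Agent.Suzuki (th ovf pt pInf SzField mem_ovoid thHom)

variable {F : Type*} [Field F] [Fintype F] (m : ℕ) [SzField F m]

local notation "M4" => Matrix (Fin 4) (Fin 4) F

/-- `c` lies on an isotropic line whose Pluecker coordinates are the twist of `c`. -/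
def SzPolar (c : Fin 4 → F) : Prop :=
  ∃ d : Fin 4 → F, c 0 * d 1 - c 1 * d 0 = th m (c 0) ∧ c 0 * d 2 - c 2 * d 0 = th m (c 1) ∧
    c 1 * d 3 - c 3 * d 1 = th m (c 2) ∧ c 2 * d 3 - c 3 * d 2 = th m (c 3) ∧
    c 0 * d 3 + c 1 * d 2 + c 2 * d 1 + c 3 * d 0 = 0

theorem szPolar_inf : SzPolar m (![1, 0, 0, 0] : Fin 4 → F) :=
  ⟨![0, 1, 0, 0], by simp, by simp, by simp, by simp, by simp⟩

theorem szPolar_pt (x y : F) : SzPolar m (![ovf m x y, y, x, 1] : Fin 4 → F) := by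
  have h2 := Suzuki.two_eq_zero (F := F) m
  refine ⟨![y + x * th m x, th m x, 1, 0], ?_, ?_, ?_, ?_, ?_⟩ <;> simp [ovf]
  · rw [Suzuki.th_add, Suzuki.th_add, Suzuki.th_mul, Suzuki.th_mul, Suzuki.th_pow, Suzuki.th_th,
      Suzuki.th_th]
    linear_combination (-y ^ 2) * h2
  · linear_combination (0 : F) * h2
  · linear_combination (-th m x) * h2
  · linear_combination (-1 : F) * h2
  · linear_combination (y + x * th m x) * h2

/-- The polar points are the points of the ovoid. -/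
theorem szPolar_mem_ovoid {c : Fin 4 → F} (hc : c ≠ 0) (h : SzPolar m c) :
    Projectivization.mk F c hc ∈ Cfsg.suzukiOvoid F m := by
  obtain ⟨d, e01, e02, e13, e23, eB⟩ := h
  have h2 := Suzuki.two_eq_zero (F := F) m
  by_cases h3 : c 3 = 0
  · rw [h3, Suzuki.th_zero] at e23
    have hc2 : c 2 = 0 := by
      have : c 2 * th m (c 2) = 0 := by rw [← e13, h3]; linear_combination (c 1) * e23
      rcases mul_eq_zero.1 this with h | h
      · exact h
      · exact (Suzuki.th_eq_zero m).1 h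
    have hc1 : c 1 = 0 := by
      by_contra hne
      rw [h3, hc2, Suzuki.th_zero] at e13
      rw [h3, hc2] at eB
      rw [hc2] at e02
      simp [hne] at e13
      rw [e13] at eB
      simp [hne] at eB
      rw [eB] at e02
      simp at e02
      exact hne ((Suzuki.th_eq_zero m).1 e02.symm)
    refine mem_ovoid.2 (Or.inl ?_)
    rw [pInf, Cfsg.suzukiPointInfinity, Projectivization.mk_eq_mk_iff']
    refine ⟨c 0, ?_⟩
    funext i
    fin_cases i <;> simp [hc1, hc2, h3]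
  · have ht3 : th m (c 3) ≠ 0 := fun h => h3 ((Suzuki.th_eq_zero m).1 h)
    refine mem_ovoid.2 (Or.inr ⟨c 2 / c 3, c 1 / c 3, ?_⟩)
    rw [pt, Projectivization.mk_eq_mk_iff']
    refine ⟨c 3, ?_⟩
    have key : c 0 * th m (c 3) * c 3 =
        c 1 * c 2 * th m (c 3) + c 2 ^ 2 * th m (c 2) + c 3 ^ 2 * th m (c 1) := by
      rw [← e23, ← e13, ← e02]
      linear_combination (c 2 * c 3) * eB - (c 0 * c 3 ^ 2 * d 2 + c 1 * c 2 ^ 2 * d 3) * h2
    funext i
    fin_cases i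
    · simp [ovf, Suzuki.th_inv, div_eq_mul_inv, Suzuki.th_mul]
      field_simp
      linear_combination -key
    · simp; field_simp
    · simp; field_simp
    · simp

theorem szPolar_row {c d a b e : Fin 4 → F} (e01 : c 0 * d 1 - c 1 * d 0 = th m (c 0))
    (e02 : c 0 * d 2 - c 2 * d 0 = th m (c 1)) (e13 : c 1 * d 3 - c 3 * d 1 = th m (c 2))
    (e23 : c 2 * d 3 - c 3 * d 2 = th m (c 3))
    (eB : c 0 * d 3 + c 1 * d 2 + c 2 * d 1 + c 3 * d 0 = 0)
    (hr : a 0 * b 3 + a 1 * b 2 + a 2 * b 1 + a 3 * b 0 = 0)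
    (h0 : a 0 * b 1 - b 0 * a 1 = th m (e 0)) (h1 : a 0 * b 2 - b 0 * a 2 = th m (e 1))
    (h2' : a 1 * b 3 - b 1 * a 3 = th m (e 2)) (h3 : a 2 * b 3 - b 2 * a 3 = th m (e 3)) :
    (a ⬝ᵥ c) * (b ⬝ᵥ d) - (b ⬝ᵥ c) * (a ⬝ᵥ d) = th m (e ⬝ᵥ c) := by
  have h2 := Suzuki.two_eq_zero (F := F) m
  simp only [dotProduct, Fin.sum_univ_four]
  rw [Suzuki.th_add, Suzuki.th_add, Suzuki.th_add, Suzuki.th_mul, Suzuki.th_mul, Suzuki.th_mul, Suzuki.th_mul]
  linear_combination (a 0 * b 1 - b 0 * a 1) * e01 + (a 0 * b 2 - b 0 * a 2) * e02 +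
    (a 1 * b 3 - b 1 * a 3) * e13 + (a 2 * b 3 - b 2 * a 3) * e23 +
    th m (c 0) * h0 + th m (c 1) * h1 + th m (c 2) * h2' + th m (c 3) * h3 +
    (c 0 * d 3 - c 3 * d 0) * hr + (a 1 * b 2 - b 1 * a 2) * eB -
    ((c 0 * d 3 - c 3 * d 0) * (a 3 * b 0 + a 2 * b 1) + (a 1 * b 2 - b 1 * a 2) * (c 3 * d 0 + c 2 * d 1)
      + (a 1 * b 2 - b 1 * a 2) * (c 0 * d 3 - c 3 * d 0)) * h2

/-- The defining set of `Lie.Sz`. -/
def szGenSet : Set (GL (Fin 4) F) :=
  {g | g ∈ Cfsg.Lie.Sp4 F ∧ Cfsg.Lie.star4 (g : M4) = (g : M4).map (fun x => x ^ (2 ^ (m + 1)))}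

omit [Fintype F] in
theorem sp4_form {g : GL (Fin 4) F} (hg : g ∈ Cfsg.Lie.Sp4 F) :
    (g : M4)ᵀ * Cfsg.suzukiForm F * (g : M4) = Cfsg.suzukiForm F := by
  ext i j
  have h := hg (Pi.single i 1) (Pi.single j 1)
  simp only [Units.coeHom_apply, Matrix.mulVec_single_one, Matrix.col_apply] at h
  calc ((g : M4)ᵀ * Cfsg.suzukiForm F * (g : M4)) i j
      = Cfsg.Lie.altForm4 (fun k => (g : M4) k i) (fun k => (g : M4) k j) := by
        simp [Cfsg.Lie.altForm4, Cfsg.suzukiForm, Matrix.mul_apply, Fin.sum_univ_four]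
        ring
    _ = Cfsg.Lie.altForm4 (Pi.single i 1) (Pi.single j 1) := h
    _ = Cfsg.suzukiForm F i j := by
        fin_cases i <;> fin_cases j <;> simp [Cfsg.Lie.altForm4, Cfsg.suzukiForm, Pi.single_apply]

omit [Fintype F] in
theorem suzukiForm_mul_self : Cfsg.suzukiForm F * Cfsg.suzukiForm F = 1 := by
  ext i j
  fin_cases i <;> fin_cases j <;> simp [Cfsg.suzukiForm, Matrix.mul_apply, Fin.sum_univ_four]

omit [Fintype F] in
theorem sp4_row {g : GL (Fin 4) F} (hg : g ∈ Cfsg.Lie.Sp4 F) :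
    (g : M4) * Cfsg.suzukiForm F * (g : M4)ᵀ = Cfsg.suzukiForm F := by
  have h1 : (Cfsg.suzukiForm F * (g : M4)ᵀ * Cfsg.suzukiForm F) * (g : M4) = 1 := by
    rw [Matrix.mul_assoc (Cfsg.suzukiForm F), Matrix.mul_assoc (Cfsg.suzukiForm F), sp4_form hg,
      suzukiForm_mul_self]
  have h2 := congrArg (fun M : M4 => M * Cfsg.suzukiForm F) (mul_eq_one_comm.1 h1)
  simp only [Matrix.one_mul, Matrix.mul_assoc, suzukiForm_mul_self, Matrix.mul_one] at h2
  rwa [← Matrix.mul_assoc] at h2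

theorem szPolar_mulVec {g : GL (Fin 4) F} (hg : g ∈ szGenSet m) {c : Fin 4 → F} (hc : SzPolar m c) :
    SzPolar m ((g : M4) *ᵥ c) := by
  obtain ⟨hsp, hstar⟩ := hg
  obtain ⟨d, e01, e02, e13, e23, eB⟩ := hc
  have hrow : ∀ p : Fin 4, (g : M4) (Cfsg.Lie.pairOf p).1 0 * (g : M4) (Cfsg.Lie.pairOf p).2 3 +
      (g : M4) (Cfsg.Lie.pairOf p).1 1 * (g : M4) (Cfsg.Lie.pairOf p).2 2 +
      (g : M4) (Cfsg.Lie.pairOf p).1 2 * (g : M4) (Cfsg.Lie.pairOf p).2 1 +
      (g : M4) (Cfsg.Lie.pairOf p).1 3 * (g : M4) (Cfsg.Lie.pairOf p).2 0 = 0 := by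
    intro p
    have h := congrFun (congrFun (sp4_row hsp) (Cfsg.Lie.pairOf p).1) (Cfsg.Lie.pairOf p).2
    fin_cases p <;> simp [Cfsg.suzukiForm, Cfsg.Lie.pairOf, Matrix.mul_apply, Fin.sum_univ_four] at h ⊢ <;>
      linear_combination h
  have hst : ∀ p r : Fin 4, Cfsg.Lie.star4 (g : M4) p r = th m ((g : M4) p r) := fun p r => by
    rw [hstar]; rfl
  have key : ∀ p : Fin 4,
      ((g : M4) *ᵥ c) (Cfsg.Lie.pairOf p).1 * ((g : M4) *ᵥ d) (Cfsg.Lie.pairOf p).2 -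
        ((g : M4) *ᵥ c) (Cfsg.Lie.pairOf p).2 * ((g : M4) *ᵥ d) (Cfsg.Lie.pairOf p).1 =
      th m (((g : M4) *ᵥ c) p) := fun p =>
    szPolar_row m (a := (g : M4) (Cfsg.Lie.pairOf p).1) (b := (g : M4) (Cfsg.Lie.pairOf p).2)
      (e := (g : M4) p) e01 e02 e13 e23 eB (hrow p) (hst p 0) (hst p 1) (hst p 2) (hst p 3)
  refine ⟨(g : M4) *ᵥ d, key 0, key 1, key 2, key 3, ?_⟩
  have h := hsp c d
  simp only [Units.coeHom_apply, Cfsg.Lie.altForm4] at h
  rw [h, eB]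

theorem exists_sz_of_genSet {g : GL (Fin 4) F} (hg : g ∈ szGenSet m) :
    ∃ h : Cfsg.Sz F m, Matrix.SpecialLinearGroup.toGL (h : Matrix.SpecialLinearGroup (Fin 4) F) = g := by
  have hdet : (g : M4).det = 1 := by
    have h := congrArg Matrix.det (sp4_form hg.1)
    rw [Matrix.det_mul, Matrix.det_mul, Matrix.det_transpose] at h
    have hJ : (Cfsg.suzukiForm F).det ≠ 0 := by
      intro h0
      have := congrArg Matrix.det (suzukiForm_mul_self (F := F))
      rw [Matrix.det_mul, h0, Matrix.det_one, zero_mul] at this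
      exact zero_ne_one this
    refine Suzuki.eq_one_of_sq (F := F) m (mul_right_cancel₀ hJ ?_)
    linear_combination h
  set h : Matrix.SpecialLinearGroup (Fin 4) F := ⟨(g : M4), hdet⟩
  refine ⟨⟨h, ?_⟩, Units.ext rfl⟩
  rw [MulAction.mem_stabilizer_iff]
  have hsub : h • Cfsg.suzukiOvoid F m ⊆ Cfsg.suzukiOvoid F m := by
    rintro _ ⟨P, hP, rfl⟩
    have hcase : ∃ (v : Fin 4 → F) (hv : v ≠ 0), P = Projectivization.mk F v hv ∧ SzPolar m v := by
      rcases mem_ovoid.1 hP with rfl | ⟨x, y, rfl⟩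
      · exact ⟨_, _, rfl, szPolar_inf m⟩
      · exact ⟨_, _, rfl, szPolar_pt m x y⟩
    obtain ⟨v, hv, rfl, hpol⟩ := hcase
    show h • Projectivization.mk F v hv ∈ _
    rw [Projectivization.smul_mk]
    exact szPolar_mem_ovoid m _ (szPolar_mulVec m hg hpol)
  exact Set.eq_of_subset_of_ncard_le hsub (by rw [Set.ncard_smul_set])

theorem u_mem_genSet (a b : F) :
    Matrix.SpecialLinearGroup.toGL (Suzuki.uSL m a b) ∈ szGenSet m := by
  have h2 := Suzuki.two_eq_zero (F := F) m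
  have hval : ((Matrix.SpecialLinearGroup.toGL (Suzuki.uSL m a b) : GL (Fin 4) F) : M4) = Suzuki.uMat m a b := rfl
  constructor
  · intro u v
    simp only [Units.coeHom_apply, hval]
    simp [Cfsg.Lie.altForm4, Suzuki.uMat, Matrix.mulVec, dotProduct, Fin.sum_univ_four, ovf]
    grobner
  · rw [hval]
    ext i j
    fin_cases i <;> fin_cases j <;>
      simp [Cfsg.Lie.star4, Cfsg.Lie.pairOf, Suzuki.uMat, ovf, Matrix.map_apply, ← Suzuki.th_def,
        Suzuki.th_add, Suzuki.th_mul, Suzuki.th_pow, Suzuki.th_th] <;> grobner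

theorem t_mem_genSet (s : Fˣ) :
    Matrix.SpecialLinearGroup.toGL (Suzuki.tSL m s) ∈ szGenSet m := by
  have h1 : (s : F) ≠ 0 := s.ne_zero
  have h2 : th m (s : F) ≠ 0 := by simp
  have hval : ((Matrix.SpecialLinearGroup.toGL (Suzuki.tSL m s) : GL (Fin 4) F) : M4) = Suzuki.tMat m s := rfl
  constructor
  · intro u v
    simp only [Units.coeHom_apply, hval]
    simp [Cfsg.Lie.altForm4, Suzuki.tMat, Matrix.mulVec_diagonal]
    field_simp
  · rw [hval]
    ext i j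
    fin_cases i <;> fin_cases j <;>
      simp [Cfsg.Lie.star4, Cfsg.Lie.pairOf, Suzuki.tMat, Matrix.diagonal_apply, Matrix.map_apply,
        ← Suzuki.th_def, Suzuki.th_mul, Suzuki.th_inv, Suzuki.th_th] <;> field_simp

theorem w_mem_genSet :
    Matrix.SpecialLinearGroup.toGL (Suzuki.wSL : Matrix.SpecialLinearGroup (Fin 4) F) ∈ szGenSet m := by
  have h2 := Suzuki.two_eq_zero (F := F) m
  have hval : ((Matrix.SpecialLinearGroup.toGL (Suzuki.wSL : Matrix.SpecialLinearGroup (Fin 4) F) :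
      GL (Fin 4) F) : M4) = !![0, 0, 0, 1; 0, 0, 1, 0; 0, 1, 0, 0; 1, 0, 0, 0] := rfl
  constructor
  · intro u v
    simp only [Units.coeHom_apply, hval]
    simp [Cfsg.Lie.altForm4, Matrix.mulVec, dotProduct, Fin.sum_univ_four]
    ring
  · rw [hval]
    ext i j
    fin_cases i <;> fin_cases j <;>
      simp [Cfsg.Lie.star4, Cfsg.Lie.pairOf, Matrix.map_apply, Suzuki.neg_eq (F := F) m]

theorem lieSz_eq :
    Cfsg.Lie.Sz F (2 ^ (m + 1)) = (Cfsg.Sz F m).map Matrix.SpecialLinearGroup.toGL := by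
  refine le_antisymm ((Subgroup.closure_le _).2 fun g hg => ?_) ?_
  · obtain ⟨h, hh⟩ := exists_sz_of_genSet m hg
    exact ⟨h, h.2, hh⟩
  · rintro _ ⟨x, hx, rfl⟩
    exact Suzuki.mem_of_generators m
      (H := (Cfsg.Lie.Sz F (2 ^ (m + 1))).comap
        (Matrix.SpecialLinearGroup.toGL.comp (Cfsg.Sz F m).subtype))
      (fun a b => Subgroup.subset_closure (u_mem_genSet m a b))
      (fun s => Subgroup.subset_closure (t_mem_genSet m s))
      (Subgroup.subset_closure (w_mem_genSet m)) ⟨x, hx⟩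

theorem nonempty_lieSz_equiv :
    Nonempty (↥(Cfsg.Lie.Sz F (2 ^ (m + 1))) ≃* ↥(Cfsg.Sz F m)) :=
  ⟨(MulEquiv.subgroupCongr (lieSz_eq m)).trans
    ((Cfsg.Sz F m).equivMapOfInjective _ Matrix.SpecialLinearGroup.toGL_injective).symm⟩

end Cfsg.Agent.H60
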