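import Mathlib

/-!
In GL4(q), if an element of prime order r dividing q² + 1 is conjugate to its k-th power then k is a power of q mod r.
-/

set_option autoImplicit false
set_option linter.style.haveILetI false

namespace Cfsg.Agent.H60

open Matrix Polynomial

set_option maxHeartbeats 1000000 in
theorem exponent_mem_frobenius_orbit_aux {F : Type*} [Field F] [Fintype F] {K : Type*} [Field K] [IsAlgClosed K]
    [CharP K 2] [Algebra F K] {r : ℕ} [hr : Fact r.Prime]
    (hr2 : r ≠ 2) (hdvd : r ∣ Fintype.card F ^ 2 + 1) {x g : GL (Fin 4) F} (hx : orderOf x = r) {k : ℕ}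
    (hk : g * x * g⁻¹ = x ^ k) :
    ∃ i < 4, (k : ZMod r) = (Fintype.card F : ZMod r) ^ i := by
  classical
  set q := Fintype.card F with hq
  set M : Matrix (Fin 4) (Fin 4) F := (x : Matrix (Fin 4) (Fin 4) F) with hM
  set N : Matrix (Fin 4) (Fin 4) K := M.map (algebraMap F K) with hN
  have hMr : M ^ r = 1 := by
    rw [hM, ← Units.val_pow_eq_pow_val, ← hx, pow_orderOf_eq_one]; rfl
  have hM1 : M ≠ 1 := by
    intro h
    have : x = 1 := Units.ext h
    rw [this, orderOf_one] at hx
    exact hr.out.one_lt.ne hx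
  have hNr : N ^ r = 1 := by
    rw [hN]
    show (algebraMap F K).mapMatrix M ^ r = 1
    rw [← map_pow, hMr, map_one]
  set f := M.charpoly with hf
  have hfN : N.charpoly = f.map (algebraMap F K) := Matrix.charpoly_map M _
  have hN0 : N.charpoly ≠ 0 := (Matrix.charpoly_monic N).ne_zero
  -- an eigenvalue different from 1
  obtain ⟨lam, hlam, hlam1⟩ : ∃ lam : K, N.charpoly.IsRoot lam ∧ lam ≠ 1 := by
    by_contra hne
    push Not at hne
    have hsplit : N.charpoly.Splits := IsAlgClosed.splits _
    have hroots : N.charpoly.roots = Multiset.replicate 4 (1 : K) := by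
      refine Multiset.eq_replicate.2 ⟨?_, fun b hb => hne b (Polynomial.isRoot_of_mem_roots hb)⟩
      rw [← hsplit.natDegree_eq_card_roots, Matrix.charpoly_natDegree_eq_dim]
      simp
    have hcp : N.charpoly = (X - C (1 : K)) ^ 4 := by
      rw [hsplit.eq_prod_roots_of_monic (Matrix.charpoly_monic N), hroots, Multiset.map_replicate,
        Multiset.prod_replicate]
    have h4' : N ^ 4 = 1 := by
      have := Matrix.aeval_self_charpoly N
      rw [hcp] at this
      have e : (X - C (1 : K)) ^ (2 ^ 2) = X ^ (2 ^ 2) - C (1 : K) ^ (2 ^ 2) := sub_pow_char_pow (p := 2) (n := 2) ..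
      norm_num at e
      simp only [map_one] at this
      rw [e] at this
      simp at this
      exact sub_eq_zero.1 this
    have hN1 : N = 1 := by
      have hd : orderOf N ∣ Nat.gcd 4 r :=
        Nat.dvd_gcd (orderOf_dvd_of_pow_eq_one h4') (orderOf_dvd_of_pow_eq_one hNr)
      have hcop : Nat.Coprime (2 ^ 2) r :=
        Nat.Coprime.pow_left 2 (((Nat.coprime_primes Nat.prime_two hr.out).2 (Ne.symm hr2)))
      have hgcd : Nat.gcd 4 r = 1 := hcop
      rw [hgcd, Nat.dvd_one] at hd
      exact orderOf_eq_one_iff.1 hd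
    apply hM1
    apply Matrix.map_injective (algebraMap F K).injective
    show (algebraMap F K).mapMatrix M = (algebraMap F K).mapMatrix 1
    rw [map_one]; exact hN1
  have eig : ∀ μ : K, N.charpoly.IsRoot μ → ∃ v : Fin 4 → K, v ≠ 0 ∧ N *ᵥ v = μ • v := by
    intro μ hμ
    have hdet : (Matrix.scalar (Fin 4) μ - N).det = 0 := by rw [← Matrix.eval_charpoly]; exact hμ
    obtain ⟨v, hv, hv'⟩ := Matrix.exists_mulVec_eq_zero_iff.2 hdet
    refine ⟨v, hv, ?_⟩
    rw [Matrix.sub_mulVec, sub_eq_zero] at hv'
    rw [← hv']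
    funext i
    simp [Matrix.scalar_apply, Matrix.mulVec_diagonal]
  obtain ⟨v, hv, hvN⟩ := eig lam hlam
  have hpow : ∀ j : ℕ, (N ^ j) *ᵥ v = lam ^ j • v := by
    intro j
    induction j with
    | zero => simp
    | succ j ih => rw [pow_succ, ← Matrix.mulVec_mulVec, hvN, Matrix.mulVec_smul, ih, smul_smul, pow_succ']
  have hlr : lam ^ r = 1 := by
    have h := hpow r
    rw [hNr, Matrix.one_mulVec] at h
    refine (smul_left_injective K hv ?_).symm
    simpa using h
  have hord : orderOf lam = r := orderOf_eq_prime hlr hlam1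
  have hroot_iff : ∀ μ : K, N.charpoly.IsRoot μ ↔ Polynomial.aeval μ f = 0 := by
    intro μ
    rw [hfN, Polynomial.IsRoot.def, Polynomial.eval_map, Polynomial.aeval_def]
  have hstep : ∀ μ : K, Polynomial.aeval μ f = 0 → Polynomial.aeval (μ ^ q) f = 0 := by
    intro μ hμ
    rw [hq, ← Polynomial.expand_aeval, FiniteField.expand_card, map_pow, hμ]
    exact zero_pow Fintype.card_ne_zero
  have hfrob : ∀ j : ℕ, Polynomial.aeval (lam ^ q ^ j) f = 0 := by
    intro j
    induction j with
    | zero => rw [pow_zero, pow_one]; exact (hroot_iff lam).1 hlam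
    | succ j ih =>
      rw [pow_succ q j, pow_mul]
      exact hstep _ ih
  -- the k-th power
  have hrootk : N.charpoly.IsRoot (lam ^ k) := by
    have hc : (M ^ k).charpoly = f := by
      have : (M ^ k) = (g : Matrix (Fin 4) (Fin 4) F) * M * (g⁻¹ : GL (Fin 4) F) := by
        rw [hM, ← Units.val_pow_eq_pow_val, ← hk]; rfl
      rw [this, Matrix.coe_units_inv, hf]
      exact Matrix.charpoly_units_conj g M
    have hNk : (N ^ k).charpoly = N.charpoly := by
      have hmap : N ^ k = (M ^ k).map (algebraMap F K) := by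
        have e := map_pow (algebraMap F K).mapMatrix M k
        simp only [RingHom.mapMatrix_apply] at e
        rw [hN, e]
      rw [hmap, Matrix.charpoly_map, hc, hfN]
    rw [← hNk, Polynomial.IsRoot.def, Matrix.eval_charpoly, ← Matrix.exists_mulVec_eq_zero_iff]
    refine ⟨v, hv, ?_⟩
    rw [Matrix.sub_mulVec, sub_eq_zero, hpow k]
    funext i
    simp [Matrix.scalar_apply, Matrix.mulVec_diagonal]
  -- four distinct roots exhaust
  have hq2 : (q : ZMod r) ^ 2 = -1 := by
    have h0 : ((q ^ 2 + 1 : ℕ) : ZMod r) = 0 := (ZMod.natCast_eq_zero_iff _ _).2 hdvd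
    push_cast at h0
    exact eq_neg_of_add_eq_zero_left h0
  have hne : (2 : ZMod r) ≠ 0 := by
    intro h
    have h0 : ((2 : ℕ) : ZMod r) = 0 := by exact_mod_cast h
    exact hr2 ((Nat.prime_dvd_prime_iff_eq hr.out Nat.prime_two).1 ((ZMod.natCast_eq_zero_iff _ _).1 h0))
  have hinj : ∀ i < 4, ∀ j < 4, (q : ZMod r) ^ i = (q : ZMod r) ^ j → i = j := by
    have hq0 : (q : ZMod r) ≠ 0 := fun h => by simp [h] at hq2
    have hone : ∀ d < 4, (q : ZMod r) ^ d = 1 → d = 0 := by
      intro d hd h
      interval_cases d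
      · rfl
      · rw [pow_one] at h; rw [h, one_pow] at hq2; exact absurd (by linear_combination hq2) hne
      · rw [hq2] at h; exact absurd (by linear_combination -h) hne
      · have h' : (q : ZMod r) = -1 := by linear_combination (-1 : ZMod r) * h + (q : ZMod r) * hq2
        rw [h'] at hq2; exact absurd (by linear_combination hq2) hne
    intro i hi j hj h
    rcases le_total i j with hle | hle
    · have := hone (j - i) (by omega) (mul_left_cancel₀ (pow_ne_zero i hq0) (by
        rw [← pow_add, Nat.add_sub_cancel' hle, mul_one, h]))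
      omega
    · have := hone (i - j) (by omega) (mul_left_cancel₀ (pow_ne_zero j hq0) (by
        rw [← pow_add, Nat.add_sub_cancel' hle, mul_one, h]))
      omega
  have hpeq : ∀ a b : ℕ, lam ^ a = lam ^ b ↔ (a : ZMod r) = b := by
    intro a b
    have h0 : IsUnit lam := Ne.isUnit (fun h => by simp [h, hr.out.ne_zero] at hlr)
    obtain ⟨u, hu⟩ := h0
    rw [ZMod.natCast_eq_natCast_iff, ← hu, ← Units.val_pow_eq_pow_val, ← Units.val_pow_eq_pow_val,
      Units.val_inj, pow_eq_pow_iff_modEq, ← orderOf_units, hu, hord]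
  set S : Finset K := (Finset.range 4).image fun i => lam ^ q ^ i
  have hScard : S.card = 4 := by
    rw [Finset.card_image_of_injOn, Finset.card_range]
    intro i hi j hj h
    simp at hi hj
    have h' := (hpeq _ _).1 h
    push_cast at h'
    exact hinj i hi j hj h'
  have hSsub : S ⊆ N.charpoly.roots.toFinset := by
    intro z hz
    obtain ⟨i, -, rfl⟩ := Finset.mem_image.1 hz
    rw [Multiset.mem_toFinset, Polynomial.mem_roots hN0, hroot_iff]
    exact hfrob i
  have hle : N.charpoly.roots.toFinset.card ≤ 4 := by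
    refine (Multiset.toFinset_card_le _).trans ((Polynomial.card_roots' _).trans (le_of_eq ?_))
    rw [Matrix.charpoly_natDegree_eq_dim]; simp
  have hSeq := Finset.eq_of_subset_of_card_le hSsub (le_trans hle hScard.ge)
  have hmem : lam ^ k ∈ S := by rw [hSeq, Multiset.mem_toFinset, Polynomial.mem_roots hN0]; exact hrootk
  obtain ⟨i, hi, hik⟩ := Finset.mem_image.1 hmem
  refine ⟨i, Finset.mem_range.1 hi, ?_⟩
  have := (hpeq _ _).1 hik
  push_cast at this
  exact this.symm

theorem exponent_mem_frobenius_orbit {F : Type*} [Field F] [Fintype F] [CharP F 2] {r : ℕ}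
    [Fact r.Prime] (hr2 : r ≠ 2) (hdvd : r ∣ Fintype.card F ^ 2 + 1) {x g : GL (Fin 4) F}
    (hx : orderOf x = r) {k : ℕ} (hk : g * x * g⁻¹ = x ^ k) :
    ∃ i < 4, (k : ZMod r) = (Fintype.card F : ZMod r) ^ i := by
  haveI : CharP (AlgebraicClosure F) 2 :=
    charP_of_injective_algebraMap (algebraMap F (AlgebraicClosure F)).injective 2
  exact exponent_mem_frobenius_orbit_aux (K := AlgebraicClosure F) hr2 hdvd hx hk

end Cfsg.Agent.H60
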