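import Cfsg.Agent.H60.GoodSL
import Cfsg.Agent.H60.SzBridge
import Cfsg.Agent.H60.SzEigen
import Cfsg.Agent.H50.GL4Cyclic
import Mathlib.GroupTheory.Transfer

/-!
In Sz(q) every element of odd prime order is inverted by an involution.
-/

set_option autoImplicit false
set_option linter.style.haveILetI false

namespace Cfsg.Agent.H60

open MulAction
open Cfsg.Agent.Suzuki (u t w U T oInf oPt SzField)

variable {F : Type*} [Field F] [Fintype F] (m : ℕ) [SzField F m]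

theorem u_zero_add (b c : F) : (u m 0 b : ↥(Cfsg.Sz F m)) * u m 0 c = u m 0 (b + c) := by
  rw [Suzuki.u_mul]; simp

/-- The centre of `U`, as the image of the additive group of the field. -/
def szZHom : Multiplicative F →* Cfsg.Sz F m :=
  MonoidHom.mk' (fun b => u m 0 b.toAdd) fun b c => (u_zero_add m b.toAdd c.toAdd).symm

/-- `Z(U)`. -/
def szZ : Subgroup (Cfsg.Sz F m) := (szZHom m).range

theorem mem_szZ {g : ↥(Cfsg.Sz F m)} : g ∈ szZ m ↔ ∃ b : F, g = u m 0 b :=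
  ⟨fun ⟨b, hb⟩ => ⟨b.toAdd, hb.symm⟩, fun ⟨b, hb⟩ => ⟨Multiplicative.ofAdd b, hb.symm⟩⟩

theorem szZ_le_U : szZ m ≤ (U m : Subgroup ↥(Cfsg.Sz F m)) := fun g hg => by
  obtain ⟨b, rfl⟩ := (mem_szZ m).1 hg
  exact Suzuki.u_mem_U m 0 b

theorem card_szZ : Nat.card ↥(szZ m : Subgroup ↥(Cfsg.Sz F m)) = Nat.card F := by
  rw [szZ, ← Nat.card_congr (MonoidHom.ofInjective (f := szZHom (F := F) m) ?_).toEquiv]
  · rfl
  · intro b c h
    exact ((Suzuki.u_inj m).1 h).2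

theorem mem_szZ_of_sq {g : ↥(Cfsg.Sz F m)} (hg : g ∈ (U m : Subgroup ↥(Cfsg.Sz F m))) (h : g * g = 1) : g ∈ szZ m := by
  obtain ⟨a, b, rfl⟩ := (Suzuki.mem_U m).1 hg
  rw [Suzuki.u_sq, Suzuki.u_eq_one] at h
  have ha : a = 0 := by
    rcases mul_eq_zero.1 h.2 with h | h
    · exact (Suzuki.th_eq_zero m).1 h
    · exact h
  exact (mem_szZ m).2 ⟨b, by rw [ha]⟩

/-- A nontrivial element of `Z(U)` fixes only the point at infinity. -/
theorem eq_oInf_of_fixed {b : F} (hb : b ≠ 0) {P : Cfsg.suzukiOvoid F m}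
    (h : (u m 0 b : ↥(Cfsg.Sz F m)) • P = P) : P = oInf m := by
  rcases Suzuki.ovoid_cases P with rfl | ⟨x, y, rfl⟩
  · rfl
  · rw [Suzuki.u_smul_oPt, Suzuki.oPt_inj] at h
    exact absurd (by simpa using h.2) hb

theorem exists_conj_mem_szZ {g : ↥(Cfsg.Sz F m)} (h : g * g = 1) : ∃ k : ↥(Cfsg.Sz F m), g ∈ cj (szZ m) k := by
  have hp : IsPGroup 2 (Subgroup.zpowers g) :=
    IsPGroup.of_card_dvd_pow (n := 1) (by
      rw [Nat.card_zpowers, pow_one]; exact orderOf_dvd_of_pow_eq_one (by rwa [sq]))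
  obtain ⟨S, hS⟩ := hp.exists_le_sylow
  obtain ⟨k, hk⟩ := Suzuki.exists_conj_U m S
  have h1 := hS (Subgroup.mem_zpowers g)
  rw [hk] at h1
  have h2 : k⁻¹ * g * k ∈ szZ m := by
    refine mem_szZ_of_sq m ((mem_cj).1 h1) ?_
    calc k⁻¹ * g * k * (k⁻¹ * g * k) = k⁻¹ * (g * g) * k := by group
      _ = 1 := by rw [h]; group
  exact ⟨k, mem_cj.2 h2⟩

/-- An involution fixes at most one point. -/
theorem fixed_unique {g : ↥(Cfsg.Sz F m)} (h : g * g = 1) (h1 : g ≠ 1) {P P' : Cfsg.suzukiOvoid F m}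
    (hP : g • P = P) (hP' : g • P' = P') : P = P' := by
  obtain ⟨k, hk⟩ := exists_conj_mem_szZ m h
  obtain ⟨b, hb⟩ := (mem_szZ m).1 (mem_cj.1 hk)
  have hb0 : b ≠ 0 := by
    rintro rfl
    rw [(Suzuki.u_eq_one m).2 ⟨rfl, rfl⟩] at hb
    apply h1
    calc g = k * (k⁻¹ * g * k) * k⁻¹ := by group
      _ = 1 := by rw [hb]; group
  have key : ∀ R : Cfsg.suzukiOvoid F m, g • R = R → R = k • oInf m := by
    intro R hR
    have h2 : (u m 0 b : ↥(Cfsg.Sz F m)) • (k⁻¹ • R) = k⁻¹ • R := by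
      rw [← hb, mul_smul, mul_smul, smul_inv_smul, hR]
    rw [← eq_oInf_of_fixed m hb0 h2, smul_inv_smul]
  rw [key P hP, key P' hP']

theorem mem_szZ_of_normalize {g : ↥(Cfsg.Sz F m)} (h : g * g = 1)
    (hn : g ∈ Subgroup.normalizer ((szZ m : Subgroup ↥(Cfsg.Sz F m)) : Set ↥(Cfsg.Sz F m))) : g ∈ szZ m := by
  have hfix : g • oInf m = (oInf m : Cfsg.suzukiOvoid F m) := by
    have hm : g * u m 0 1 * g⁻¹ ∈ szZ m :=
      (Subgroup.mem_normalizer_iff.1 hn _).1 ((mem_szZ m).2 ⟨1, rfl⟩)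
    obtain ⟨b, hb⟩ := (mem_szZ m).1 hm
    have h2 : (u m 0 1 : ↥(Cfsg.Sz F m)) • (g⁻¹ • oInf m) = g⁻¹ • (oInf m : Cfsg.suzukiOvoid F m) := by
      have h3 : (g * u m 0 1 * g⁻¹) • oInf m = (oInf m : Cfsg.suzukiOvoid F m) := by
        rw [hb, Suzuki.u_smul_oInf]
      rw [mul_smul, mul_smul] at h3
      exact eq_inv_smul_iff.2 h3
    have h4 := eq_oInf_of_fixed m one_ne_zero h2
    exact (inv_smul_eq_iff.1 h4).symm
  refine mem_szZ_of_sq m ?_ h
  obtain ⟨a, b, s, rfl⟩ := Suzuki.exists_u_t_of_fix_oInf m hfix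
  rw [show u m a b * t m s * (u m a b * t m s) =
    u m a b * (t m s * u m a b * (t m s)⁻¹) * (t m s * t m s) by group,
    Suzuki.t_u, Suzuki.u_mul, ← map_mul] at h
  have hs : s = 1 := by
    have h5 := eq_inv_of_mul_eq_one_right h
    rw [Suzuki.u_inv] at h5
    have h6 := congrArg (fun z : ↥(Cfsg.Sz F m) => z • oPt m (0 : F) 0) h5
    simp only [Suzuki.t_smul_oPt, Suzuki.u_smul_oPt, mul_zero, Suzuki.oPt_inj] at h6
    have h7 : t m (s * s) = (1 : ↥(Cfsg.Sz F m)) := by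
      rw [h5, Suzuki.u_eq_one]
      obtain ⟨e1, e2⟩ := h6
      simp at e1 e2
      rw [← e1] at e2 ⊢
      simp at e2 ⊢
      exact e2.symm
    have h8 : s * s = 1 := Suzuki.t_injective m (h7.trans (map_one (t m)).symm)
    exact Units.ext (Suzuki.eq_one_of_sq (F := F) m (by rw [sq]; exact congrArg Units.val h8))
  subst hs
  rw [map_one, mul_one]
  exact Suzuki.u_mem_U m a b

/-- An element with a fixed point and of odd prime order is inverted by an involution. -/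
theorem inverted_of_fixed {r : ℕ} [hr : Fact r.Prime] (hr2 : r ≠ 2) {x : ↥(Cfsg.Sz F m)} (hx : orderOf x = r)
    {P : Cfsg.suzukiOvoid F m} (hP : x • P = P) : ∃ z : ↥(Cfsg.Sz F m), z * z = 1 ∧ z * x * z = x⁻¹ := by
  have hrp : IsPGroup r (Subgroup.zpowers x) := IsPGroup.of_card (n := 1) (by rw [Nat.card_zpowers, hx, pow_one])
  obtain ⟨P', hP', hne⟩ : ∃ P' : Cfsg.suzukiOvoid F m, x • P' = P' ∧ P' ≠ P := by
    by_contra hcon
    push Not at hcon
    have hmod := hrp.card_modEq_card_fixedPoints (Cfsg.suzukiOvoid F m)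
    have hfp : fixedPoints (Subgroup.zpowers x) (Cfsg.suzukiOvoid F m) = {P} := by
      ext R
      simp only [mem_fixedPoints, Set.mem_singleton_iff]
      constructor
      · exact fun h => hcon R (h ⟨x, Subgroup.mem_zpowers x⟩)
      · rintro rfl ⟨y, hy⟩
        show y • R = R
        have hle : Subgroup.zpowers x ≤ stabilizer ↥(Cfsg.Sz F m) R := by
          rw [Subgroup.zpowers_le]; exact hP
        exact hle hy
    rw [hfp, Suzuki.card_ovoid, Nat.card_eq_fintype_card (α := ({P} : Set (Cfsg.suzukiOvoid F m)))] at hmod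
    simp at hmod
    have hd : r ∣ Nat.card F ^ 2 := by
      rw [Nat.card_eq_fintype_card]; exact hmod
    rw [Suzuki.card_nat (F := F) m, ← pow_mul] at hd
    exact hr2 ((Nat.prime_dvd_prime_iff_eq hr.out Nat.prime_two).1 (hr.out.dvd_of_dvd_pow hd))
  haveI := Suzuki.two_pretransitive (F := F) m
  obtain ⟨k, hk1, hk2⟩ := (MulAction.is_two_pretransitive_iff (G := ↥(Cfsg.Sz F m))).1 inferInstance hne.symm
    (Suzuki.oPt_ne_oInf m (0 : F) 0).symm
  obtain ⟨s, hs⟩ := Suzuki.exists_t_of_fixed m (g := k * x * k⁻¹)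
    (by rw [← hk1, mul_smul, mul_smul, inv_smul_smul, hP])
    (by rw [← hk2, mul_smul, mul_smul, inv_smul_smul, hP'])
  refine ⟨k⁻¹ * w m * k, ?_, ?_⟩
  · rw [show k⁻¹ * w m * k * (k⁻¹ * w m * k) = k⁻¹ * (w m * w m) * k by group, Suzuki.w_mul_w]
    group
  · have h1 : w m * (k * x * k⁻¹) * (w m)⁻¹ = (k * x * k⁻¹)⁻¹ := by
      rw [hs, Suzuki.w_t, map_inv]
    rw [Suzuki.w_inv] at h1
    calc k⁻¹ * w m * k * x * (k⁻¹ * w m * k) = k⁻¹ * (w m * (k * x * k⁻¹) * w m) * k := by group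
      _ = x⁻¹ := by rw [h1]; group

/-- Every element of odd prime order is inverted by an involution. -/
theorem inverted {r : ℕ} [hr : Fact r.Prime] (hr2 : r ≠ 2) {x : ↥(Cfsg.Sz F m)} (hx : orderOf x = r) :
    ∃ z : ↥(Cfsg.Sz F m), z * z = 1 ∧ z * x * z = x⁻¹ := by
  by_cases hfix : ∃ P : Cfsg.suzukiOvoid F m, x • P = P
  · obtain ⟨P, hP⟩ := hfix; exact inverted_of_fixed m hr2 hx hP
  push Not at hfix
  haveI := Suzuki.charTwo (F := F) m
  have hrp : IsPGroup r (Subgroup.zpowers x) := IsPGroup.of_card (n := 1) (by rw [Nat.card_zpowers, hx, pow_one])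
  have hdvd : r ∣ Fintype.card F ^ 2 + 1 := by
    have hmod := hrp.card_modEq_card_fixedPoints (Cfsg.suzukiOvoid F m)
    have hfp : fixedPoints (Subgroup.zpowers x) (Cfsg.suzukiOvoid F m) = ∅ :=
      Set.eq_empty_iff_forall_notMem.2 fun R h => hfix R (h ⟨x, Subgroup.mem_zpowers x⟩)
    rw [hfp, Suzuki.card_ovoid, Nat.card_eq_fintype_card (α := F)] at hmod
    simpa [Nat.modEq_zero_iff_dvd] using hmod
  obtain ⟨S, hS⟩ := hrp.exists_le_sylow
  let ι : ↥(Cfsg.Sz F m) →* GL (Fin 4) F := Matrix.SpecialLinearGroup.toGL.comp (Cfsg.Sz F m).subtype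
  have hι : Function.Injective ι :=
    Matrix.SpecialLinearGroup.toGL_injective.comp Subtype.val_injective
  have hScyc : IsCyclic ↥(S : Subgroup ↥(Cfsg.Sz F m)) := by
    obtain ⟨Q, hQ, hcop⟩ := H50.exists_cyclic_index_coprime ((S : Subgroup ↥(Cfsg.Sz F m)).map ι) r hr.out hr2 hdvd
    obtain ⟨n, hn⟩ := (S.2.map ι).index Q
    rw [hn] at hcop
    have hn0 : n = 0 := by
      by_contra h0
      exact hr.out.one_lt.ne' (Nat.Coprime.eq_one_of_dvd hcop (dvd_pow_self r h0))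
    rw [hn0, pow_zero, Subgroup.index_eq_one] at hn
    subst hn
    haveI : IsCyclic ↥((S : Subgroup ↥(Cfsg.Sz F m)).map ι) :=
      isCyclic_of_surjective (Subgroup.topEquiv : (⊤ : Subgroup ↥((S : Subgroup ↥(Cfsg.Sz F m)).map ι)) ≃* _)
        (MulEquiv.surjective _)
    exact isCyclic_of_injective ((S : Subgroup ↥(Cfsg.Sz F m)).equivMapOfInjective ι hι).toMonoidHom (MulEquiv.injective _)
  haveI := hScyc
  have hxS : x ∈ (S : Subgroup ↥(Cfsg.Sz F m)) := hS (Subgroup.mem_zpowers x)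
  have hx1 : x ≠ 1 := fun h => hr.out.one_lt.ne (by rw [← hx, h, orderOf_one])
  -- transfer
  obtain ⟨g, hg, hgc⟩ : ∃ g ∈ Subgroup.normalizer ((S : Subgroup ↥(Cfsg.Sz F m)) : Set ↥(Cfsg.Sz F m)),
      g ∉ Subgroup.centralizer ((S : Subgroup ↥(Cfsg.Sz F m)) : Set ↥(Cfsg.Sz F m)) := by
    by_contra hcon
    push Not at hcon
    have hcompl := MonoidHom.ker_transferSylow_isComplement' S hcon
    haveI := Suzuki.isSimpleGroup (F := F) m
    rcases (MonoidHom.normal_ker (MonoidHom.transferSylow S hcon)).eq_bot_or_eq_top with h | h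
    · rw [h, Subgroup.isComplement'_bot_left] at hcompl
      have h2 : 2 ∣ Nat.card ↥(Cfsg.Sz F m) := by
        rw [Suzuki.card_Sz, Suzuki.card_nat (F := F) m]
        exact Dvd.dvd.mul_right (Dvd.dvd.mul_right ((dvd_pow_self 2 (by omega)).trans (dvd_pow_self _ two_ne_zero)) _) _
      obtain ⟨n, hn⟩ := IsPGroup.iff_card.1 S.2
      rw [hcompl, Subgroup.card_top] at hn
      rw [hn] at h2
      exact hr2 ((Nat.prime_dvd_prime_iff_eq Nat.prime_two hr.out).1 (Nat.prime_two.dvd_of_dvd_pow h2)).symm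
    · rw [h, Subgroup.isComplement'_top_left] at hcompl
      rw [hcompl, Subgroup.mem_bot] at hxS
      exact hx1 hxS
  obtain ⟨σ, hσ⟩ := hScyc.exists_generator
  set σ' : ↥(Cfsg.Sz F m) := (σ : ↥(Cfsg.Sz F m)) with hσ'
  have hgen : ∀ y ∈ (S : Subgroup ↥(Cfsg.Sz F m)), y ∈ Subgroup.zpowers σ' := by
    intro y hy
    obtain ⟨j, hj⟩ := Subgroup.mem_zpowers_iff.1 (hσ ⟨y, hy⟩)
    exact Subgroup.mem_zpowers_iff.2 ⟨j, congrArg Subtype.val hj⟩
  obtain ⟨k, hk⟩ : ∃ k : ℕ, g * σ' * g⁻¹ = σ' ^ k := by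
    have := hgen _ ((Subgroup.mem_normalizer_iff.1 hg σ').1 σ.2)
    obtain ⟨k, hk⟩ := (mem_powers_iff_mem_zpowers.2 this : _ ∈ Submonoid.powers σ')
    exact ⟨k, hk.symm⟩
  have hxk : g * x * g⁻¹ = x ^ k := by
    obtain ⟨j, hj⟩ := Subgroup.mem_zpowers_iff.1 (hgen x hxS)
    rw [← hj, ← conj_zpow, hk, ← zpow_natCast, ← zpow_natCast, ← zpow_mul, ← zpow_mul, mul_comm]
  have hxpow : ∀ a b : ℕ, (a : ZMod r) = b → x ^ a = x ^ b := fun a b h => by
    rw [pow_eq_pow_iff_modEq, hx, ← ZMod.natCast_eq_natCast_iff]; exact h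
  have hk1 : (k : ZMod r) ≠ 1 := by
    intro hk1
    apply hgc
    -- the automorphism has order prime to r, so it is trivial
    obtain ⟨n, hn⟩ := IsPGroup.iff_card.1 S.2
    have hσord : orderOf σ' = r ^ n := by
      rw [hσ', Subgroup.orderOf_coe, orderOf_eq_card_of_forall_mem_zpowers hσ, hn]
    set N := Subgroup.normalizer ((S : Subgroup ↥(Cfsg.Sz F m)) : Set ↥(Cfsg.Sz F m)) with hN
    have hiter : ∀ j : ℕ, g ^ j * σ' * (g ^ j)⁻¹ = σ' ^ (k ^ j) := by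
      intro j
      induction j with
      | zero => simp
      | succ j ih =>
        calc g ^ (j + 1) * σ' * (g ^ (j + 1))⁻¹ = g * (g ^ j * σ' * (g ^ j)⁻¹) * g⁻¹ := by
              rw [pow_succ']; group
          _ = σ' ^ (k ^ (j + 1)) := by rw [ih, ← conj_pow, hk, ← pow_mul, pow_succ']
    obtain ⟨a, n', hn', hord⟩ := Nat.exists_eq_pow_mul_and_not_dvd (orderOf_pos g).ne' r hr.out.ne_one
    have hgS : g ^ n' ∈ (S : Subgroup ↥(Cfsg.Sz F m)) := by
      have hp2 : IsPGroup r (Subgroup.zpowers (g ^ n')) :=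
        IsPGroup.of_card_dvd_pow (n := a) (by
          rw [Nat.card_zpowers]
          exact orderOf_dvd_of_pow_eq_one (by rw [← pow_mul, mul_comm, ← hord, pow_orderOf_eq_one]))
      have h2 : Subgroup.zpowers (g ^ n') ≤ N := by
        rw [Subgroup.zpowers_le]; exact pow_mem hg _
      have h3 := S.3 (S.2.to_sup_of_normal_left' hp2 h2) le_sup_left
      rw [← h3]; exact le_sup_right (a := (S : Subgroup ↥(Cfsg.Sz F m))) (Subgroup.mem_zpowers _)
    have hkn' : σ' ^ (k ^ n') = σ' := by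
      rw [← hiter]
      obtain ⟨j, hj⟩ := Subgroup.mem_zpowers_iff.1 (hgen _ hgS)
      rw [← hj]; group
    have hmod : ((k : ZMod (r ^ n))) ^ n' = 1 := by
      have h0 : σ' ^ (k ^ n') = σ' ^ 1 := by rw [hkn', pow_one]
      rw [pow_eq_pow_iff_modEq, hσord, ← ZMod.natCast_eq_natCast_iff] at h0
      exact_mod_cast h0
    have hmod2 : ((k : ZMod (r ^ n))) ^ (r ^ n) = 1 := by
      -- k = 1 mod r
      have hd : (r : ℤ) ∣ (k : ℤ) - 1 := by
        rw [← ZMod.intCast_zmod_eq_zero_iff_dvd]; push_cast; rw [hk1, sub_self]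
      have h1 := dvd_sub_pow_of_dvd_sub (a := (k : ℤ)) (b := 1) hd n
      have h2 : ((r ^ n : ℕ) : ℤ) ∣ ((k : ℤ) ^ (r ^ n) - (1 : ℤ) ^ (r ^ n)) :=
        dvd_trans (by push_cast; exact pow_dvd_pow _ (Nat.le_succ n)) h1
      rw [← ZMod.intCast_zmod_eq_zero_iff_dvd] at h2
      push_cast at h2
      rw [one_pow] at h2
      exact sub_eq_zero.1 h2
    have hk_one : (k : ZMod (r ^ n)) = 1 := by
      have hd : orderOf (k : ZMod (r ^ n)) ∣ Nat.gcd n' (r ^ n) :=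
        Nat.dvd_gcd (orderOf_dvd_of_pow_eq_one hmod) (orderOf_dvd_of_pow_eq_one hmod2)
      rw [Nat.Coprime.pow_right n ((hr.out.coprime_iff_not_dvd.2 hn').symm), Nat.dvd_one,
        orderOf_eq_one_iff] at hd
      exact hd
    have hfix' : σ' ^ k = σ' := by
      conv_rhs => rw [← pow_one σ']
      rw [pow_eq_pow_iff_modEq, hσord, ← ZMod.natCast_eq_natCast_iff]
      exact_mod_cast hk_one
    refine Subgroup.mem_centralizer_iff.2 fun y hy => ?_
    obtain ⟨j, hj⟩ := Subgroup.mem_zpowers_iff.1 (hgen y hy)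
    have hc : Commute g σ' := by
      show g * σ' = σ' * g
      calc g * σ' = g * σ' * g⁻¹ * g := by group
        _ = σ' * g := by rw [hk, hfix']
    rw [← hj]; exact (hc.zpow_right j).eq.symm
  obtain ⟨i, hi, hik⟩ := exponent_mem_frobenius_orbit (F := F) hr2 hdvd (x := ι x) (g := ι g)
    (by rw [orderOf_injective ι hι, hx]) (k := k)
    (by rw [← map_inv, ← map_mul, ← map_mul, hxk, map_pow])
  set q := Fintype.card F with hq
  have hq2 : (q : ZMod r) ^ 2 = -1 := by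
    have h0 : ((q ^ 2 + 1 : ℕ) : ZMod r) = 0 := (ZMod.natCast_eq_zero_iff _ _).2 hdvd
    push_cast at h0
    exact eq_neg_of_add_eq_zero_left h0
  obtain ⟨g', hg'⟩ : ∃ g' : ↥(Cfsg.Sz F m), g' * x * g'⁻¹ = x⁻¹ := by
    have hinv : ∀ e : ℕ, (e : ZMod r) = -1 → x ^ e = x⁻¹ := fun e he => by
      refine eq_inv_of_mul_eq_one_left ?_
      rw [← pow_succ]
      refine orderOf_dvd_iff_pow_eq_one.1 (hx ▸ ?_)
      rw [← ZMod.natCast_eq_zero_iff]; push_cast; rw [he, neg_add_cancel]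
    interval_cases i
    · exact absurd (by simpa using hik) hk1
    · refine ⟨g * g, ?_⟩
      rw [show g * g * x * (g * g)⁻¹ = g * (g * x * g⁻¹) * g⁻¹ by group, hxk, ← conj_pow, hxk, ← pow_mul]
      exact hinv _ (by push_cast; rw [hik, pow_one, ← sq]; exact hq2)
    · exact ⟨g, by rw [hxk]; exact hinv _ (by rw [hik]; exact hq2)⟩
    · refine ⟨g * g, ?_⟩
      rw [show g * g * x * (g * g)⁻¹ = g * (g * x * g⁻¹) * g⁻¹ by group, hxk, ← conj_pow, hxk, ← pow_mul]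
      refine hinv _ ?_
      push_cast
      rw [hik]
      linear_combination ((q : ZMod r) ^ 4 - (q : ZMod r) ^ 2 + 1) * hq2
  obtain ⟨a, n', hn', hord⟩ := Nat.exists_eq_pow_mul_and_not_dvd (orderOf_pos g').ne' 2 (by norm_num)
  obtain ⟨c, rfl⟩ : Odd n' := Nat.odd_iff.2 (by omega)
  set z := g' ^ (2 * c + 1) with hz
  have hiterz : ∀ j : ℕ, g' ^ (2 * j) * x * (g' ^ (2 * j))⁻¹ = x := by
    intro j
    induction j with
    | zero => simp
    | succ j ih =>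
      have h2 : g' * g' * x * (g' * g')⁻¹ = x := by
        rw [show g' * g' * x * (g' * g')⁻¹ = g' * (g' * x * g'⁻¹) * g'⁻¹ by group, hg', ← conj_inv, hg', inv_inv]
      calc g' ^ (2 * (j + 1)) * x * (g' ^ (2 * (j + 1)))⁻¹
          = g' ^ (2 * j) * (g' * g' * x * (g' * g')⁻¹) * (g' ^ (2 * j))⁻¹ := by
            rw [show 2 * (j + 1) = 2 * j + 1 + 1 by ring, pow_succ, pow_succ]; group
        _ = x := by rw [h2, ih]
  have hzx : z * x * z⁻¹ = x⁻¹ := by
    rw [hz, pow_succ]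
    calc g' ^ (2 * c) * g' * x * (g' ^ (2 * c) * g')⁻¹
        = g' ^ (2 * c) * (g' * x * g'⁻¹) * (g' ^ (2 * c))⁻¹ := by group
      _ = (g' ^ (2 * c) * x * (g' ^ (2 * c))⁻¹)⁻¹ := by rw [hg']; group
      _ = x⁻¹ := by rw [hiterz c]
  have hz2 : z * z = 1 := by
    by_contra hne
    have hzpow : z ^ 2 ^ a = 1 := by
      rw [hz, ← pow_mul, mul_comm (2 * c + 1), ← hord, pow_orderOf_eq_one]
    have hcomm : Commute (z * z) x := by
      show z * z * x = x * (z * z)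
      calc z * z * x = z * (z * x * z⁻¹) * z⁻¹ * (z * z) := by group
        _ = x * (z * z) := by rw [hzx, ← conj_inv, hzx, inv_inv]
    obtain ⟨j, hj⟩ : ∃ j, orderOf (z * z) = 2 ^ j := by
      have : orderOf (z * z) ∣ 2 ^ a := orderOf_dvd_of_pow_eq_one (by
        rw [← sq, ← pow_mul, mul_comm, pow_mul, hzpow, one_pow])
      obtain ⟨j, -, hj⟩ := (Nat.dvd_prime_pow Nat.prime_two).1 this
      exact ⟨j, hj⟩
    have hj0 : j ≠ 0 := fun h0 => hne (orderOf_eq_one_iff.1 (by rw [hj, h0, pow_zero]))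
    set v := (z * z) ^ 2 ^ (j - 1) with hv
    have hv2 : v * v = 1 := by
      rw [hv, ← pow_two, ← pow_mul, ← pow_succ, Nat.sub_add_cancel (by omega), ← hj, pow_orderOf_eq_one]
    have hv1 : v ≠ 1 := fun h0 => by
      have h1 := orderOf_dvd_of_pow_eq_one h0
      rw [hj, Nat.pow_dvd_pow_iff_le_right (by norm_num)] at h1
      omega
    have hvx : Commute v x := hcomm.pow_left _
    obtain ⟨k', hk'⟩ := exists_conj_mem_szZ m hv2
    obtain ⟨b, hb⟩ := (mem_szZ m).1 (mem_cj.1 hk')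
    have hvfix : v • (k' • oInf m) = (k' • oInf m : Cfsg.suzukiOvoid F m) := by
      rw [show v = k' * (k'⁻¹ * v * k') * k'⁻¹ by group, hb]
      simp [mul_smul, Suzuki.u_smul_oInf]
    have hvfix2 : v • (x • (k' • oInf m)) = (x • (k' • oInf m) : Cfsg.suzukiOvoid F m) := by
      rw [← mul_smul, hvx.eq, mul_smul, hvfix]
    exact hfix _ (fixed_unique m hv2 hv1 hvfix2 hvfix)
  exact ⟨z, hz2, by rwa [inv_eq_of_mul_eq_one_right hz2] at hzx⟩

theorem goodSz {P : Subgroup ↥(Cfsg.Sz F m)} (hP : IsPGroup 2 P) (hcard : Nat.card P = Nat.card F)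
    (hexp : ∀ z ∈ P, z ^ 2 = 1) :
    (∀ v : ↥(Cfsg.Sz F m), v ^ 2 = 1 → v ≠ 1 → ∃ g : ↥(Cfsg.Sz F m), v ∈ cj P g) ∧
      (∀ v g : ↥(Cfsg.Sz F m), v ^ 2 = 1 → v ∈ Subgroup.normalizer (cj P g : Set ↥(Cfsg.Sz F m)) → v ∈ cj P g) ∧
      ∀ r : ℕ, r.Prime → r ≠ 2 → ∀ x : ↥(Cfsg.Sz F m), orderOf x = r → IsGoodElem 2 x := by
  obtain ⟨S, hS⟩ := hP.exists_le_sylow
  obtain ⟨k, hk⟩ := Suzuki.exists_conj_U m S
  have hPZ : P = cj (szZ m) k := by
    refine Subgroup.eq_of_le_of_card_ge (fun v hv => mem_cj.2 ?_) (by rw [card_cj, card_szZ, hcard])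
    have h1 := hS hv
    rw [hk] at h1
    refine mem_szZ_of_sq m (mem_cj.1 h1) ?_
    calc k⁻¹ * v * k * (k⁻¹ * v * k) = k⁻¹ * (v ^ 2) * k := by rw [sq]; group
      _ = 1 := by rw [hexp v hv]; group
  refine ⟨fun v hv _ => ?_, fun v g hv hn => ?_, fun r hr hr2 x hx => ?_⟩
  · obtain ⟨k', hk'⟩ := exists_conj_mem_szZ m (by rwa [sq] at hv)
    exact ⟨k' * k⁻¹, by rw [hPZ, cj_cj, inv_mul_cancel_right]; exact hk'⟩
  · rw [hPZ, cj_cj] at hn ⊢
    rw [← cj_normalizer, mem_cj] at hn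
    refine mem_cj.2 (mem_szZ_of_normalize m ?_ hn)
    calc (g * k)⁻¹ * v * (g * k) * ((g * k)⁻¹ * v * (g * k)) = (g * k)⁻¹ * v ^ 2 * (g * k) := by
          rw [sq]; group
      _ = 1 := by rw [hv]; group
  · haveI := Fact.mk hr
    obtain ⟨z, hz, hzx⟩ := inverted m hr2 hx
    refine Or.inl ⟨z, z * x, by rwa [sq], ?_, ?_, by rw [← mul_assoc, hz, one_mul]⟩
    · rw [sq, ← mul_assoc, hzx, inv_mul_cancel]
    · intro h
      rw [← mul_assoc, hz, one_mul, hzx] at h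
      have h2 : orderOf x ∣ 2 := orderOf_dvd_of_pow_eq_one (by
        rw [sq]; nth_rw 1 [h]; rw [inv_mul_cancel])
      rw [hx] at h2
      exact hr2 ((Nat.prime_dvd_prime_iff_eq hr Nat.prime_two).1 h2)

end Cfsg.Agent.H60
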