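import Cfsg.Agent.H60.GoodSzZero
import Cfsg.Agent.H60.SzBridge

/-!
`Lie.Sz F 2` over the field with two elements acts faithfully on the five points of `GoodSzZero`.
-/

set_option autoImplicit false
set_option linter.style.haveILetI false

namespace Cfsg.Agent.H60

open Matrix

/-- The matrices over two elements preserving the relation `Sz2Rel`. -/
def sz2W : Subgroup (GL (Fin 4) (ZMod 2)) where
  carrier := {g | ∀ c d, Sz2Rel c d →
    Sz2Rel ((g : Matrix (Fin 4) (Fin 4) (ZMod 2)) *ᵥ c) ((g : Matrix (Fin 4) (Fin 4) (ZMod 2)) *ᵥ d)}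
  mul_mem' {g h} hg hh c d hcd := by
    have := hg _ _ (hh c d hcd)
    rwa [Units.val_mul, ← mulVec_mulVec, ← mulVec_mulVec]
  one_mem' c d hcd := by simpa using hcd
  inv_mem' {g} hg := by
    have hpow : ∀ n : ℕ, ∀ c d, Sz2Rel c d →
        Sz2Rel (((g ^ n : GL (Fin 4) (ZMod 2)) : Matrix (Fin 4) (Fin 4) (ZMod 2)) *ᵥ c)
          (((g ^ n : GL (Fin 4) (ZMod 2)) : Matrix (Fin 4) (Fin 4) (ZMod 2)) *ᵥ d) := by
      intro n
      induction n with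
      | zero => intro c d hcd; simpa using hcd
      | succ n ih =>
        intro c d hcd
        have := ih _ _ (hg c d hcd)
        rwa [pow_succ, Units.val_mul, ← mulVec_mulVec, ← mulVec_mulVec]
    have e : g⁻¹ = g ^ (orderOf g - 1) := by
      refine inv_eq_of_mul_eq_one_right ?_
      rw [← pow_succ', Nat.sub_add_cancel (orderOf_pos g), pow_orderOf_eq_one]
    intro c d hcd
    rw [e]
    exact hpow _ c d hcd

theorem sz2_row {c d a b e : Fin 4 → ZMod 2} (h : Sz2Rel c d)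
    (hr : a 0 * b 3 + a 1 * b 2 + a 2 * b 1 + a 3 * b 0 = 0)
    (h0 : a 0 * b 1 - b 0 * a 1 = e 0) (h1 : a 0 * b 2 - b 0 * a 2 = e 1)
    (h2' : a 1 * b 3 - b 1 * a 3 = e 2) (h3 : a 2 * b 3 - b 2 * a 3 = e 3) :
    (a ⬝ᵥ c) * (b ⬝ᵥ d) - (b ⬝ᵥ c) * (a ⬝ᵥ d) = e ⬝ᵥ c := by
  obtain ⟨e01, e02, e13, e23, eB⟩ := h
  have h2 : (2 : ZMod 2) = 0 := by decide
  simp only [dotProduct, Fin.sum_univ_four]
  linear_combination (a 0 * b 1 - b 0 * a 1) * e01 + (a 0 * b 2 - b 0 * a 2) * e02 +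
    (a 1 * b 3 - b 1 * a 3) * e13 + (a 2 * b 3 - b 2 * a 3) * e23 +
    (c 0) * h0 + (c 1) * h1 + (c 2) * h2' + (c 3) * h3 +
    (c 0 * d 3 - c 3 * d 0) * hr + (a 1 * b 2 - b 1 * a 2) * eB -
    ((c 0 * d 3 - c 3 * d 0) * (a 3 * b 0 + a 2 * b 1) + (a 1 * b 2 - b 1 * a 2) * (c 3 * d 0 + c 2 * d 1)
      + (a 1 * b 2 - b 1 * a 2) * (c 0 * d 3 - c 3 * d 0)) * h2

section field

variable {F : Type*} [Field F]

/-- Reading `Lie.Sz F 2` over `ZMod 2`. -/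
def sz2Read (φ : F ≃+* ZMod 2) : GL (Fin 4) F →* GL (Fin 4) (ZMod 2) :=
  Units.map φ.toRingHom.mapMatrix.toMonoidHom

theorem sz2Read_apply (φ : F ≃+* ZMod 2) (g : GL (Fin 4) F) (i j : Fin 4) :
    (sz2Read φ g : Matrix (Fin 4) (Fin 4) (ZMod 2)) i j = φ ((g : Matrix (Fin 4) (Fin 4) F) i j) := rfl

theorem sz2Read_injective (φ : F ≃+* ZMod 2) : Function.Injective (sz2Read φ) := by
  intro g h e
  apply Units.ext
  ext i j
  apply φ.injective
  rw [← sz2Read_apply, ← sz2Read_apply, e]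

theorem sz2Read_mem (φ : F ≃+* ZMod 2) (g : ↥(Cfsg.Lie.Sz F (2 ^ (0 + 1)))) :
    sz2Read φ g.1 ∈ sz2W := by
  suffices h : Cfsg.Lie.Sz F (2 ^ (0 + 1)) ≤ sz2W.comap (sz2Read φ) from h g.2
  refine (Subgroup.closure_le _).2 ?_
  rintro g ⟨hsp, hstar⟩
  set h := (sz2Read φ g : Matrix (Fin 4) (Fin 4) (ZMod 2)) with hh
  have hst : ∀ p r : Fin 4, Cfsg.Lie.star4 h p r = h p r := by
    intro p r
    have h1 := congrArg φ (congrFun (congrFun hstar p) r)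
    have h2 : ∀ z : ZMod 2, z ^ (2 ^ (0 + 1)) = z := by decide
    rw [Matrix.map_apply, map_pow, h2] at h1
    rw [hh, sz2Read_apply, ← h1]
    simp [Cfsg.Lie.star4, sz2Read_apply, -Units.coe_map]
  have hrow : ∀ p : Fin 4, h (Cfsg.Lie.pairOf p).1 0 * h (Cfsg.Lie.pairOf p).2 3 +
      h (Cfsg.Lie.pairOf p).1 1 * h (Cfsg.Lie.pairOf p).2 2 +
      h (Cfsg.Lie.pairOf p).1 2 * h (Cfsg.Lie.pairOf p).2 1 +
      h (Cfsg.Lie.pairOf p).1 3 * h (Cfsg.Lie.pairOf p).2 0 = 0 := by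
    intro p
    have h1 := congrArg φ (congrFun (congrFun (sp4_row hsp) (Cfsg.Lie.pairOf p).1) (Cfsg.Lie.pairOf p).2)
    simp only [hh, sz2Read_apply]
    fin_cases p <;> simp [Cfsg.suzukiForm, Cfsg.Lie.pairOf, Matrix.mul_apply, Fin.sum_univ_four] at h1 ⊢ <;>
      linear_combination h1
  intro c d hcd
  show Sz2Rel (h *ᵥ c) (h *ᵥ d)
  have key : ∀ p : Fin 4, (h *ᵥ c) (Cfsg.Lie.pairOf p).1 * (h *ᵥ d) (Cfsg.Lie.pairOf p).2 -
      (h *ᵥ c) (Cfsg.Lie.pairOf p).2 * (h *ᵥ d) (Cfsg.Lie.pairOf p).1 = (h *ᵥ c) p := fun p =>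
    sz2_row (a := h (Cfsg.Lie.pairOf p).1) (b := h (Cfsg.Lie.pairOf p).2) (e := h p) hcd (hrow p)
      (hst p 0) (hst p 1) (hst p 2) (hst p 3)
  refine ⟨key 0, key 1, key 2, key 3, ?_⟩
  have h1 := fun u v : Fin 4 → ZMod 2 => congrArg φ (hsp (fun i => φ.symm (u i)) (fun i => φ.symm (v i)))
  have h2 := h1 c d
  simp [Cfsg.Lie.altForm4, Units.coeHom_apply, Matrix.mulVec, dotProduct, Fin.sum_univ_four] at h2
  obtain ⟨-, -, -, -, eB⟩ := hcd
  simp only [Matrix.mulVec, dotProduct, Fin.sum_univ_four, hh, sz2Read_apply]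
  linear_combination h2 + eB

end field

theorem sz2W_point (g : ↥sz2W) (i : Fin 5) :
    ∃ j, sz2pt j = (g.1 : Matrix (Fin 4) (Fin 4) (ZMod 2)) *ᵥ sz2pt i := by
  obtain ⟨t, ht, hti⟩ : ∃ t ∈ sz2Tri, t.1 = i := by revert i; decide
  subst hti
  refine sz2_point _ _ (g.2 _ _ (sz2Tri_rel t ht)) fun h0 => ?_
  have h1 := congrArg ((g.1⁻¹ : GL (Fin 4) (ZMod 2)) : Matrix (Fin 4) (Fin 4) (ZMod 2)).mulVec h0
  rw [mulVec_mulVec, ← Units.val_mul, inv_mul_cancel, Units.val_one, one_mulVec, mulVec_zero] at h1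
  revert h1
  generalize t.1 = j
  revert j
  decide

/-- The permutation of the five points. -/
noncomputable def sz2Fun (g : ↥sz2W) (i : Fin 5) : Fin 5 := (sz2W_point g i).choose

theorem sz2Fun_spec (g : ↥sz2W) (i : Fin 5) :
    sz2pt (sz2Fun g i) = (g.1 : Matrix (Fin 4) (Fin 4) (ZMod 2)) *ᵥ sz2pt i := (sz2W_point g i).choose_spec

/-- The action on the five points. -/
noncomputable def sz2Perm : ↥sz2W →* Equiv.Perm (Fin 5) :=
  MonoidHom.mk' (fun g => Equiv.ofBijective (sz2Fun g) (Finite.injective_iff_bijective.1 fun i j e => by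
    apply sz2pt_injective
    have h1 := congrArg ((g.1⁻¹ : GL (Fin 4) (ZMod 2)) : Matrix (Fin 4) (Fin 4) (ZMod 2)).mulVec
      (congrArg sz2pt e)
    rwa [sz2Fun_spec, sz2Fun_spec, mulVec_mulVec, mulVec_mulVec, ← Units.val_mul, inv_mul_cancel,
      Units.val_one, one_mulVec, one_mulVec] at h1))
    fun g h => by
      ext i : 1
      apply sz2pt_injective
      simp [sz2Fun_spec, mulVec_mulVec]

theorem sz2Perm_pres (g : ↥sz2W) : Sz2Pres (sz2Perm g) := by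
  intro t ht
  have := g.2 _ _ (sz2Tri_rel t ht)
  rw [mulVec_add] at this
  simpa [sz2Perm, sz2Fun_spec] using this

theorem sz2Perm_injective : Function.Injective sz2Perm := by
  rw [← MonoidHom.ker_eq_bot_iff, Subgroup.eq_bot_iff_forall]
  intro g hg
  have hfix : ∀ i, (g.1 : Matrix (Fin 4) (Fin 4) (ZMod 2)) *ᵥ sz2pt i = sz2pt i := by
    intro i
    rw [← sz2Fun_spec]
    exact congrArg sz2pt (Equiv.congr_fun hg i)
  have hb : ∀ k : Fin 4, ∃ i j l : Fin 5, (Pi.single k (1 : ZMod 2) : Fin 4 → ZMod 2) = sz2pt i ∨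
      Pi.single k (1 : ZMod 2) = sz2pt i + sz2pt j + sz2pt l := by decide +kernel
  apply Subtype.ext
  apply Units.ext
  ext a k
  have hk : (g.1 : Matrix (Fin 4) (Fin 4) (ZMod 2)) *ᵥ Pi.single k 1 = Pi.single k 1 := by
    obtain ⟨i, j, l, h | h⟩ := hb k
    · rw [h, hfix]
    · rw [h, mulVec_add, mulVec_add, hfix, hfix, hfix]
  have := congrFun hk a
  rw [Matrix.mulVec_single_one, Matrix.col_apply] at this
  rw [this]
  simp [Matrix.one_apply, Pi.single_apply]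

theorem goodSz_zero {F : Type*} [Field F] [Fintype F] (hF : Fintype.card F = 2)
    {P : Subgroup ↥(Cfsg.Lie.Sz F (2 ^ (0 + 1)))} (hP1 : P ≠ ⊥) (hexp : ∀ z ∈ P, z ^ 2 = 1) :
    (∀ v : ↥(Cfsg.Lie.Sz F (2 ^ (0 + 1))), v ^ 2 = 1 → v ≠ 1 → ∃ g, v ∈ cj P g) ∧
      (∀ v g : ↥(Cfsg.Lie.Sz F (2 ^ (0 + 1))), v ^ 2 = 1 →
        v ∈ Subgroup.normalizer (cj P g : Set ↥(Cfsg.Lie.Sz F (2 ^ (0 + 1)))) → v ∈ cj P g) ∧
      ∀ r : ℕ, r.Prime → r ≠ 2 → ∀ x : ↥(Cfsg.Lie.Sz F (2 ^ (0 + 1))), orderOf x = r → IsGoodElem 2 x := by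
  have φ : F ≃+* ZMod 2 := (ZMod.ringEquivOfPrime F Nat.prime_two hF).symm
  let f := sz2Perm.comp (((sz2Read φ).comp (Cfsg.Lie.Sz F (2 ^ (0 + 1))).subtype).codRestrict sz2W
    (sz2Read_mem φ))
  refine good_of_sz2_perm f ?_ (fun x => sz2Perm_pres _) hP1 hexp
  intro a b e
  exact Subtype.ext (sz2Read_injective φ (congrArg Subtype.val (sz2Perm_injective e)))

end Cfsg.Agent.H60
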