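import Cfsg.Agent.H60.FrakL
import Cfsg.Agent.H60.GoodSz
import Cfsg.Agent.H60.GoodSzTwo
import Cfsg.Agent.Linear.Unitriangular
import Cfsg.Agent.Linear.Dickson.Scaled

/-!
The normalizer of the image of Y in L/O_p(L), L ∈ 𝔏_G(Y_M), acts irreducibly on that image and every element of order
p in it lies in that image.
-/

set_option autoImplicit false
set_option linter.style.haveILetI false

namespace Cfsg.Agent.H60

open Subgroup

/-- The two properties of the pair `(Q, P)` that are needed. -/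
def IsBorelPair {Q : Type*} [Group Q] (p : ℕ) (P : Subgroup Q) : Prop :=
  (∀ u : Q, u ^ p = 1 → u ∈ normalizer (P : Set Q) → u ∈ P) ∧
    ∀ V : Subgroup Q, V ≤ P → normalizer (P : Set Q) ≤ normalizer (V : Set Q) → V ≠ ⊥ → V = P

theorem irreducible_of_card_prime {Q : Type*} [Group Q] {p : ℕ} (hp : p.Prime) {P : Subgroup Q}
    (hc : Nat.card P = p) (V : Subgroup Q) (hV : V ≤ P) (h1 : V ≠ ⊥) : V = P := by
  haveI : Finite P := Nat.finite_of_card_ne_zero (hc ▸ hp.ne_zero)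
  haveI : Finite V := Finite.of_injective _ (inclusion_injective hV)
  refine eq_of_le_of_card_ge hV (le_of_eq ?_)
  rcases (Nat.dvd_prime hp).1 (hc ▸ card_dvd_of_le hV) with h | h
  · exact absurd (card_eq_one.1 h) h1
  · rw [hc, h]

theorem isBorelPair_cj {Q : Type*} [Group Q] {p : ℕ} {P : Subgroup Q} (g : Q) (h : IsBorelPair p P) :
    IsBorelPair p (cj P g) := by
  refine ⟨fun u hu hn => mem_cj.2 (h.1 _ ?_ ?_), fun V hV hN hV1 => ?_⟩
  · rw [show g⁻¹ * u * g = g⁻¹ * u * g⁻¹⁻¹ by rw [inv_inv], _root_.conj_pow, hu, mul_one, mul_inv_cancel]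
  · rw [← cj_normalizer] at hn; exact mem_cj.1 hn
  · have h2 : cj V g⁻¹ = P := by
      refine h.2 _ (by rwa [← le_cj_iff]) ?_ (fun hb => hV1 (cj_eq_bot_iff.1 hb))
      rw [← cj_normalizer, ← cj_le_iff, cj_normalizer]
      exact hN
    rw [← h2, cj_cj, mul_inv_cancel, cj_one]

theorem borelPair_SL {F : Type*} [Field F] [Fintype F] {p : ℕ} [Fact p.Prime] [CharP F p]
    {P : Subgroup (Matrix.SpecialLinearGroup (Fin 2) F)} (hP : IsPGroup p P) (hc : Nat.card P = Fintype.card F) :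
    IsBorelPair p P := by
  classical
  let f : Multiplicative F →* Matrix.SpecialLinearGroup (Fin 2) F :=
    MonoidHom.mk' (fun c => Linear.upSL c.toAdd) fun a b => Linear.Dickson.upSL_add a.toAdd b.toAdd
  have hinj : Function.Injective f := fun a b h => by
    have := congrArg (fun z : Matrix.SpecialLinearGroup (Fin 2) F => (z : Matrix (Fin 2) (Fin 2) F) 0 1) h
    simpa [f, Linear.upSL_coe] using this
  have hUc : Nat.card f.range = Fintype.card F := by
    rw [← Nat.card_congr (MonoidHom.ofInjective hinj).toEquiv, ← Nat.card_eq_fintype_card]; rfl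
  have hU : IsPGroup p f.range := by
    obtain ⟨n, -, hn⟩ := FiniteField.card F p
    exact IsPGroup.of_card (hUc.trans hn)
  have hsyl : ∀ T : Sylow p (Matrix.SpecialLinearGroup (Fin 2) F), Nat.card T = Fintype.card F := fun T => by
    rw [Linear.card_sylow_SL p T]; norm_num
  obtain ⟨h1, h2⟩ := sylow_hyps hU fun T => by rw [hsyl T, hUc]
  have hirr : IsBorelPair p f.range := by
    refine ⟨fun u hu hn => ?_, fun V hV hN hV1 => ?_⟩
    · simpa using h2 u 1 hu (by simpa using hn)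
    obtain ⟨_, hv, ⟨c, rfl⟩, hv1⟩ : ∃ v, v ∈ V ∧ v ∈ f.range ∧ v ≠ 1 := by
      obtain ⟨v, hv, hv1⟩ := (show ∃ v, v ∈ V ∧ v ≠ 1 from (Subgroup.ne_bot_iff_exists_ne_one.1 hV1).elim fun ⟨v, hv⟩ h =>
        ⟨v, hv, fun e => h (Subtype.ext e)⟩)
      exact ⟨v, hv, hV hv, hv1⟩
    have hc0 : c.toAdd ≠ 0 := fun h => hv1 (by show Linear.upSL c.toAdd = 1; rw [h, Linear.Dickson.upSL_zero])
    have hsq : ∀ t b : F, Linear.upSL b ∈ V → Linear.upSL (t ^ 2 * b) ∈ V := by
      intro t b hb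
      rcases eq_or_ne t 0 with rfl | ht
      · simpa [Linear.Dickson.upSL_zero] using one_mem V
      let d : Matrix.SpecialLinearGroup (Fin 2) F := Linear.Dickson.dSL (Units.mk0 t ht)
      have hd : ∀ a : F, d * Linear.upSL a = Linear.upSL (t ^ 2 * a) * d := by
        intro a
        apply Linear.SL_ext_two <;> simp [Linear.SL_mul_entries, Linear.upSL_coe, d, Linear.Dickson.dSL_coe]
        field_simp
      have hdn : d ∈ normalizer (f.range : Set (Matrix.SpecialLinearGroup (Fin 2) F)) := by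
        rw [mem_normalizer_iff_map_conj_eq]
        refine eq_of_le_of_card_ge ?_ (le_of_eq (card_map_of_injective (MulAut.conj d).injective).symm)
        rintro _ ⟨_, ⟨a, rfl⟩, rfl⟩
        exact ⟨Multiplicative.ofAdd (t ^ 2 * a.toAdd), (mul_inv_eq_of_eq_mul (hd a.toAdd)).symm⟩
      have h3 := (mem_normalizer_iff.1 (hN hdn) (Linear.upSL b)).1 hb
      rwa [mul_inv_eq_of_eq_mul (hd b)] at h3
    have hsplit : ∀ a : F, ∃ x y : F, x ^ 2 + y ^ 2 = a := by
      intro a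
      by_cases h2 : ringChar F = 2
      · obtain ⟨x, hx⟩ := FiniteField.isSquare_of_char_two h2 a
        exact ⟨x, 0, by rw [hx]; ring⟩
      · obtain ⟨x, y, hxy⟩ := Linear.exists_sq_add_mul_sq_eq (Ring.two_ne_zero h2) (D := (-1 : F))
          (neg_ne_zero.2 one_ne_zero) a
        exact ⟨x, y, by rw [← hxy]; ring⟩
    refine le_antisymm hV ?_
    rintro _ ⟨a, rfl⟩
    obtain ⟨x, y, hxy⟩ := hsplit (a.toAdd / c.toAdd)
    have : a.toAdd = x ^ 2 * c.toAdd + y ^ 2 * c.toAdd := by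
      rw [← add_mul, hxy, div_mul_cancel₀ _ hc0]
    show Linear.upSL a.toAdd ∈ V
    rw [this, Linear.Dickson.upSL_add]
    exact mul_mem (hsq x _ hv) (hsq y _ hv)
  obtain ⟨S, hS⟩ := hU.exists_le_sylow
  obtain ⟨T, hT⟩ := hP.exists_le_sylow
  have e1 : f.range = (S : Subgroup _) := eq_of_le_of_card_ge hS (le_of_eq (by rw [hUc]; exact hsyl S))
  have e2 : P = (T : Subgroup _) := eq_of_le_of_card_ge hT (le_of_eq (by rw [hc]; exact hsyl T))
  obtain ⟨g, hg⟩ := MulAction.exists_smul_eq (Matrix.SpecialLinearGroup (Fin 2) F) S T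
  have e3 : P = cj f.range g := by
    rw [e2, ← hg, e1]; rfl
  rw [e3]
  exact isBorelPair_cj g hirr

open Cfsg.Agent.Suzuki (u t SzField th) in
theorem borelPair_Sz {F : Type*} [Field F] [Fintype F] (m : ℕ) [SzField F m]
    {P : Subgroup ↥(Cfsg.Sz F m)} (hP : IsPGroup 2 P) (hcard : Nat.card P = Nat.card F)
    (hexp : ∀ z ∈ P, z ^ 2 = 1) : IsBorelPair 2 P := by
  obtain ⟨S, hS⟩ := hP.exists_le_sylow
  obtain ⟨k, hk⟩ := Suzuki.exists_conj_U m S
  have hPZ : P = cj (szZ m) k := by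
    refine Subgroup.eq_of_le_of_card_ge (fun v hv => mem_cj.2 ?_) (by rw [card_cj, card_szZ, hcard])
    have h1 := hS hv
    rw [hk] at h1
    refine mem_szZ_of_sq m (mem_cj.1 h1) ?_
    calc k⁻¹ * v * k * (k⁻¹ * v * k) = k⁻¹ * (v ^ 2) * k := by rw [sq]; group
      _ = 1 := by rw [hexp v hv]; group
  rw [hPZ]
  refine isBorelPair_cj k ⟨fun v hv hn => mem_szZ_of_normalize m (by rwa [sq] at hv) hn, fun V hV hN hV1 => ?_⟩
  obtain ⟨c, hc, hc0⟩ : ∃ c : F, (u m 0 c : ↥(Cfsg.Sz F m)) ∈ V ∧ c ≠ 0 := by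
    obtain ⟨⟨v, hv⟩, hv1⟩ := Subgroup.ne_bot_iff_exists_ne_one.1 hV1
    obtain ⟨c, rfl⟩ := (mem_szZ m).1 (hV hv)
    exact ⟨c, hv, fun h => hv1 (Subtype.ext ((Suzuki.u_eq_one m).2 ⟨rfl, h⟩))⟩
  let ψ : Fˣ →* Fˣ := MonoidHom.mk' (fun s => s ^ 2 * Units.mk0 (th m (s : F))
    (fun h => s.ne_zero ((Suzuki.th_eq_zero m).1 h))) (by
      intro a b
      ext
      simp [Suzuki.th_mul]
      ring)
  have hψ : Function.Injective ψ := by
    rw [injective_iff_map_eq_one]
    intro s hs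
    have h1 : (s : F) ^ 2 * th m (s : F) = 1 := by simpa [ψ] using congrArg Units.val hs
    have h2 : th m ((s : F) ^ 2 * th m (s : F)) = 1 := by rw [h1, Suzuki.th_one]
    rw [Suzuki.th_mul, Suzuki.th_pow, Suzuki.th_th] at h2
    have h3 : (s : F) ^ 2 = 1 := by
      linear_combination ((s : F) ^ 2 * th m (s : F) + 1) * h1 - (s : F) ^ 2 * h2
    exact Units.ext (Suzuki.eq_one_of_sq (F := F) m h3)
  refine le_antisymm hV fun v hv => ?_
  obtain ⟨a, rfl⟩ := (mem_szZ m).1 hv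
  rcases eq_or_ne a 0 with rfl | ha
  · rw [(Suzuki.u_eq_one m).2 ⟨rfl, rfl⟩]; exact one_mem V
  obtain ⟨s, hs⟩ := (Finite.injective_iff_surjective.1 hψ) (Units.mk0 (a / c) (div_ne_zero ha hc0))
  have htn : (t m s : ↥(Cfsg.Sz F m)) ∈ normalizer ((szZ m : Subgroup ↥(Cfsg.Sz F m)) : Set ↥(Cfsg.Sz F m)) := by
    rw [mem_normalizer_iff_map_conj_eq]
    refine eq_of_le_of_card_ge ?_ (le_of_eq (card_map_of_injective (MulAut.conj (t m s)).injective).symm)
    rintro _ ⟨w, hw, rfl⟩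
    obtain ⟨b, rfl⟩ := (mem_szZ m).1 hw
    show t m s * u m 0 b * (t m s)⁻¹ ∈ szZ m
    rw [Suzuki.t_u, mul_zero]
    exact (mem_szZ m).2 ⟨_, rfl⟩
  have h4 := (mem_normalizer_iff.1 (hN htn) (u m 0 c)).1 hc
  rw [Suzuki.t_u, mul_zero] at h4
  have h5 : (s : F) ^ 2 * th m (s : F) = a / c := by simpa [ψ] using congrArg Units.val hs
  rwa [h5, div_mul_cancel₀ _ hc0] at h4

variable {G : Type*} [Group G] {p : ℕ}

theorem borel_conclude [Finite G] [Fact p.Prime] {M L : Subgroup G} (hL : Cfsg.IsInFrakL p M L)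
    {Q : Type*} [Group Q] (e : ↥L ⧸ Cfsg.pCore p ↥L ≃* Q)
    (hgood : ∀ P : Subgroup Q, IsPGroup p P → P ≠ ⊥ →
      Nat.card P = (Cfsg.largestPReducedOf p M ⊓ Cfsg.pCoreOf p L).relIndex (Cfsg.largestPReducedOf p M) →
      (∀ x ∈ P, x ^ p = 1) → IsBorelPair p P)
    (NL : Subgroup G) (hNL : NL = L ⊓ normalizer (Cfsg.largestPReducedOf p M : Set G))
    [hn : ((Cfsg.pCoreOf p L).subgroupOf NL).Normal] :
    let Ybar := ((Cfsg.largestPReducedOf p M).subgroupOf NL).map (QuotientGroup.mk' ((Cfsg.pCoreOf p L).subgroupOf NL))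
    Ybar ≠ ⊥ ∧ Ybar.Normal ∧ Cfsg.IsElementaryAbelian p Ybar ∧
      ∀ V : Subgroup (↥NL ⧸ (Cfsg.pCoreOf p L).subgroupOf NL),
        V.Normal → Cfsg.IsElementaryAbelian p V → V ≠ ⊥ → V = Ybar := by
  set Y := Cfsg.largestPReducedOf p M with hY
  set A := (Cfsg.pCoreOf p L).subgroupOf NL with hA
  intro Ybar
  have hS := frakL_setup hL
  set φ : ↥L →* Q := e.toMonoidHom.comp (QuotientGroup.mk' (Cfsg.pCore p ↥L)) with hφ
  have hsurj : Function.Surjective φ := e.surjective.comp (QuotientGroup.mk'_surjective _)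
  have hker : φ.ker = Cfsg.pCore p ↥L := by ext z; simp [hφ, QuotientGroup.eq_one_iff]
  obtain ⟨hPp, hPc, hPne⟩ := frakL_map_props hL φ hker
  obtain ⟨hel1, hel2⟩ := isElementaryAbelian_yOf (p := p) M
  set P := (Y.subgroupOf L).map φ with hP
  have hPexp : ∀ x ∈ P, x ^ p = 1 := by
    rintro _ ⟨y, hy, rfl⟩
    rw [← map_pow, show y ^ p = 1 from Subtype.ext (hel2 y hy), map_one]
  obtain ⟨hB1, hB2⟩ := hgood P hPp hPne hPc hPexp
  have hNLL : NL ≤ L := hNL ▸ inf_le_left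
  let ψ : ↥NL →* Q := φ.comp (inclusion hNLL)
  have hψker : ψ.ker = A := by
    ext z
    show φ (inclusion hNLL z) = 1 ↔ (z : G) ∈ Cfsg.pCoreOf p L
    rw [← MonoidHom.mem_ker, hker]
    refine ⟨fun h => ⟨_, h, rfl⟩, ?_⟩
    rintro ⟨a, ha, hae⟩
    have : a = inclusion hNLL z := Subtype.ext hae
    rwa [← this]
  -- the range of ψ is the normalizer of P
  have hle : ψ.range ≤ normalizer (P : Set Q) := by
    rintro _ ⟨z, rfl⟩
    refine Subgroup.le_normalizer_map φ ⟨inclusion hNLL z, ?_, rfl⟩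
    rw [← subgroupOf_normalizer_eq hL.1, SetLike.mem_coe, mem_subgroupOf]
    exact (mem_inf.1 (hNL ▸ z.2 : (z : G) ∈ L ⊓ normalizer (Y : Set G))).2
  have hge : normalizer (P : Set Q) ≤ ψ.range := by
    intro q hq
    obtain ⟨g, rfl⟩ := hsurj q
    have hg : g ∈ normalizer ((Y.subgroupOf L : Subgroup L) : Set L) := by
      refine hS.maxi ((normalizer (P : Set Q)).comap φ) ?_ ?_ hq
      · intro y hy; exact le_normalizer (mem_map_of_mem φ hy)
      · intro htop
        have hY' : Y.subgroupOf L ≤ P.comap φ := fun y hy => mem_map_of_mem φ hy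
        haveI : P.Normal := normalizer_eq_top_iff.1 (by
          rw [← map_comap_eq_self_of_surjective hsurj (normalizer (P : Set Q)), htop,
            map_top_of_surjective φ hsurj])
        have h1 : P.comap φ = ⊤ := top_le_iff.1 (hS.gen ▸ normalClosure_le_normal hY')
        have hAtop : IsPGroup p (⊤ : Subgroup ↥L) := by
          rw [← h1]
          exact hPp.comap_of_ker_isPGroup φ (hker ▸ Cores.pCore_isPGroup)
        exact hS.ne_top (top_le_iff.1 ((le_sSup ⟨inferInstance, hAtop⟩ : (⊤ : Subgroup ↥L) ≤ Cfsg.pCore p ↥L).trans hS.le_norm))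
    rw [← subgroupOf_normalizer_eq hL.1, mem_subgroupOf] at hg
    exact ⟨⟨g, hNL ▸ mem_inf.2 ⟨g.2, hg⟩⟩, rfl⟩
  have hrange : ψ.range = normalizer (P : Set Q) := le_antisymm hle hge
  let ι : ↥NL ⧸ A →* Q := QuotientGroup.lift A ψ hψker.ge
  have hι : Function.Injective ι := by
    rw [← MonoidHom.ker_eq_bot_iff, eq_bot_iff]
    intro z hz
    induction z using QuotientGroup.induction_on with | _ z => ?_
    rw [mem_bot, QuotientGroup.eq_one_iff, ← hψker]
    exact hz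
  have hYN : Y ≤ NL := hNL ▸ le_inf hL.1 le_normalizer
  have hYmap : Ybar.map ι = P := by
    show ((Y.subgroupOf NL).map (QuotientGroup.mk' A)).map ι = P
    rw [Subgroup.map_map, show ι.comp (QuotientGroup.mk' A) = ψ from MonoidHom.ext fun z => rfl]
    ext q
    constructor
    · rintro ⟨z, hz, rfl⟩; exact ⟨inclusion hNLL z, hz, rfl⟩
    · rintro ⟨y, hy, rfl⟩; exact ⟨⟨y, hYN hy⟩, hy, rfl⟩
  refine ⟨fun h => hPne (by rw [← hYmap, h, Subgroup.map_bot]), ?_, ?_, fun V hVn hVel hV1 => ?_⟩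
  · refine (Subgroup.Normal.map ?_ _ (QuotientGroup.mk'_surjective A))
    exact normal_subgroupOf_of_le_normalizer (hNL ▸ inf_le_right)
  · refine ⟨⟨⟨?_⟩⟩, ?_⟩
    · rintro ⟨_, ⟨a, ha, rfl⟩⟩ ⟨_, ⟨b, hb, rfl⟩⟩
      refine Subtype.ext ?_
      show QuotientGroup.mk' A a * QuotientGroup.mk' A b = QuotientGroup.mk' A b * QuotientGroup.mk' A a
      rw [← map_mul, ← map_mul, show a * b = b * a from Subtype.ext
        (congrArg Subtype.val (hel1.is_comm.comm (⟨(a : G), ha⟩ : Y) ⟨(b : G), hb⟩) : (a : G) * b = b * a)]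
    · rintro _ ⟨a, ha, rfl⟩
      rw [← map_pow, show a ^ p = 1 from Subtype.ext (hel2 (a : G) ha), map_one]
  · have hV' : V.map ι ≤ P := by
      rintro _ ⟨v, hv, rfl⟩
      refine hB1 _ (by rw [← map_pow, hVel.2 v hv, map_one]) (hle ?_)
      induction v using QuotientGroup.induction_on with | _ v => ?_
      exact ⟨v, rfl⟩
    have hVN : normalizer (P : Set Q) ≤ normalizer ((V.map ι : Subgroup Q) : Set Q) := by
      intro q hq
      obtain ⟨z, rfl⟩ := hge hq
      have h2 : (z : ↥NL ⧸ A) ∈ normalizer (V : Set (↥NL ⧸ A)) := by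
        rw [normalizer_eq_top_iff.2 hVn]; exact mem_top _
      exact Subgroup.le_normalizer_map ι ⟨_, h2, rfl⟩
    have h3 := hB2 _ hV' hVN (fun h => hV1 ((Subgroup.map_eq_bot_iff_of_injective _ hι).1 h))
    exact Subgroup.map_injective hι (h3.trans hYmap.symm)

end Cfsg.Agent.H60
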