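import Cfsg.Agent.H60.FrakM

/-!
Local subgroups over a member of `𝔐` lie in `M†`.
-/

set_option autoImplicit false

namespace Cfsg.Agent.H60

open Subgroup

variable {G : Type*} [Group G] [Finite G] {p : ℕ} [Fact p.Prime]

/-- A parabolic subgroup with nontrivial `p`-core lies in `𝓛_G`, when there is a large subgroup. -/
theorem parabolic_mem_charP {Q : Subgroup G} (hQp : IsPGroup p Q) (hL : Cfsg.IsLarge Q) {R : Subgroup G}
    (hR : Cfsg.IsParabolic p R) (hO : Cfsg.pCore p ↥R ≠ ⊥) : R ∈ Cfsg.charPSubgroups p G := by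
  refine ⟨hO, ?_⟩
  obtain ⟨T, hTR⟩ := hR
  obtain ⟨T0, hT0⟩ := hQp.exists_le_sylow
  obtain ⟨g, hg⟩ := MulAction.exists_smul_eq G T0 T
  set Q' := cj Q g with hQ'def
  have hgT : Q' ≤ (T : Subgroup G) := by
    rintro _ ⟨y, hy, rfl⟩
    rw [← hg]
    exact ⟨y, hT0 hy, rfl⟩
  have hL' := isLarge_cj hL g
  have hQp' : IsPGroup p Q' := isPGroup_cj hQp g
  have hQR : Q' ≤ R := hgT.trans hTR
  show centralizer (Cfsg.pCoreOf p R : Set G) ≤ Cfsg.pCoreOf p R
  set P := Cfsg.pCoreOf p R with hP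
  set K := centralizer (P : Set G) with hK
  have hP1 : P ≠ ⊥ := fun h => hO ((pCoreOf_eq_bot_iff R).1 h)
  have hQP : Q' ≤ normalizer (P : Set G) := le_trans hQR (le_normalizer_pCoreOf R)
  have hKQ : K ≤ normalizer (Q' : Set G) :=
    large_centralizer_le_normalizer hL' hQp' (pCoreOf_isPGroup R) hP1 hQP
  have hRK : R ≤ normalizer (K : Set G) :=
    le_trans (le_normalizer_pCoreOf R) (normalizer_le_normalizer_centralizer P)
  have hM : Q' ⊓ K ≤ P := by
    refine le_trans (le_inf ?_ (le_trans inf_le_left hQR)) (b := Cfsg.pCoreOf p K ⊓ R) ?_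
    · exact le_pCoreOf inf_le_right (le_normalizer_inf hKQ Subgroup.le_normalizer) hQp'.to_inf_left
    · exact le_pCoreOf inf_le_right
        (le_normalizer_inf (le_trans hRK (normalizer_le_normalizer_pCoreOf K)) Subgroup.le_normalizer)
        (pCoreOf_isPGroup K).to_inf_left
  have hC : IsPGroup p K := by
    refine isPGroup_of_coprime_eq_one fun x hx hco => ?_
    have hxQ : x ∈ centralizer (Q' : Set G) := by
      refine mem_centralizer_iff.2 fun y hy => ?_
      refine (commute_of_commutator_fixed (M := Q' ⊓ K) hQp'.to_inf_left hco ?_ ?_).symm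
      · intro m hm
        exact ((mem_centralizer_iff.1 hx) m (hM hm)).symm
      · refine ⟨Q'.mul_mem ((mem_normalizer_iff.1 (hKQ hx) y).1 hy) (Q'.inv_mem hy), ?_⟩
        have h1 : y * x⁻¹ * y⁻¹ ∈ K :=
          (mem_normalizer_iff.1 (hRK (hQR hy)) _).1 (K.inv_mem hx)
        simpa [mul_assoc] using K.mul_mem hx h1
    obtain ⟨k, hk⟩ := hQp' ⟨x, hL'.1 hxQ⟩
    have hk1 : orderOf x ∣ p ^ k := orderOf_dvd_of_pow_eq_one (congrArg Subtype.val hk)
    have hd : orderOf x ∣ Nat.gcd (orderOf x) (p ^ k) := Nat.dvd_gcd dvd_rfl hk1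
    rwa [Nat.Coprime.pow_right k hco, Nat.dvd_one, orderOf_eq_one_iff] at hd
  have hCT : K ≤ (T : Subgroup G) :=
    le_trans le_sup_right (T.3 (T.2.to_sup_of_normal_right' hC (le_trans hTR hRK)) le_sup_left).le
  exact le_pCoreOf (le_trans hCT hTR) hRK hC

omit [Fact p.Prime] in
theorem le_dagger {M X : Subgroup G} (hM : Cfsg.IsInFrakM p M) (hX : X ∈ Cfsg.charPSubgroups p G)
    (hMX : M ≤ X) : X ≤ M ⊔ centralizer (Cfsg.largestPReducedOf p M : Set G) := by
  obtain ⟨Z, hXZ, hZ⟩ := Finite.exists_le_maximal (p := fun Z => Z ∈ Cfsg.charPSubgroups p G) hX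
  have := hM.2.2.1 Z ⟨hZ.1, fun W hW hle => le_antisymm (hZ.2 hW hle) hle⟩ (hMX.trans hXZ)
  exact this ▸ hXZ

/-- The normalizer of a nontrivial normal `p`-subgroup of `M` lies in `M†`. -/
theorem normalizer_le_dagger {Q : Subgroup G} (hQp : IsPGroup p Q) (hQ : Cfsg.IsLarge Q) (S : Sylow p G)
    {M : Subgroup G} (hSM : (S : Subgroup G) ≤ M) (hM : Cfsg.IsInFrakM p M) {I : Subgroup G}
    (hI1 : I ≠ ⊥) (hIp : IsPGroup p I) (hMI : M ≤ normalizer (I : Set G)) :
    normalizer (I : Set G) ≤ M ⊔ centralizer (Cfsg.largestPReducedOf p M : Set G) := by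
  refine le_dagger hM (parabolic_mem_charP hQp hQ ⟨S, hSM.trans hMI⟩ fun h => hI1 ?_) hMI
  exact le_bot_iff.1 ((pCoreOf_eq_bot_iff _).2 h ▸ le_pCoreOf Subgroup.le_normalizer le_rfl hIp)

end Cfsg.Agent.H60
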