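import Cfsg.Agent.H60.Large

/-!
The largest p-reduced normal subgroup Y_M and first consequences of the basic property.
-/

set_option autoImplicit false

namespace Cfsg.Agent.H60

open Subgroup

variable {G : Type*} [Group G] {p : ℕ}

section abstractL

variable {L : Type*} [Group L]

theorem preduced_pCore_le_centralizer {V : Subgroup L} (hV : Cfsg.IsPReducedNormal p V) :
    Cfsg.pCore p L ≤ centralizer (V : Set L) := by
  obtain ⟨-, -, hn, hq⟩ := hV
  have h := Cores.pCore_map_le (p := p) (QuotientGroup.mk'_surjective (centralizer (V : Set L)))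
  rw [hq, le_bot_iff, Subgroup.map_eq_bot_iff, QuotientGroup.ker_mk'] at h
  exact h

theorem isPGroup_of_isElementaryAbelian {V : Subgroup L} (hV : Cfsg.IsElementaryAbelian p V) :
    IsPGroup p V := fun ⟨x, hx⟩ => ⟨1, Subtype.ext (by simpa using hV.2 x hx)⟩

theorem preduced_le_pCore {V : Subgroup L} (hV : Cfsg.IsPReducedNormal p V) : V ≤ Cfsg.pCore p L :=
  haveI := hV.1; Cores.le_pCore (isPGroup_of_isElementaryAbelian hV.2.1)

theorem pCore_le_centralizer_largest :
    Cfsg.pCore p L ≤ centralizer (Cfsg.largestPReduced p L : Set L) := by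
  rw [le_centralizer_iff]
  exact sSup_le fun V hV => le_centralizer_iff.1 (preduced_pCore_le_centralizer hV)

theorem largest_le_pCore : Cfsg.largestPReduced p L ≤ Cfsg.pCore p L :=
  sSup_le fun _ hV => preduced_le_pCore hV

theorem isElementaryAbelian_largest : Cfsg.IsElementaryAbelian p (Cfsg.largestPReduced p L) := by
  have hc : ∀ x ∈ Cfsg.largestPReduced p L, ∀ y ∈ Cfsg.largestPReduced p L, x * y = y * x :=
    fun x hx y hy =>
      mem_centralizer_iff.1 (pCore_le_centralizer_largest (largest_le_pCore hy)) x hx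
  refine ⟨⟨⟨fun x y => Subtype.ext (hc x x.2 y y.2)⟩⟩, fun a ha => ?_⟩
  have ha' := ha
  unfold Cfsg.largestPReduced at ha
  rw [sSup_eq_iSup'] at ha
  suffices h : a ∈ Cfsg.largestPReduced p L ∧ a ^ p = 1 from h.2
  induction ha using Subgroup.iSup_induction' with
  | hp i x hx => exact ⟨le_sSup i.2 hx, i.2.2.1.2 x hx⟩
  | h1 => exact ⟨one_mem _, one_pow _⟩
  | hmul x y hx' hy' hx hy =>
    have hx1 : x ∈ Cfsg.largestPReduced p L := by
      unfold Cfsg.largestPReduced; rw [sSup_eq_iSup']; exact hx'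
    have hy1 : y ∈ Cfsg.largestPReduced p L := by
      unfold Cfsg.largestPReduced; rw [sSup_eq_iSup']; exact hy'
    obtain ⟨-, hxp⟩ := hx hx1
    obtain ⟨-, hyp⟩ := hy hy1
    exact ⟨mul_mem hx1 hy1, by rw [Commute.mul_pow (hc x hx1 y hy1), hxp, hyp, one_mul]⟩

instance largest_normal : (Cfsg.largestPReduced p L).Normal :=
  Subgroup.sSup_normal _ fun _ h => h.1

/-- The join of the p-reduced normal subgroups is p-reduced. -/
theorem isPReducedNormal_largest : Cfsg.IsPReducedNormal p (Cfsg.largestPReduced p L) := by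
  refine ⟨inferInstance, isElementaryAbelian_largest, inferInstance, ?_⟩
  set C := centralizer (Cfsg.largestPReduced p L : Set L) with hC
  rw [eq_bot_iff]
  intro x hx
  obtain ⟨y, rfl⟩ := QuotientGroup.mk_surjective x
  rw [Subgroup.mem_bot, QuotientGroup.eq_one_iff]
  show y ∈ C
  suffices h : y ∈ centralizer (Cfsg.largestPReduced p L : Set L) from h
  rw [← Subgroup.zpowers_le, le_centralizer_iff]
  refine sSup_le fun V hV => ?_
  rw [le_centralizer_iff, Subgroup.zpowers_le]
  have hle : C ≤ centralizer (V : Set L) := centralizer_le (le_sSup (a := V) hV)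
  obtain ⟨-, -, hn, hq⟩ := hV
  let f : L ⧸ C →* L ⧸ centralizer (V : Set L) := QuotientGroup.map C _ (MonoidHom.id L) hle
  have hf : Function.Surjective f := fun z => by
    obtain ⟨w, rfl⟩ := QuotientGroup.mk_surjective z
    exact ⟨QuotientGroup.mk w, rfl⟩
  have h2 : f (QuotientGroup.mk y) ∈ (⊥ : Subgroup _) := hq ▸ Cores.pCore_map_le hf ⟨_, hx, rfl⟩
  rwa [Subgroup.mem_bot, show f (QuotientGroup.mk y) = QuotientGroup.mk y from rfl,
    QuotientGroup.eq_one_iff] at h2

end abstractL

theorem yOf_le_pCoreOf (M : Subgroup G) : Cfsg.largestPReducedOf p M ≤ Cfsg.pCoreOf p M :=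
  Subgroup.map_mono largest_le_pCore

theorem yOf_le (M : Subgroup G) : Cfsg.largestPReducedOf p M ≤ M := map_subtype_le _

theorem pCoreOf_le_centralizer_yOf (M : Subgroup G) :
    Cfsg.pCoreOf p M ≤ centralizer (Cfsg.largestPReducedOf p M : Set G) := by
  rintro _ ⟨x, hx, rfl⟩
  refine mem_centralizer_iff.2 ?_
  rintro _ ⟨y, hy, rfl⟩
  exact congrArg Subtype.val (mem_centralizer_iff.1 (pCore_le_centralizer_largest hx) y hy)

theorem le_normalizer_yOf (M : Subgroup G) :
    M ≤ normalizer (Cfsg.largestPReducedOf p M : Set G) := by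
  rw [le_normalizer_iff]
  rintro h hh _ ⟨x, hx, rfl⟩
  exact ⟨⟨h, hh⟩ * x * ⟨h, hh⟩⁻¹, Normal.conj_mem inferInstance x hx _, rfl⟩

theorem sup_centralizer_le_normalizer_yOf (M : Subgroup G) :
    M ⊔ centralizer (Cfsg.largestPReducedOf p M : Set G) ≤
      normalizer (Cfsg.largestPReducedOf p M : Set G) :=
  sup_le (le_normalizer_yOf M) (centralizer_le_normalizer _)

theorem isElementaryAbelian_yOf (M : Subgroup G) :
    Cfsg.IsElementaryAbelian p (Cfsg.largestPReducedOf p M) := by
  obtain ⟨hc, hp⟩ := isElementaryAbelian_largest (p := p) (L := ↥M)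
  constructor
  · constructor; constructor
    rintro ⟨_, x, hx, rfl⟩ ⟨_, y, hy, rfl⟩
    exact Subtype.ext (congrArg (fun z : ↥(Cfsg.largestPReduced p ↥M) => ((z : ↥M) : G))
      (hc.is_comm.comm ⟨x, hx⟩ ⟨y, hy⟩))
  · rintro _ ⟨x, hx, rfl⟩
    exact congrArg Subtype.val (hp x hx)

/-- In a Sylow-containing member of 𝔐 the p-subgroups centralizing Y lie in O_p. -/
theorem pClosed_centralizer_le_pCoreOf [Finite G] [Fact p.Prime] {M A : Subgroup G}
    (hcl : Cfsg.IsPClosed p ↥(M ⊓ centralizer (Cfsg.largestPReducedOf p M : Set G)))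
    (hA : IsPGroup p A) (hAM : A ≤ M ⊓ centralizer (Cfsg.largestPReducedOf p M : Set G)) :
    A ≤ Cfsg.pCoreOf p M := by
  set C := M ⊓ centralizer (Cfsg.largestPReducedOf p M : Set G) with hC
  have h1 : A ≤ Cfsg.pCoreOf p C := by
    obtain ⟨P, hP⟩ := (hA.comap_subtype : IsPGroup p (A.subgroupOf C)).exists_le_sylow
    have := hcl P
    intro a ha
    exact ⟨⟨a, hAM ha⟩, Cores.le_pCore P.2 (hP ha), rfl⟩
  refine le_trans h1 (le_pCoreOf (le_trans (pCoreOf_le C) inf_le_left) ?_ (pCoreOf_isPGroup C))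
  refine le_trans ?_ (normalizer_le_normalizer_pCoreOf C)
  exact le_normalizer_inf Subgroup.le_normalizer
    (le_trans (le_normalizer_yOf M) (normalizer_le_normalizer_centralizer _))

theorem sylow_inf_centralizer_eq [Finite G] [Fact p.Prime] {M : Subgroup G} (S : Sylow p G)
    (hSM : (S : Subgroup G) ≤ M) (hM : Cfsg.IsInFrakM p M) :
    (S : Subgroup G) ⊓ centralizer (Cfsg.largestPReducedOf p M : Set G) = Cfsg.pCoreOf p M := by
  refine le_antisymm ?_ (le_inf ?_ (pCoreOf_le_centralizer_yOf M))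
  · exact pClosed_centralizer_le_pCoreOf hM.2.2.2.2.1 S.2.to_inf_left (inf_le_inf_right _ hSM)
  · exact le_trans le_sup_right
      (S.3 (S.2.to_sup_of_normal_right' (pCoreOf_isPGroup M) (le_trans hSM (le_normalizer_pCoreOf M)))
        le_sup_left).le

theorem commutator_eq_bot_of_not_symmetric {A : Subgroup G} (h : ¬ Cfsg.IsSymmetricIn A) {g : G}
    (h₁ : A ≤ normalizer (cj A g : Set G)) (h₂ : cj A g ≤ normalizer (A : Set G)) :
    ⁅A, cj A g⁆ = ⊥ := by
  by_contra hne
  exact h ⟨g, hne, commutator_le_inf_of_le_normalizer h₁ h₂⟩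

end Cfsg.Agent.H60
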