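import Cfsg.Agent.H60.QuadQuot
import Cfsg.Agent.Linear.TwoTorus
import Cfsg.Agent.Linear.Unitriangular
import Mathlib.GroupTheory.SpecificGroups.Dihedral

/-!
Every element of prime order different from p in SL2(q), and every nontrivial rotation of a dihedral group of order 2r,
is good.
-/

set_option autoImplicit false

namespace Cfsg.Agent.H60

open Matrix MatrixGroups

theorem sylow_hyps {Q : Type*} [Group Q] [Finite Q] {p : ℕ} [Fact p.Prime] {P : Subgroup Q}
    (hP : IsPGroup p P) (hcard : ∀ S : Sylow p Q, Nat.card S = Nat.card P) :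
    (∀ u : Q, u ^ p = 1 → u ≠ 1 → ∃ g : Q, u ∈ cj P g) ∧
      ∀ u g : Q, u ^ p = 1 → u ∈ Subgroup.normalizer (cj P g : Set Q) → u ∈ cj P g := by
  have hz : ∀ u : Q, u ^ p = 1 → IsPGroup p (Subgroup.zpowers u) := fun u hu =>
    IsPGroup.of_card_dvd_pow (n := 1) (by rw [Nat.card_zpowers, pow_one]; exact orderOf_dvd_of_pow_eq_one hu)
  obtain ⟨S, hS⟩ := hP.exists_le_sylow
  have hSP : P = (S : Subgroup Q) := Subgroup.eq_of_le_of_card_ge hS (hcard S).le
  constructor
  · intro u hu _
    obtain ⟨R, hR⟩ := (hz u hu).exists_le_sylow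
    obtain ⟨g, hg⟩ := MulAction.exists_smul_eq Q S R
    have h1 : u ∈ (R : Subgroup Q) := hR (Subgroup.mem_zpowers u)
    rw [← hg] at h1
    exact ⟨g, hSP ▸ h1⟩
  · intro u g hu hn
    have h1 : IsPGroup p (Subgroup.zpowers u ⊔ cj P g : Subgroup Q) :=
      (hz u hu).to_sup_of_normal_right' (isPGroup_cj hP g) (by rwa [Subgroup.zpowers_le])
    obtain ⟨R, hR⟩ := h1.exists_le_sylow
    have h2 : cj P g = (R : Subgroup Q) :=
      Subgroup.eq_of_le_of_card_ge (le_trans le_sup_right hR) (by rw [card_cj]; exact (hcard R).le)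
    rw [h2]; exact hR (le_sup_left (a := Subgroup.zpowers u) (Subgroup.mem_zpowers u))

variable {F : Type*} [Field F]

local notation "S2" => Matrix.SpecialLinearGroup (Fin 2) F
local notation "M2" => Matrix (Fin 2) (Fin 2) F

theorem goodProd_of_trace {p : ℕ} [Fact p.Prime] [CharP F p] {x : S2}
    (hns : ¬ Linear.IsScalarTwo (x : M2)) (ht : (x : M2).trace ≠ 2) : IsGoodProd p x := by
  set s := (x : M2).trace - 2 with hs
  have hs0 : s ≠ 0 := sub_ne_zero.2 ht
  have hdetB : (!![1 + s, s; 1, 1] : M2).det = 1 := by rw [Matrix.det_fin_two_of]; ring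
  obtain ⟨P, hP, hPx⟩ := Linear.exists_conj_of_trace_det (A := (x : M2)) (B := !![1 + s, s; 1, 1]) hns
    (fun h => one_ne_zero (h.2.1 : (1 : F) = 0)) (by rw [Matrix.trace_fin_two_of, hs]; ring)
    (by rw [x.2, hdetB])
  have hu : IsUnit P.det := Ne.isUnit hP
  have hc1 : P⁻¹ * P = 1 := Matrix.nonsing_inv_mul P hu
  have hc2 : P * P⁻¹ = 1 := Matrix.mul_nonsing_inv P hu
  have hdet : ∀ U : M2, U.det = 1 → (P⁻¹ * U * P).det = 1 := by
    intro U hU
    rw [Matrix.det_mul, Matrix.det_mul, hU, mul_one, ← Matrix.det_mul, hc1, Matrix.det_one]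
  let u : S2 := ⟨P⁻¹ * !![1, s; 0, 1] * P, hdet _ (by rw [Matrix.det_fin_two_of]; ring)⟩
  let u' : S2 := ⟨P⁻¹ * !![1, 0; 1, 1] * P, hdet _ (by rw [Matrix.det_fin_two_of]; ring)⟩
  have hmul : ∀ U V : M2, P⁻¹ * U * P * (P⁻¹ * V * P) = P⁻¹ * (U * V) * P := by
    intro U V
    rw [Matrix.mul_assoc (P⁻¹ * U) P, ← Matrix.mul_assoc P, ← Matrix.mul_assoc P, hc2, Matrix.one_mul]
    simp only [Matrix.mul_assoc]
  have htr : ∀ U : M2, (P⁻¹ * U * P).trace = U.trace := by
    intro U
    rw [Matrix.trace_mul_comm, ← Matrix.mul_assoc, hc2, Matrix.one_mul]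
  refine ⟨u, u', (Linear.pow_char_eq_one_iff p u).2 ?_, (Linear.pow_char_eq_one_iff p u').2 ?_, ?_, ?_⟩
  · show (P⁻¹ * !![1, s; 0, 1] * P).trace = 2
    rw [htr, Matrix.trace_fin_two_of]; norm_num
  · show (P⁻¹ * !![1, 0; 1, 1] * P).trace = 2
    rw [htr, Matrix.trace_fin_two_of]; norm_num
  · intro h
    have h1 : P⁻¹ * (!![1, s; 0, 1] * !![1, 0; 1, 1]) * P = P⁻¹ * (!![1, 0; 1, 1] * !![1, s; 0, 1]) * P := by
      rw [← hmul, ← hmul]
      exact congrArg (fun z : S2 => (z : M2)) h
    have h2 := congrArg (fun M : M2 => (P * M * P⁻¹) 0 0) h1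
    simp only [Matrix.mul_assoc] at h2
    simp only [hc2, Matrix.mul_one] at h2
    simp only [← Matrix.mul_assoc, hc2, Matrix.one_mul] at h2
    simp at h2
    exact hs0 h2
  · apply Subtype.ext
    show (x : M2) = P⁻¹ * !![1, s; 0, 1] * P * (P⁻¹ * !![1, 0; 1, 1] * P)
    rw [hmul, show (!![1, s; 0, 1] * !![1, 0; 1, 1] : M2) = !![1 + s, s; 1, 1] by
      simp [Matrix.mul_fin_two], Matrix.mul_assoc, ← hPx, ← Matrix.mul_assoc, hc1, Matrix.one_mul]

theorem goodElem_SL [Fintype F] {p : ℕ} [Fact p.Prime] [CharP F p] {r : ℕ} (hr : r.Prime) (hrp : r ≠ p)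
    {x : S2} (hx : orderOf x = r) : IsGoodElem p x := by
  have hx1 : x ≠ 1 := fun h => hr.one_lt.ne (by rw [← hx, h, orderOf_one])
  by_cases hns : Linear.IsScalarTwo (x : M2)
  · rcases Linear.isScalarTwo_SL_iff.1 hns with h | h
    · exact absurd h hx1
    · have h2 : (2 : F) ≠ 0 := by
        intro h2
        refine hx1 (h.trans (Linear.SL_ext_two ?_ ?_ ?_ ?_)) <;>
          simp [show (-1 : F) = 1 by linear_combination -h2]
      obtain ⟨a, b, hab⟩ := Linear.exists_sq_add_mul_sq_eq h2 (D := (-1 : F)) (neg_ne_zero.2 one_ne_zero) (-1)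
      have hab' : a ^ 2 + b ^ 2 = -1 := by linear_combination hab
      let i : S2 := ⟨!![0, 1; -1, 0], by rw [Matrix.det_fin_two_of]; ring⟩
      let j : S2 := ⟨!![a, b; b, -a], by rw [Matrix.det_fin_two_of]; linear_combination -hab'⟩
      have hii : i * i = x := by
        rw [h]; apply Subtype.ext
        show (!![0, 1; -1, 0] * !![0, 1; -1, 0] : M2) = _
        simp [Matrix.mul_fin_two, Matrix.one_fin_two]
      have hjj : j * j = x := by
        rw [h]; apply Subtype.ext
        show (!![a, b; b, -a] * !![a, b; b, -a] : M2) = _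
        rw [Matrix.mul_fin_two]
        simp [Matrix.one_fin_two]
        constructor
        · constructor
          · linear_combination hab'
          · ring
        · constructor
          · ring
          · linear_combination hab'
      have htr0 : ∀ z : S2, z * z = x → (z : M2).trace = 0 → IsGoodProd p z := by
        intro z hz hz0
        refine goodProd_of_trace (fun hsc => ?_) (by rw [hz0]; exact h2.symm)
        rcases Linear.isScalarTwo_SL_iff.1 hsc with rfl | rfl
        · exact hx1 (by rw [← hz, one_mul])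
        · exact hx1 (by rw [← hz, neg_mul_neg, one_mul])
      refine Or.inr ⟨i, j, hii, hjj, htr0 i hii ?_, htr0 j hjj ?_, htr0 (i * j) ?_ ?_⟩
      · show (!![0, 1; -1, 0] : M2).trace = 0
        rw [Matrix.trace_fin_two_of]; ring
      · show (!![a, b; b, -a] : M2).trace = 0
        rw [Matrix.trace_fin_two_of]; ring
      · rw [h]; apply Subtype.ext
        show (!![0, 1; -1, 0] * !![a, b; b, -a]) * (!![0, 1; -1, 0] * !![a, b; b, -a] : M2) = _
        simp only [Matrix.mul_fin_two]
        simp [Matrix.one_fin_two]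
        constructor
        · constructor
          · linear_combination hab'
          · ring
        · constructor
          · ring
          · linear_combination hab'
      · show (!![0, 1; -1, 0] * !![a, b; b, -a] : M2).trace = 0
        rw [Matrix.mul_fin_two, Matrix.trace_fin_two_of]; ring
  · refine Or.inl (goodProd_of_trace hns ?_)
    intro ht
    have h1 := orderOf_dvd_of_pow_eq_one ((Linear.pow_char_eq_one_iff p x).2 ht)
    rw [hx] at h1
    exact hrp ((Nat.prime_dvd_prime_iff_eq hr Fact.out).1 h1)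

theorem goodElem_dihedral {r : ℕ} (hr : r.Prime) (hr2 : r ≠ 2) {x : DihedralGroup r} {k : ℕ}
    (hk : k.Prime) (hk2 : k ≠ 2) (hx : orderOf x = k) : IsGoodElem 2 x := by
  haveI := Fact.mk hr
  rcases x with i | i
  · refine Or.inl ⟨DihedralGroup.sr 0, DihedralGroup.sr i, ?_, ?_, ?_, by simp⟩
    · simp [sq]
    · simp [sq]
    · intro h
      simp at h
      have h2 : (2 : ZMod r) ≠ 0 := by
        intro h2
        have : ((2 : ℕ) : ZMod r) = 0 := by exact_mod_cast h2
        rw [ZMod.natCast_eq_zero_iff] at this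
        exact hr2 ((Nat.prime_dvd_prime_iff_eq hr Nat.prime_two).1 this)
      have : i = 0 := by
        have : (2 : ZMod r) * i = 0 := by linear_combination h
        exact (mul_eq_zero.1 this).resolve_left h2
      subst this
      simp at hx
      exact hk.one_lt.ne hx
  · rw [DihedralGroup.orderOf_sr] at hx
    exact absurd hx.symm hk2

end Cfsg.Agent.H60
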