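import Cfsg.Prelude.Def_LocalStructure
import Cfsg.Agent.H60.GoodSL
import Cfsg.Agent.H60.FrakM
import Cfsg.Agent.Fusion.PResidual

/-!
Reading `L ∈ 𝔏_G(Y_M)` inside the group `L`.
-/

set_option autoImplicit false
set_option linter.style.haveILetI false

namespace Cfsg.Agent.H60

open Subgroup
open scoped commutatorElement

variable {G : Type*} [Group G] {p : ℕ}

theorem frakL_setup {M L : Subgroup G} (hL : Cfsg.IsInFrakL p M L) :
    QuadSetup ((Cfsg.largestPReducedOf p M).subgroupOf L) (Cfsg.pCore p ↥L) := by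
  obtain ⟨hYL, hA, hAN, hmin, -, ⟨hne, hmax⟩, -⟩ := hL
  set Y := Cfsg.largestPReducedOf p M with hY
  have hN : normalizer ((Y.subgroupOf L : Subgroup L) : Set L) = (normalizer (Y : Set G)).subgroupOf L :=
    (subgroupOf_normalizer_eq hYL).symm
  have hcore : (Cfsg.pCoreOf p L).subgroupOf L = Cfsg.pCore p ↥L :=
    comap_map_eq_self_of_injective L.subtype_injective _
  refine ⟨?_, inferInstance, hmin.1, ?_, ?_, ?_, ?_⟩
  · intro a ha b hb
    refine Subtype.ext ?_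
    show (a : G) * (b : G) = (b : G) * (a : G)
    exact congrArg Subtype.val
      ((isElementaryAbelian_yOf (p := p) M).1.is_comm.comm (⟨(a : G), ha⟩ : Y) ⟨(b : G), hb⟩)
  · intro h
    rw [hN, subgroupOf_eq_top] at h
    exact hne.ne (inf_of_le_left h)
  · intro X hX hXne x hx
    rw [hN, mem_subgroupOf]
    have h1 : Y ≤ X.map L.subtype := fun y hy => ⟨⟨y, hYL hy⟩, hX hy, rfl⟩
    have h2 : X.map L.subtype < L := by
      refine lt_of_le_of_ne (map_subtype_le X) fun h => hXne ?_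
      rw [← subgroupOf_eq_top.2 h.ge]
      exact (comap_map_eq_self_of_injective L.subtype_injective _).symm
    exact (hmax _ h1 h2 ⟨x, hx, rfl⟩).2
  · intro x hx
    rw [hN, mem_subgroupOf]
    exact hAN ⟨x, hx, rfl⟩
  · apply Subgroup.map_injective L.subtype_injective
    rw [show Y.subgroupOf L ⊓ Cfsg.pCore p ↥L = (Y ⊓ Cfsg.pCoreOf p L).subgroupOf L by
      rw [← hcore]; exact (Subgroup.comap_inf _ _ _).symm]
    exact hA

theorem frakL_map_props [Finite G] [Fact p.Prime] {M L : Subgroup G} (hL : Cfsg.IsInFrakL p M L)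
    {Q : Type*} [Group Q] (φ : ↥L →* Q) (hker : φ.ker = Cfsg.pCore p ↥L) :
    IsPGroup p (((Cfsg.largestPReducedOf p M).subgroupOf L).map φ) ∧
      Nat.card (((Cfsg.largestPReducedOf p M).subgroupOf L).map φ) =
        (Cfsg.largestPReducedOf p M ⊓ Cfsg.pCoreOf p L).relIndex (Cfsg.largestPReducedOf p M) ∧
      ((Cfsg.largestPReducedOf p M).subgroupOf L).map φ ≠ ⊥ := by
  set Y := Cfsg.largestPReducedOf p M with hY
  have hYp : IsPGroup p (Y.subgroupOf L) :=
    (isPGroup_of_isElementaryAbelian (isElementaryAbelian_yOf (p := p) M)).comap_subtype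
  refine ⟨hYp.map φ, ?_, fun h => ?_⟩
  · rw [← Subgroup.relIndex_ker, hker]
    have hcore : (Cfsg.pCoreOf p L).subgroupOf L = Cfsg.pCore p ↥L :=
      comap_map_eq_self_of_injective L.subtype_injective _
    rw [← hcore, Subgroup.relIndex_subgroupOf hL.1, Subgroup.inf_relIndex_left]
  · rw [Subgroup.map_eq_bot_iff, hker] at h
    have hS := frakL_setup hL
    have hA : Cfsg.pCore p ↥L = ⊤ :=
      top_le_iff.1 (hS.gen ▸ Subgroup.normalClosure_le_normal h)
    exact hS.ne_top (top_le_iff.1 (hA ▸ hS.le_norm))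

theorem frakL_conclude [Finite G] [hp : Fact p.Prime] {M L : Subgroup G} (hL : Cfsg.IsInFrakL p M L)
    {Q : Type*} [Group Q] (e : ↥L ⧸ Cfsg.pCore p ↥L ≃* Q)
    (hgood : ∀ P : Subgroup Q, IsPGroup p P → P ≠ ⊥ →
      Nat.card P = (Cfsg.largestPReducedOf p M ⊓ Cfsg.pCoreOf p L).relIndex (Cfsg.largestPReducedOf p M) →
      (∀ x ∈ P, x ^ p = 1) → (∀ x ∈ P, ∀ y ∈ P, x * y = y * x) →
      (∀ u : Q, u ^ p = 1 → u ≠ 1 → ∃ g : Q, u ∈ cj P g) ∧
      (∀ u g : Q, u ^ p = 1 → u ∈ normalizer (cj P g : Set Q) → u ∈ cj P g) ∧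
      ∀ r : ℕ, r.Prime → r ≠ p → ∀ x : Q, orderOf x = r → IsGoodElem p x)
    (h : G) (hh : h ∈ L) (hnp : ¬ ∃ k : ℕ, orderOf h = p ^ k) :
    ∀ a ∈ Cfsg.pCoreOf p L, h * a * h⁻¹ * a⁻¹ ∈ Cfsg.largestPReducedOf p M ⊓ centralizer (L : Set G) →
      a ∈ Cfsg.largestPReducedOf p M ⊓ centralizer (L : Set G) := by
  rintro _ ⟨v, hv, rfl⟩ hc
  set Y := Cfsg.largestPReducedOf p M with hY
  have hS := frakL_setup hL
  set φ : ↥L →* Q := e.toMonoidHom.comp (QuotientGroup.mk' (Cfsg.pCore p ↥L)) with hφ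
  have hker : φ.ker = Cfsg.pCore p ↥L := by
    ext z
    simp [hφ, QuotientGroup.eq_one_iff]
  obtain ⟨hPp, hPc, hPne⟩ := frakL_map_props hL φ hker
  obtain ⟨hel1, hel2⟩ := isElementaryAbelian_yOf (p := p) M
  obtain ⟨h1, h2, h3⟩ := hgood _ hPp hPne hPc
    (by
      rintro _ ⟨y, hy, rfl⟩
      rw [← map_pow, show y ^ p = 1 from Subtype.ext (hel2 y hy), map_one])
    (by
      rintro _ ⟨y, hy, rfl⟩ _ ⟨z, hz, rfl⟩
      rw [← map_mul, ← map_mul, hS.comm y hy z hz])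
  have hcent : ∀ z : ↥L, (z : G) ∈ centralizer (L : Set G) ↔ z ∈ center ↥L := by
    intro z
    rw [Subgroup.mem_center_iff, mem_centralizer_iff]
    exact ⟨fun h l => Subtype.ext (h l l.2), fun h l hl => congrArg Subtype.val (h ⟨l, hl⟩)⟩
  -- an element of prime order prime to p inside the powers of h
  obtain ⟨r, hr, hrp, hrd⟩ : ∃ r, r.Prime ∧ r ≠ p ∧ r ∣ orderOf h := by
    by_contra hne
    push Not at hne
    exact hnp ⟨_, Nat.eq_prime_pow_of_unique_prime_dvd (orderOf_pos h).ne'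
      fun {d} hd hd' => by_contra fun h' => hne d hd h' hd'⟩
  set h0 : ↥L := ⟨h, hh⟩ with hh0
  set x := h0 ^ (orderOf h / r) with hx
  have hox : orderOf x = r := by
    rw [hx, orderOf_pow_of_dvd (Nat.div_ne_zero_iff.2 ⟨hr.ne_zero, Nat.le_of_dvd (orderOf_pos h) hrd⟩)]
    · rw [Subgroup.orderOf_mk, Nat.div_div_self hrd (orderOf_pos h).ne']
    · rw [Subgroup.orderOf_mk]; exact Nat.div_dvd_of_dvd hrd
  have hoφ : orderOf (φ x) = r := by
    refine ((Nat.dvd_prime hr).1 (hox ▸ orderOf_map_dvd φ x)).resolve_left ?_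
    rw [orderOf_eq_one_iff, ← MonoidHom.mem_ker, hker]
    intro hmem
    obtain ⟨k, hk⟩ := Cores.pCore_isPGroup ⟨x, hmem⟩
    have hd : r ∣ p ^ k := hox ▸ orderOf_dvd_of_pow_eq_one (congrArg Subtype.val hk)
    exact hrp ((Nat.prime_dvd_prime_iff_eq hr hp.out).1 (hr.dvd_of_dvd_pow hd))
  have hhv : ⁅h0, v⁆ ∈ Y.subgroupOf L ⊓ Cfsg.pCore p ↥L ⊓ center ↥L := by
    refine ⟨⟨hc.1, ?_⟩, (hcent _).1 hc.2⟩
    rw [commutatorElement_def]
    exact Subgroup.mul_mem _ (Subgroup.Normal.conj_mem inferInstance v hv h0) (Subgroup.inv_mem _ hv)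
  have hxv : ⁅x, v⁆ ∈ Y.subgroupOf L ⊓ Cfsg.pCore p ↥L ⊓ center ↥L := by
    rw [hx]
    generalize orderOf h / r = n
    induction n with
    | zero => simp
    | succ n ih =>
      have e : ⁅h0 ^ (n + 1), v⁆ = h0 * ⁅h0 ^ n, v⁆ * h0⁻¹ * ⁅h0, v⁆ := by
        simp only [commutatorElement_def, pow_succ']; group
      rw [e, QuadSetup.fix_central ih h0, mul_inv_cancel_right]
      exact mul_mem ih hhv
  have := fixed_free_of_quot hS p φ
    (e.surjective.comp (QuotientGroup.mk'_surjective _)) hker h1 h2 (h3 r hr hrp (φ x) hoφ) hv hxv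
  exact ⟨this.1.1, (hcent _).2 this.2⟩

end Cfsg.Agent.H60
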