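import Mathlib

/-!
Subgroups isomorphic to A4 in GL2 over ZMod 2^k are conjugate into one explicit set of twelve matrices.
-/

set_option autoImplicit false
set_option linter.style.haveILetI false

namespace Cfsg.Agent.H60

open Matrix

section ring

variable {k : ℕ}

/-- Reduction modulo two. -/
def red2 (hk : 1 ≤ k) : ZMod (2 ^ k) →+* ZMod 2 := ZMod.castHom (dvd_pow_self 2 (by omega)) _

theorem isUnit_of_red2 (hk : 1 ≤ k) {x : ZMod (2 ^ k)} (h : red2 hk x = 1) : IsUnit x := by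
  rw [← ZMod.natCast_zmod_val x] at h ⊢
  rw [map_natCast] at h
  rw [ZMod.isUnit_iff_coprime]
  refine Nat.Coprime.pow_right k (Nat.coprime_two_right.2 ?_)
  rw [Nat.odd_iff]
  have := congrArg ZMod.val h
  rwa [ZMod.val_natCast, ZMod.val_one] at this

theorem two_mul_eq_zero_cases (hk : 1 ≤ k) {x : ZMod (2 ^ k)} (h : 2 * x = 0) :
    x = 0 ∨ x = ((2 ^ (k - 1) : ℕ) : ZMod (2 ^ k)) := by
  have hx := ZMod.natCast_zmod_val x
  have hlt := ZMod.val_lt x
  have h1 : ((2 * x.val : ℕ) : ZMod (2 ^ k)) = 0 := by push_cast; rw [hx, h]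
  obtain ⟨c, hc⟩ := (ZMod.natCast_eq_zero_iff _ _).1 h1
  obtain ⟨j, rfl⟩ : ∃ j, k = j + 1 := ⟨k - 1, by omega⟩
  have hs2 : 2 ^ (j + 1) = 2 ^ j * 2 := pow_succ 2 j
  have hv : x.val = 2 ^ j * c := by nlinarith
  have hc2 : c < 2 := by
    by_contra hge
    push Not at hge
    nlinarith [Nat.two_pow_pos j]
  rw [Nat.add_sub_cancel]
  interval_cases c
  · left; rw [← hx, hv]; simp
  · right; rw [← hx, hv, mul_one]

theorem cube_root_mat_two : ∀ a b c d : ZMod 2, (!![a, b; c, d] : Matrix (Fin 2) (Fin 2) (ZMod 2)) ^ 3 = 1 →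
    (!![a, b; c, d] : Matrix (Fin 2) (Fin 2) (ZMod 2)) ≠ 1 → (a - 1) * (d - 1) - b * c = 1 ∧ c = 1 := by
  decide +kernel

theorem cube_root (hk : 1 ≤ k) {w : Matrix (Fin 2) (Fin 2) (ZMod (2 ^ k))} (h3 : w ^ 3 = 1) (h1 : w ≠ 1) :
    w * w + w + 1 = 0 ∧ IsUnit (w 1 0) := by
  set f := red2 hk
  set w' := f.mapMatrix w with hw'
  have hne : w' ≠ 1 := by
    intro h
    have hu : IsUnit (w * w + w + 1) := by
      rw [Matrix.isUnit_iff_isUnit_det]
      refine isUnit_of_red2 hk ?_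
      rw [RingHom.map_det, map_add, map_add, map_mul, map_one, ← hw', h]
      decide
    apply h1
    have : (w - 1) * (w * w + w + 1) = 0 := by
      have : (w - 1) * (w * w + w + 1) = w ^ 3 - 1 := by
        rw [pow_succ, pow_two]; noncomm_ring
      rw [this, h3, sub_self]
    have := (IsUnit.mul_left_eq_zero hu).1 this
    exact sub_eq_zero.1 this
  have h3' : w' ^ 3 = 1 := by rw [hw', ← map_pow, h3, map_one]
  rw [Matrix.eta_fin_two w'] at h3' hne
  obtain ⟨hdet, hc⟩ := cube_root_mat_two _ _ _ _ h3' hne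
  refine ⟨?_, isUnit_of_red2 hk hc⟩
  have hu : IsUnit (w - 1) := by
    rw [Matrix.isUnit_iff_isUnit_det]
    refine isUnit_of_red2 hk ?_
    rw [RingHom.map_det, map_sub, map_one, ← hw', Matrix.det_fin_two]
    simpa using hdet
  have : (w - 1) * (w * w + w + 1) = 0 := by
    have : (w - 1) * (w * w + w + 1) = w ^ 3 - 1 := by rw [pow_succ, pow_two]; noncomm_ring
    rw [this, h3, sub_self]
  exact (IsUnit.mul_right_eq_zero hu).1 this

/-- The companion matrix of `x^2+x+1`. -/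
def compC : Matrix (Fin 2) (Fin 2) (ZMod (2 ^ k)) := !![0, -1; 1, -1]

/-- The candidates for the elements of order at most two. -/
def fourV (b : Bool × Bool) : Matrix (Fin 2) (Fin 2) (ZMod (2 ^ k)) :=
  let h : ZMod (2 ^ k) := ((2 ^ (k - 1) : ℕ) : ZMod (2 ^ k))
  let r := if b.1 then h else 0
  let s := if b.2 then h else 0
  !![1 - s, r; r - s, 1 + s]

theorem invol_mem_fourV (hk : 1 ≤ k) {v : Matrix (Fin 2) (Fin 2) (ZMod (2 ^ k))} (h2 : v * v = 1)
    (hp : v * (compC * v * (compC * compC)) = (compC * compC) * v * compC) :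
    ∃ b, v = fourV b := by
  obtain ⟨t, ht⟩ := (isUnit_of_red2 hk (x := (3 : ZMod (2 ^ k))) (by rw [map_ofNat]; decide)).exists_right_inv
  -- coordinates of v in the basis 1, C, S, C*S
  obtain ⟨p, q, r, s, e00, e01, e10, e11⟩ : ∃ p q r s : ZMod (2 ^ k),
      v 0 0 = p - s ∧ v 0 1 = r - q ∧ v 1 0 = q + r - s ∧ v 1 1 = p - q + s := by
    set q := t * (2 * (v 1 0 - v 0 1) - (v 0 0 - v 1 1))
    set s := t * ((v 1 0 - v 0 1) - 2 * (v 0 0 - v 1 1))
    refine ⟨v 0 0 + s, q, v 0 1 + q, s, ?_, ?_, ?_, ?_⟩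
    · ring
    · ring
    · linear_combination (v 0 1 - v 1 0) * ht
    · linear_combination (v 0 0 - v 1 1) * ht
  have hv : v = !![p - s, r - q; q + r - s, p - q + s] := by
    rw [Matrix.eta_fin_two v, e00, e01, e10, e11]
  rw [hv] at h2 hp
  simp [compC, Matrix.one_fin_two] at h2 hp
  obtain ⟨⟨a00, a01⟩, a10, a11⟩ := h2
  obtain ⟨⟨b00, b01⟩, b10, b11⟩ := hp
  have hq : q = 0 ∧ p = 1 ∧ 2 * r = 0 ∧ 2 * s = 0 := by
    have E2 : 3 * (2 * p * q - q * q) = 0 := by linear_combination 2 * (a10 - a01) - (a00 - a11)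
    have E2' : 2 * p * q - q * q = 0 := by linear_combination t * E2 - (2 * p * q - q * q) * ht
    have E4 : s * (2 * p - q) = 0 := by linear_combination 2 * E2' - (a10 - a01)
    have E3 : r * (2 * p - q) = 0 := by linear_combination a01 + E2'
    have E1 : p * p - q * q + (r * r - r * s + s * s) = 1 := by linear_combination a00 + E4
    have F2 : 3 * (2 * p * q - q * q + (r * r - r * s + s * s) - q) = 0 := by
      linear_combination 2 * (b10 - b01) - (b00 - b11)
    have F1 : 3 * (p * p - q * q - p) = 0 := by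
      linear_combination 3 * b00 + (b10 - b01) - 2 * (b00 - b11)
    have F1' : p * p - q * q - p = 0 := by linear_combination t * F1 - (p * p - q * q - p) * ht
    have F2' : 2 * p * q - q * q + (r * r - r * s + s * s) - q = 0 := by
      linear_combination t * F2 - (2 * p * q - q * q + (r * r - r * s + s * s) - q) * ht
    have hD : p - 1 + q = 0 := by linear_combination E1 - F1' - F2' + E2'
    have hq : q = 0 := by linear_combination -F1' + (p - q) * hD
    have hp1 : p = 1 := by linear_combination hD - hq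
    exact ⟨hq, hp1, by linear_combination E3 - r * (2 * hp1 - hq), by linear_combination E4 - s * (2 * hp1 - hq)⟩
  obtain ⟨rfl, rfl, hr, hs⟩ := hq
  have key : ∀ x : ZMod (2 ^ k), 2 * x = 0 → ∃ b : Bool, (if b then ((2 ^ (k - 1) : ℕ) : ZMod (2 ^ k)) else 0) = x := by
    intro x hx
    rcases two_mul_eq_zero_cases hk hx with rfl | rfl
    · exact ⟨false, rfl⟩
    · exact ⟨true, rfl⟩
  obtain ⟨br, hbr⟩ := key r hr
  obtain ⟨bs, hbs⟩ := key s hs
  refine ⟨(br, bs), ?_⟩
  rw [hv]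
  simp only [fourV, hbr, hbs]
  simp

end ring

set_option maxRecDepth 4000 in
theorem a4_structure : ∃ c : alternatingGroup (Fin 4), c ≠ 1 ∧ c ^ 3 = 1 ∧
    ∀ x : alternatingGroup (Fin 4), ∃ v : alternatingGroup (Fin 4), ∃ i : Fin 3,
      v * v = 1 ∧ v * (c * v * (c * c)) = (c * c) * v * c ∧ x = v * c ^ i.val := by
  decide +kernel

/-- The twelve matrices. -/
def a4Set (k : ℕ) : Set (Matrix (Fin 2) (Fin 2) (ZMod (2 ^ k))) :=
  Set.range fun z : (Bool × Bool) × Fin 3 => fourV z.1 * compC ^ z.2.val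

theorem a4_conj_into {k : ℕ} (hk : 1 ≤ k) {H : Subgroup (GL (Fin 2) (ZMod (2 ^ k)))}
    (e : H ≃* alternatingGroup (Fin 4)) : ∃ g : GL (Fin 2) (ZMod (2 ^ k)),
      (fun x : H => ((g * x.1 * g⁻¹ : GL (Fin 2) (ZMod (2 ^ k))) : Matrix (Fin 2) (Fin 2) (ZMod (2 ^ k)))) ''
        Set.univ = a4Set k := by
  classical
  obtain ⟨c, hc1, hc3, hc⟩ := a4_structure
  let ψ : alternatingGroup (Fin 4) →* Matrix (Fin 2) (Fin 2) (ZMod (2 ^ k)) :=
    (Units.coeHom _).comp (H.subtype.comp e.symm.toMonoidHom)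
  have hψ : Function.Injective ψ := by
    intro a b h
    exact e.symm.injective (Subtype.ext (Units.ext h))
  set w := ψ c with hw
  obtain ⟨hw0, hu⟩ := cube_root hk (w := w) (by rw [hw, ← map_pow, hc3, map_one])
    (fun h => hc1 (hψ (h.trans (map_one ψ).symm)))
  set P : Matrix (Fin 2) (Fin 2) (ZMod (2 ^ k)) := !![1, w 0 0; 0, w 1 0] with hP
  have hPu : IsUnit P := by
    rw [Matrix.isUnit_iff_isUnit_det, hP, Matrix.det_fin_two_of]
    simpa using hu
  obtain ⟨u, huP⟩ := hPu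
  have hwP : w * P = P * compC := by
    have h00 := congrFun (congrFun hw0 0) 0
    have h10 := congrFun (congrFun hw0 1) 0
    simp [Matrix.mul_apply, Fin.sum_univ_two] at h00 h10
    ext i j
    fin_cases i <;> fin_cases j <;> simp [hP, compC, Matrix.mul_apply, Fin.sum_univ_two] <;>
      first
        | linear_combination h00
        | linear_combination h10
  refine ⟨u⁻¹, ?_⟩
  let τ : alternatingGroup (Fin 4) →* Matrix (Fin 2) (Fin 2) (ZMod (2 ^ k)) :=
    { toFun := fun a => (u⁻¹ : GL (Fin 2) (ZMod (2 ^ k))).1 * ψ a * u.1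
      map_one' := by rw [map_one, mul_one, ← Units.val_mul, inv_mul_cancel, Units.val_one]
      map_mul' := fun a b => by
        rw [map_mul, show (u⁻¹ : GL (Fin 2) (ZMod (2 ^ k))).1 * ψ a * u.1 *
          ((u⁻¹ : GL (Fin 2) (ZMod (2 ^ k))).1 * ψ b * u.1) =
          (u⁻¹ : GL (Fin 2) (ZMod (2 ^ k))).1 * ψ a * (u.1 * (u⁻¹ : GL (Fin 2) (ZMod (2 ^ k))).1) * ψ b * u.1 by
            simp only [mul_assoc], ← Units.val_mul, mul_inv_cancel, Units.val_one, mul_one]
        simp only [mul_assoc] }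
  have hτc : τ c = compC := by
    show (u⁻¹ : GL (Fin 2) (ZMod (2 ^ k))).1 * w * u.1 = _
    rw [mul_assoc, huP, hwP, ← mul_assoc, ← huP, ← Units.val_mul, inv_mul_cancel, Units.val_one, one_mul]
  have hmem : ∀ a, τ a ∈ a4Set k := by
    intro a
    obtain ⟨v, i, hv2, hvp, rfl⟩ := hc a
    have h2 : τ v * τ v = 1 := by rw [← map_mul, hv2, map_one]
    have hp : τ v * (compC * τ v * (compC * compC)) = (compC * compC) * τ v * compC := by
      simp only [← hτc, ← map_mul, hvp]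
    obtain ⟨b, hb⟩ := invol_mem_fourV hk h2 hp
    exact ⟨(b, i), by simp only; rw [map_mul, map_pow, hb, hτc]⟩
  have hτi : Function.Injective τ := by
    intro a b h
    apply hψ
    have h' := congrArg (fun M => u.1 * M * (u⁻¹ : GL (Fin 2) (ZMod (2 ^ k))).1) h
    simp only [τ, MonoidHom.coe_mk, OneHom.coe_mk] at h'
    simpa [mul_assoc] using h'
  have himg : (fun x : H => ((u⁻¹ * x.1 * (u⁻¹)⁻¹ : GL (Fin 2) (ZMod (2 ^ k))) :
      Matrix (Fin 2) (Fin 2) (ZMod (2 ^ k)))) '' Set.univ = Set.range τ := by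
    rw [Set.image_univ]
    ext M
    constructor
    · rintro ⟨x, rfl⟩; exact ⟨e x, by simp [τ, ψ]⟩
    · rintro ⟨a, rfl⟩; exact ⟨e.symm a, by simp [τ, ψ]⟩
  rw [himg]
  refine Set.eq_of_subset_of_ncard_le (by rintro _ ⟨a, rfl⟩; exact hmem a) ?_ (Set.finite_range _)
  rw [Set.ncard_range_of_injective hτi]
  calc (a4Set k).ncard ≤ Nat.card ((Bool × Bool) × Fin 3) := by
        rw [a4Set, ← Set.image_univ]
        exact (Set.ncard_image_le Set.finite_univ).trans_eq (Set.ncard_univ _)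
    _ = 12 := by simp
    _ = Nat.card (alternatingGroup (Fin 4)) := by rw [Nat.card_eq_fintype_card]; decide +kernel

end Cfsg.Agent.H60
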