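import Cfsg.Agent.H60.GoodSL
import Cfsg.Prelude.Def_Sz
import Mathlib.GroupTheory.Perm.Fin

/-!
The degenerate group Sz(2): it acts faithfully on five points preserving a matching for each of them, so it lies
in a Frobenius group of order 20.
-/

set_option autoImplicit false
set_option linter.style.haveILetI false

namespace Cfsg.Agent.H60

open Matrix

/-- The five points. -/
def sz2pt : Fin 5 → Fin 4 → ZMod 2 :=
  ![![0, 0, 0, 1], ![1, 1, 0, 1], ![1, 0, 1, 1], ![1, 1, 1, 1], ![1, 0, 0, 0]]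

/-- `d` is on the line attached to `c`. -/
def Sz2Rel (c d : Fin 4 → ZMod 2) : Prop :=
  c 0 * d 1 - c 1 * d 0 = c 0 ∧ c 0 * d 2 - c 2 * d 0 = c 1 ∧ c 1 * d 3 - c 3 * d 1 = c 2 ∧
    c 2 * d 3 - c 3 * d 2 = c 3 ∧ c 0 * d 3 + c 1 * d 2 + c 2 * d 1 + c 3 * d 0 = 0

instance (c d : Fin 4 → ZMod 2) : Decidable (Sz2Rel c d) := by unfold Sz2Rel; infer_instance

/-- The pairing seen at each point. -/
def sz2Tri : List (Fin 5 × Fin 5 × Fin 5) :=
  [(0, 1, 3), (0, 2, 4), (1, 0, 2), (1, 3, 4), (2, 0, 3), (2, 1, 4), (3, 0, 4), (3, 1, 2), (4, 0, 1), (4, 2, 3)]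

theorem sz2Tri_rel : ∀ t ∈ sz2Tri, Sz2Rel (sz2pt t.1) (sz2pt t.2.1 + sz2pt t.2.2) := by decide +kernel

theorem sz2_point_aux : ∀ a b c e a' b' c' e' : ZMod 2, Sz2Rel ![a, b, c, e] ![a', b', c', e'] →
    ![a, b, c, e] ≠ 0 → ∃ i, sz2pt i = ![a, b, c, e] := by decide +kernel

theorem sz2_point (c d : Fin 4 → ZMod 2) (h : Sz2Rel c d) (hc : c ≠ 0) : ∃ i, sz2pt i = c := by
  have e : ∀ v : Fin 4 → ZMod 2, ![v 0, v 1, v 2, v 3] = v := fun v => by
    funext i; fin_cases i <;> rfl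
  have := sz2_point_aux (c 0) (c 1) (c 2) (c 3) (d 0) (d 1) (d 2) (d 3)
  rw [e, e] at this
  exact this h hc

theorem sz2pt_injective : Function.Injective sz2pt := by decide

/-- A permutation preserving the pairings. -/
def Sz2Pres (s : Equiv.Perm (Fin 5)) : Prop :=
  ∀ t ∈ sz2Tri, Sz2Rel (sz2pt (s t.1)) (sz2pt (s t.2.1) + sz2pt (s t.2.2))

instance (s : Equiv.Perm (Fin 5)) : Decidable (Sz2Pres s) := by unfold Sz2Pres; infer_instance

/-- The images of the involutions. -/
def sz2Invs : List (List (Fin 5)) :=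
  [[0, 3, 4, 1, 2], [1, 0, 3, 2, 4], [2, 1, 0, 4, 3], [3, 4, 2, 0, 1], [4, 2, 1, 3, 0]]

/-- The images of the elements of order five. -/
def sz2Fives : List (List (Fin 5)) :=
  [[1, 2, 4, 0, 3], [2, 4, 3, 1, 0], [3, 0, 1, 4, 2], [4, 3, 0, 2, 1]]

/-- The list of images of a permutation. -/
def sz2Images (s : Equiv.Perm (Fin 5)) : List (Fin 5) := [s 0, s 1, s 2, s 3, s 4]

theorem sz2_class : ∀ s : Equiv.Perm (Fin 5), Sz2Pres s →
    (s = 1 ∨ (s * s = 1 ∧ sz2Images s ∈ sz2Invs) ∨ (s ^ 5 = 1 ∧ sz2Images s ∈ sz2Fives) ∨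
      (s * s ≠ 1 ∧ (s * s) * (s * s) = 1)) := by decide +kernel

theorem sz2_five : ∀ s : Equiv.Perm (Fin 5), Sz2Pres s → sz2Images s ∈ sz2Fives → s ^ 5 = 1 := by
  decide +kernel

theorem sz2Images_injective : Function.Injective sz2Images := by
  intro s t h
  simp [sz2Images] at h
  ext i
  fin_cases i <;> simp [h]

/-- Composition of permutations given by their lists of images. -/
def sz2Comp (a b : List (Fin 5)) : List (Fin 5) := b.map fun i => a.getD i.val 0

theorem sz2Images_mul (s t : Equiv.Perm (Fin 5)) :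
    sz2Images (s * t) = sz2Comp (sz2Images s) (sz2Images t) := by
  have h : ∀ i : Fin 5, (sz2Images s).getD i.val 0 = s i := by
    intro i; fin_cases i <;> rfl
  simp only [sz2Comp, sz2Images, List.map_cons, List.map_nil, Equiv.Perm.mul_apply]
  simp only [← h]
  rfl

theorem sz2_invs_table : ∀ a ∈ sz2Invs, ∀ b ∈ sz2Invs, a ≠ b →
    sz2Comp a b ≠ sz2Comp b a ∧ sz2Comp a b ∈ sz2Fives := by decide

theorem sz2_fives_table : ∀ a ∈ sz2Invs, ∀ b ∈ sz2Fives,
    sz2Comp (sz2Comp a b) (sz2Comp a b) = sz2Images 1 := by decide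

theorem sz2_noncomm {s t : Equiv.Perm (Fin 5)} (hs : Sz2Pres s) (ht : Sz2Pres t) (hs2 : s * s = 1)
    (ht2 : t * t = 1) (hs1 : s ≠ 1) (ht1 : t ≠ 1) (hne : s ≠ t) :
    s * t ≠ t * s ∧ sz2Images (s * t) ∈ sz2Fives := by
  have key : ∀ u : Equiv.Perm (Fin 5), Sz2Pres u → u * u = 1 → u ≠ 1 → sz2Images u ∈ sz2Invs := by
    intro u hu hu2 hu1
    rcases sz2_class u hu with h | h | h | h
    · exact absurd h hu1
    · exact h.2
    · exfalso
      apply hu1
      have h5 := h.1
      rw [show u ^ 5 = (u * u) * (u * u) * u by simp only [pow_succ, pow_zero, one_mul, mul_assoc], hu2,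
        one_mul, one_mul] at h5
      exact h5
    · exact absurd hu2 h.1
  obtain ⟨h1, h2⟩ := sz2_invs_table _ (key s hs hs2 hs1) _ (key t ht ht2 ht1)
    (fun h => hne (sz2Images_injective h))
  exact ⟨fun h => h1 (by rw [← sz2Images_mul, ← sz2Images_mul, h]), by rwa [sz2Images_mul]⟩

variable {H : Type*} [Group H]

theorem good_of_sz2_perm (f : H →* Equiv.Perm (Fin 5)) (hf : Function.Injective f)
    (hpres : ∀ x, Sz2Pres (f x)) {P : Subgroup H} (hP1 : P ≠ ⊥) (hexp : ∀ z ∈ P, z ^ 2 = 1) :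
    (∀ v : H, v ^ 2 = 1 → v ≠ 1 → ∃ g : H, v ∈ cj P g) ∧
      (∀ v g : H, v ^ 2 = 1 → v ∈ Subgroup.normalizer (cj P g : Set H) → v ∈ cj P g) ∧
      ∀ r : ℕ, r.Prime → r ≠ 2 → ∀ x : H, orderOf x = r → IsGoodElem 2 x := by
  obtain ⟨t, ht, ht1⟩ := (Subgroup.ne_bot_iff_exists_ne_one.1 hP1)
    |> fun ⟨a, ha⟩ => (⟨(a : H), a.2, fun h => ha (Subtype.ext h)⟩ : ∃ t : H, t ∈ P ∧ t ≠ 1)
  have ht2 : t * t = 1 := by rw [← sq]; exact hexp t ht
  have fne : ∀ a b : H, a ≠ b → f a ≠ f b := fun a b h e => h (hf e)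
  have fone : ∀ a : H, a ≠ 1 → f a ≠ 1 := fun a h e => h (hf (e.trans (map_one f).symm))
  have noncomm : ∀ a b : H, a * a = 1 → b * b = 1 → a ≠ 1 → b ≠ 1 → a ≠ b →
      a * b ≠ b * a ∧ sz2Images (f (a * b)) ∈ sz2Fives := by
    intro a b ha hb ha1 hb1 hne
    obtain ⟨h1, h2⟩ := sz2_noncomm (hpres a) (hpres b) (by rw [← map_mul, ha, map_one])
      (by rw [← map_mul, hb, map_one]) (fone a ha1) (fone b hb1) (fne a b hne)
    exact ⟨fun h => h1 (by rw [← map_mul, ← map_mul, h]), by rwa [map_mul]⟩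
  have hPt : ∀ z ∈ P, z = 1 ∨ z = t := by
    intro z hz
    by_contra hcon
    push Not at hcon
    have hz2 : z * z = 1 := by rw [← sq]; exact hexp z hz
    apply (noncomm z t hz2 ht2 hcon.1 ht1 hcon.2).1
    have h := hexp _ (P.mul_mem hz ht)
    rw [sq] at h
    calc z * t = z * t * (z * t * (z * t))⁻¹ := by rw [h, inv_one, mul_one]
      _ = t⁻¹ * z⁻¹ := by group
      _ = t * z := by rw [inv_eq_of_mul_eq_one_right hz2, inv_eq_of_mul_eq_one_right ht2]
  have hconj : ∀ v : H, v * v = 1 → v ≠ 1 → ∃ g : H, v = g * t * g⁻¹ := by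
    intro v hv hv1
    rcases eq_or_ne v t with rfl | hne
    · exact ⟨1, by group⟩
    · obtain ⟨-, h5⟩ := noncomm v t hv ht2 hv1 ht1 hne
      set y := v * t with hy
      have hy5 : y ^ 5 = 1 := by
        apply hf
        rw [map_pow, map_one]
        exact sz2_five _ (hpres y) h5
      have htyt : t * y * t = y⁻¹ := by
        rw [hy, _root_.mul_inv_rev, inv_eq_of_mul_eq_one_right ht2, inv_eq_of_mul_eq_one_right hv,
          mul_assoc t, mul_assoc v, ht2, mul_one]
      refine ⟨y ^ 3, ?_⟩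
      have h6 : ∀ n : ℕ, t * (y ^ n) * t = (y ^ n)⁻¹ := by
        intro n
        induction n with
        | zero => simp [ht2]
        | succ n ih =>
          calc t * y ^ (n + 1) * t = t * y ^ n * (t * t) * y * t := by rw [ht2, pow_succ]; group
            _ = (t * y ^ n * t) * (t * y * t) := by group
            _ = (y ^ n)⁻¹ * y⁻¹ := by rw [ih, htyt]
            _ = (y ^ (n + 1))⁻¹ := by rw [pow_succ']; group
      calc v = y * t := by rw [hy, mul_assoc, ht2, mul_one]
        _ = y ^ 6 * t := by rw [pow_succ y 5, hy5, one_mul]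
        _ = y ^ 3 * (t * (y ^ 3)⁻¹ * t) * t := by
          rw [← h6 3, show t * (t * y ^ 3 * t) * t = (t * t) * y ^ 3 * (t * t) by group, ht2]; group
        _ = y ^ 3 * t * (y ^ 3)⁻¹ := by rw [mul_assoc, mul_assoc (t * (y ^ 3)⁻¹), ht2, mul_one]; group
  refine ⟨fun v hv hv1 => ?_, fun v g hv hn => ?_, fun r hr hr2 x hx => ?_⟩
  · obtain ⟨g, rfl⟩ := hconj v (by rwa [sq] at hv) hv1
    exact ⟨g, ⟨t, ht, rfl⟩⟩
  · rw [← cj_normalizer, mem_cj] at hn
    refine mem_cj.2 ?_
    set v' := g⁻¹ * v * g with hv'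
    have hv'2 : v' * v' = 1 := by
      rw [hv', show g⁻¹ * v * g * (g⁻¹ * v * g) = g⁻¹ * v ^ 2 * g by rw [sq]; group, hv]; group
    by_contra hcon
    have h1 : v' ≠ 1 := fun h => hcon (h ▸ P.one_mem)
    have h2 : v' ≠ t := fun h => hcon (h ▸ ht)
    have h3 := (Subgroup.mem_normalizer_iff.1 hn t).1 ht
    rcases hPt _ h3 with h | h
    · exact ht1 (by rw [← conj_eq_one_iff (a := v')]; exact h)
    · refine (noncomm v' t hv'2 ht2 h1 ht1 h2).1 ?_
      calc v' * t = v' * t * v'⁻¹ * v' := by group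
        _ = t * v' := by rw [h]
  · haveI := Fact.mk hr
    have hxf : sz2Images (f x) ∈ sz2Fives := by
      rcases sz2_class _ (hpres x) with h | h | h | h
      · exfalso
        rw [hf (h.trans (map_one f).symm), orderOf_one] at hx
        exact hr.one_lt.ne hx
      · exfalso
        have h2 : x ^ 2 = 1 := hf (by rw [map_pow, sq, h.1, map_one])
        have := orderOf_dvd_of_pow_eq_one h2
        rw [hx] at this
        exact hr2 ((Nat.prime_dvd_prime_iff_eq hr Nat.prime_two).1 this)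
      · exact h.2
      · exfalso
        have h4 : x ^ 4 = 1 := hf (by
          rw [map_one, ← h.2, ← map_mul, ← map_mul]; congr 1; simp only [pow_succ, pow_zero, one_mul, mul_assoc])
        have := orderOf_dvd_of_pow_eq_one h4
        rw [hx, show 4 = 2 ^ 2 from rfl] at this
        exact hr2 ((Nat.prime_dvd_prime_iff_eq hr Nat.prime_two).1 (hr.dvd_of_dvd_pow this))
    have htf : sz2Images (f t) ∈ sz2Invs := by
      rcases sz2_class _ (hpres t) with h | h | h | h
      · exact absurd h (fone t ht1)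
      · exact h.2
      · exfalso
        have h5 : t ^ 5 = 1 := hf (by rw [map_pow, h.1, map_one])
        rw [show t ^ 5 = (t * t) * (t * t) * t by simp only [pow_succ, pow_zero, one_mul, mul_assoc], ht2,
          one_mul, one_mul] at h5
        exact ht1 h5
      · exact absurd (by rw [← map_mul, ht2, map_one]) h.1
    have hinv : (t * x) * (t * x) = 1 := by
      apply hf
      rw [map_one, map_mul, map_mul]
      apply sz2Images_injective
      rw [sz2Images_mul, sz2Images_mul]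
      exact sz2_fives_table _ htf _ hxf
    refine Or.inl ⟨t, t * x, by rw [sq, ht2], by rwa [sq], ?_, by rw [← mul_assoc, ht2, one_mul]⟩
    intro h
    rw [← mul_assoc, ht2, one_mul] at h
    have hxx : x * x = 1 := by
      nth_rw 1 [h]
      calc t * x * t * x = (t * x) * (t * x) := by group
        _ = 1 := hinv
    have h2 := orderOf_dvd_of_pow_eq_one (x := x) (n := 2) (by rwa [sq])
    rw [hx] at h2
    exact hr2 ((Nat.prime_dvd_prime_iff_eq hr Nat.prime_two).1 h2)

end Cfsg.Agent.H60
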