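import Cfsg.Prelude.Def_LocalStructure
import Cfsg.Agent.H60.Basic

/-!
Large subgroups: C(Y) ≤ N(Q) for p-groups Y normalized by Q, weak closure of Q.
-/

set_option autoImplicit false

namespace Cfsg.Agent.H60

open Subgroup

variable {G : Type*} [Group G] {p : ℕ}

theorem isLarge_cj {Q : Subgroup G} (h : Cfsg.IsLarge Q) (g : G) : Cfsg.IsLarge (cj Q g) := by
  constructor
  · rw [← cj_centralizer]; exact cj_mono h.1 g
  · intro U hU hU1
    rw [← cj_centralizer, le_cj_iff] at hU
    have h1 := h.2 (cj U g⁻¹) hU (fun hb => hU1 (cj_eq_bot_iff.1 hb))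
    have h2 := cj_mono h1 g
    rwa [cj_normalizer, cj_normalizer, cj_cj, mul_inv_cancel, cj_one] at h2

theorem large_centralizer_le_normalizer_of_ne_bot {Q U : Subgroup G} (hL : Cfsg.IsLarge Q)
    (hU : U ≤ centralizer (Q : Set G)) (hU1 : U ≠ ⊥) :
    centralizer (U : Set G) ≤ normalizer (Q : Set G) :=
  le_trans (centralizer_le_normalizer _) (hL.2 U hU hU1)

/-- A nontrivial p-subgroup normalized by the large subgroup has centralizer in its normalizer. -/
theorem large_centralizer_le_normalizer [Finite G] [Fact p.Prime] {Q Y : Subgroup G}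
    (hL : Cfsg.IsLarge Q) (hQp : IsPGroup p Q) (hYp : IsPGroup p Y) (hY1 : Y ≠ ⊥)
    (hQY : Q ≤ normalizer (Y : Set G)) : centralizer (Y : Set G) ≤ normalizer (Q : Set G) :=
  le_trans (centralizer_le inf_le_left)
    (large_centralizer_le_normalizer_of_ne_bot hL (inf_le_right (a := Y))
      (inf_centralizer_ne_bot hQp hYp hQY hY1))

theorem large_centralizer_isPGroup {Q : Subgroup G} (hL : Cfsg.IsLarge Q) (hQp : IsPGroup p Q) :
    IsPGroup p (centralizer (Q : Set G)) := hQp.to_le hL.1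

/-- A Sylow subgroup containing the large subgroup normalizes it. -/
theorem large_sylow_le_normalizer [Finite G] [Fact p.Prime] {Q : Subgroup G}
    (hL : Cfsg.IsLarge Q) (hQ1 : Q ≠ ⊥) (T : Sylow p G) (hQT : Q ≤ (T : Subgroup G)) :
    (T : Subgroup G) ≤ normalizer (Q : Set G) := by
  have hT1 : (T : Subgroup G) ≠ ⊥ := fun h => hQ1 (le_bot_iff.1 (h ▸ hQT))
  have hU : (T : Subgroup G) ⊓ centralizer ((T : Subgroup G) : Set G) ≠ ⊥ :=
    inf_centralizer_ne_bot T.2 T.2 Subgroup.le_normalizer hT1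
  refine le_trans ?_ (large_centralizer_le_normalizer_of_ne_bot hL
    (le_trans inf_le_right (centralizer_le hQT)) hU)
  intro t ht
  refine mem_centralizer_iff.2 fun u hu => ?_
  exact (mem_centralizer_iff.1 hu.2 t ht).symm

/-- The large subgroup is weakly closed in every Sylow subgroup containing it. -/
theorem large_cj_eq_of_le_sylow [Finite G] [Fact p.Prime] {Q : Subgroup G}
    (hL : Cfsg.IsLarge Q) (hQ1 : Q ≠ ⊥) (T : Sylow p G) (hQT : Q ≤ (T : Subgroup G))
    (g : G) (hg : cj Q g ≤ (T : Subgroup G)) : cj Q g = Q := by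
  have hU : (T : Subgroup G) ⊓ centralizer ((T : Subgroup G) : Set G) ≠ ⊥ :=
    inf_centralizer_ne_bot T.2 T.2 Subgroup.le_normalizer (fun h => hQ1 (le_bot_iff.1 (h ▸ hQT)))
  set U := (T : Subgroup G) ⊓ centralizer ((T : Subgroup G) : Set G) with hUdef
  have hQU : U ≤ centralizer (Q : Set G) := le_trans inf_le_right (centralizer_le hQT)
  have hN : normalizer ((T : Subgroup G) : Set G) ≤ normalizer (Q : Set G) :=
    le_trans (le_normalizer_inf le_rfl (normalizer_le_normalizer_centralizer _)) (hL.2 U hQU hU)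
  have h1 : (T : Subgroup G) ≤ normalizer (cj Q g : Set G) :=
    large_sylow_le_normalizer (isLarge_cj hL g) (fun h => hQ1 (cj_eq_bot_iff.1 h)) T hg
  have h2 : cj (T : Subgroup G) g ≤ normalizer (cj Q g : Set G) := by
    rw [← cj_normalizer]; exact cj_mono (large_sylow_le_normalizer hL hQ1 T hQT) g
  set N := normalizer (cj Q g : Set G) with hNdef
  let P1 : Sylow p ↥N := T.subtype h1
  have hs : IsPGroup p ((cj (T : Subgroup G) g).subgroupOf N) := (isPGroup_cj T.2 g).comap_subtype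
  obtain ⟨P2, hP2⟩ := hs.exists_le_sylow
  obtain ⟨x, hx⟩ := MulAction.exists_smul_eq ↥N P2 P1
  have hxmem : ∀ y ∈ cj (T : Subgroup G) g, (x : G) * y * (x : G)⁻¹ ∈ (T : Subgroup G) := by
    intro y hy
    have h3 : (⟨y, h2 hy⟩ : ↥N) ∈ (P2 : Subgroup ↥N) := hP2 hy
    have h4 : x * ⟨y, h2 hy⟩ * x⁻¹ ∈ (P1 : Subgroup ↥N) := by
      rw [← hx]
      exact ⟨⟨y, h2 hy⟩, h3, rfl⟩
    exact h4
  have h5 : cj (T : Subgroup G) ((x : G) * g) ≤ (T : Subgroup G) := by
    rw [← cj_cj]
    intro y hy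
    rw [mem_cj] at hy
    simpa [mul_assoc] using hxmem _ hy
  have h6 : cj (T : Subgroup G) ((x : G) * g) = (T : Subgroup G) :=
    eq_of_le_of_card_ge h5 (card_cj _ _).ge
  have h7 : cj Q ((x : G) * g) = Q := cj_eq_self_iff.2 (hN (cj_eq_self_iff.1 h6))
  have h8 : cj (cj Q g) (x : G) = cj Q g := cj_eq_self_iff.2 x.2
  rw [← h8, cj_cj, h7]

/-- Two conjugates of the large subgroup, one normalizing the other, coincide. -/
theorem large_cj_eq_of_le_normalizer [Finite G] [Fact p.Prime] {Q : Subgroup G}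
    (hL : Cfsg.IsLarge Q) (hQp : IsPGroup p Q) (hQ1 : Q ≠ ⊥) (g : G)
    (hg : cj Q g ≤ normalizer (Q : Set G)) : cj Q g = Q := by
  obtain ⟨T, hT⟩ := IsPGroup.exists_le_sylow
    ((isPGroup_cj hQp g).to_sup_of_normal_right' hQp hg)
  exact large_cj_eq_of_le_sylow hL hQ1 T (le_trans le_sup_right hT) g (le_trans le_sup_left hT)

/-- Centralizers of distinct conjugates of the large subgroup meet trivially. -/
theorem large_centralizer_inf_eq_bot [Finite G] [Fact p.Prime] {Q : Subgroup G}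
    (hL : Cfsg.IsLarge Q) (hQp : IsPGroup p Q) (hQ1 : Q ≠ ⊥) (g : G)
    (hg : g ∉ normalizer (Q : Set G)) :
    centralizer (Q : Set G) ⊓ centralizer (cj Q g : Set G) = ⊥ := by
  by_contra hne
  apply hg
  refine cj_eq_self_iff.1 (large_cj_eq_of_le_normalizer hL hQp hQ1 g ?_)
  refine le_trans ?_ (large_centralizer_le_normalizer_of_ne_bot hL inf_le_left hne)
  intro x hx
  refine mem_centralizer_iff.2 fun u hu => ?_
  exact (mem_centralizer_iff.1 hu.2 x hx).symm

theorem le_weakClosure_of_cj_le {Q L : Subgroup G} {g : G} (h : cj Q g ≤ L) :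
    cj Q g ≤ Cfsg.weakClosure Q L :=
  le_iSup (fun g : {g : G // Q.map (MulAut.conj g).toMonoidHom ≤ L} => cj Q (g : G)) ⟨g, h⟩

theorem weakClosure_le {Q L K : Subgroup G} (h : ∀ g : G, cj Q g ≤ L → cj Q g ≤ K) :
    Cfsg.weakClosure Q L ≤ K :=
  iSup_le fun g => h g.1 g.2

theorem weakClosure_le_self (Q L : Subgroup G) : Cfsg.weakClosure Q L ≤ L :=
  weakClosure_le fun _ h => h

theorem le_weakClosure {Q L : Subgroup G} (h : Q ≤ L) : Q ≤ Cfsg.weakClosure Q L := by
  have := le_weakClosure_of_cj_le (Q := Q) (L := L) (g := 1) (by rwa [cj_one])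
  rwa [cj_one] at this

theorem weakClosure_mono {Q L K : Subgroup G} (h : L ≤ K) :
    Cfsg.weakClosure Q L ≤ Cfsg.weakClosure Q K :=
  weakClosure_le fun _ hg => le_weakClosure_of_cj_le (le_trans hg h)

theorem normalizer_le_normalizer_weakClosure (Q L : Subgroup G) :
    normalizer (L : Set G) ≤ normalizer (Cfsg.weakClosure Q L : Set G) := by
  rw [le_normalizer_iff]
  intro n hn x hx
  have h : cj (Cfsg.weakClosure Q L) n ≤ Cfsg.weakClosure Q L := by
    rw [cj_le_iff]
    refine weakClosure_le fun g hg => ?_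
    rw [le_cj_iff, inv_inv, cj_cj]
    refine le_weakClosure_of_cj_le ?_
    rw [← cj_cj]
    exact (cj_mono hg n).trans (cj_eq_self_iff.2 hn).le
  exact h (mem_cj.2 (by simpa [mul_assoc] using hx))

end Cfsg.Agent.H60
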