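import Cfsg.Prelude.Def_LocalStructure
import Cfsg.Agent.H86.PrimeOrderBlock
import Cfsg.Agent.H36.DegreeEq
import Cfsg.Agent.BlockBasic.Basic
import Cfsg.Agent.BlockBasic.Local

/-!
# The least order of a group that is not `p`-closed
-/

set_option autoImplicit false
set_option linter.style.haveILetI false

open Subgroup Cfsg

namespace Cfsg.Agent.H60.PClosedMin

universe u

variable {p : ℕ} [hp : Fact p.Prime]

section Invariant

variable {G : Type u} [Group G] [Finite G]

/-- A subgroup `R` of order `r ^ a` normalised but not centralised by `Q` of order `p` gives a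
power of `r` that is `1` mod `p` and at most `|R|`. -/
theorem exists_pow_modEq {Q R : Subgroup G} (hQ : Nat.card Q = p) {r a : ℕ} (hr : r.Prime)
    (hrp : r ≠ p) (hR : Nat.card R = r ^ a) (hn : Q ≤ normalizer (R : Set G))
    (hc : ¬ R ≤ centralizer (Q : Set G)) :
    ∃ k, IsPrimePow k ∧ k % p = 1 ∧ k ≤ Nat.card R := by
  classical
  have hmem : ∀ (x : Q) (r' : R), (x : G) * r' * (x : G)⁻¹ ∈ R := fun x r' =>
    (Subgroup.mem_normalizer_iff.1 (hn x.2) (r' : G)).1 r'.2
  letI : MulAction Q R :=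
    { smul := fun x r' => ⟨(x : G) * r' * (x : G)⁻¹, hmem x r'⟩
      one_smul := fun r' => Subtype.ext (show ((1 : Q) : G) * r' * ((1 : Q) : G)⁻¹ = r' by simp)
      mul_smul := fun x y r' => Subtype.ext
        (show ((x * y : Q) : G) * r' * ((x * y : Q) : G)⁻¹ =
          (x : G) * ((y : G) * r' * (y : G)⁻¹) * (x : G)⁻¹ by push_cast; group) }
  have hQp : IsPGroup p Q := IsPGroup.of_card (n := 1) (by rw [hQ, pow_one])
  have h := hQp.card_modEq_card_fixedPoints R
  let C : Subgroup G := R ⊓ centralizer (Q : Set G)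
  have he : Nat.card (MulAction.fixedPoints Q R) = Nat.card C := by
    refine Nat.card_congr
      { toFun := fun z => ⟨(z.1 : G), z.1.2, Subgroup.mem_centralizer_iff.2 fun x hx => ?_⟩
        invFun := fun z => ⟨⟨(z : G), z.2.1⟩, fun x => Subtype.ext ?_⟩
        left_inv := fun z => rfl
        right_inv := fun z => rfl }
    · have := congrArg Subtype.val (z.2 ⟨x, hx⟩)
      change x * (z.1 : G) * x⁻¹ = z.1 at this
      calc x * (z.1 : G) = (x * z.1 * x⁻¹) * x := by group
        _ = z.1 * x := by rw [this]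
    · show (x : G) * z * (x : G)⁻¹ = z
      rw [(Subgroup.mem_centralizer_iff.1 z.2.2) x x.2, mul_inv_cancel_right]
  rw [he, hR] at h
  have hd : Nat.card C ∣ r ^ a := hR ▸ Subgroup.card_dvd_of_le inf_le_left
  obtain ⟨c, hca, hC⟩ := (Nat.dvd_prime_pow hr).1 hd
  rw [hC] at h
  have hlt : c < a := by
    refine lt_of_le_of_ne hca fun e => hc ?_
    have : C = R := Subgroup.eq_of_le_of_card_ge inf_le_left (by rw [hC, hR, e])
    exact this ▸ inf_le_right
  refine ⟨r ^ (a - c), ⟨r, a - c, hr.prime, by omega, rfl⟩, ?_,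
    hR ▸ Nat.pow_le_pow_right hr.pos (by omega)⟩
  have h1 : r ^ c * r ^ (a - c) ≡ r ^ c * 1 [MOD p] := by
    rw [← pow_add, mul_one, Nat.add_sub_cancel' hca]
    exact h
  have h2 := Nat.ModEq.cancel_left_of_coprime (c := r ^ c)
    (((Nat.coprime_primes hp.out hr).2 (Ne.symm hrp)).pow_right c) h1
  rw [Nat.ModEq, Nat.mod_eq_of_lt hp.out.one_lt] at h2
  exact h2

/-- A normal `p'`-subgroup not centralised by a Sylow subgroup of order `p`. -/
theorem exists_le_card (P : Sylow p G) (hP : Nat.card P = p) (K : Subgroup G) [hK : K.Normal]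
    (hpK : ¬ p ∣ Nat.card K) (hc : ¬ K ≤ centralizer ((P : Subgroup G) : Set G)) :
    ∃ k, IsPrimePow k ∧ k % p = 1 ∧ k ≤ Nat.card K := by
  classical
  by_contra hno
  apply hc
  set C := K ⊓ centralizer ((P : Subgroup G) : Set G) with hCdef
  suffices h : Nat.card K ∣ Nat.card C by
    have : C = K := Subgroup.eq_of_le_of_card_ge inf_le_left (Nat.le_of_dvd Nat.card_pos h)
    exact this ▸ inf_le_right
  rw [← Nat.factorization_le_iff_dvd Nat.card_pos.ne' Nat.card_pos.ne']
  intro r
  by_cases hr : r.Prime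
  swap
  · simp [Nat.factorization_eq_zero_of_not_prime _ hr]
  by_cases hrK : r ∣ Nat.card K
  swap
  · simp [Nat.factorization_eq_zero_of_not_dvd hrK]
  haveI : Fact r.Prime := ⟨hr⟩
  have hrp : r ≠ p := fun e => hpK (e ▸ hrK)
  obtain ⟨R⟩ : Nonempty (Sylow r K) := inferInstance
  set R' : Subgroup G := (R : Subgroup K).map K.subtype with hR'
  have hR'card : Nat.card R' = r ^ (Nat.card K).factorization r := by
    rw [hR', Subgroup.card_map_of_injective K.subtype_injective, R.card_eq_multiplicity]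
  have hfr : normalizer (R' : Set G) ⊔ K = ⊤ := Sylow.normalizer_sup_eq_top R
  set N := normalizer (R' : Set G) with hN
  have hpN : p ∣ Nat.card N := by
    have h1 : K.index ∣ Nat.card N := by
      have h3 : K.relIndex N = K.index := by
        rw [← Subgroup.relIndex_top_right, ← hfr, Subgroup.relIndex_sup_right]
      rw [← h3]; exact Subgroup.relIndex_dvd_card _ _
    refine dvd_trans ?_ h1
    have h2 : p ∣ Nat.card K * K.index := by
      rw [Subgroup.card_mul_index, ← hP]
      exact Subgroup.card_subgroup_dvd_card _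
    exact (hp.out.dvd_mul.1 h2).resolve_left hpK
  obtain ⟨x, hx⟩ := exists_prime_orderOf_dvd_card' (G := N) p hpN
  have hxo : orderOf (x : G) = p := (Subgroup.orderOf_coe x).trans hx
  have hQ : Nat.card (zpowers (x : G)) = p := by rw [Nat.card_zpowers, hxo]
  have hQn : zpowers (x : G) ≤ normalizer (R' : Set G) := zpowers_le.2 x.2
  have hcQ : R' ≤ centralizer (zpowers (x : G) : Set G) := by
    by_contra hc'
    obtain ⟨k, h1, h2, h3⟩ := exists_pow_modEq hQ hr hrp hR'card hQn hc'
    exact hno ⟨k, h1, h2, h3.trans (Subgroup.card_le_of_le (Subgroup.map_subtype_le _))⟩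
  obtain ⟨S, hS⟩ := (IsPGroup.of_card (n := 1) (p := p) (by rw [hQ, pow_one])).exists_le_sylow
    (P := zpowers (x : G))
  have hSe : zpowers (x : G) = S := Subgroup.eq_of_le_of_card_ge hS (by
    rw [hQ, S.card_eq_multiplicity, ← P.card_eq_multiplicity, hP])
  obtain ⟨g, hg⟩ := MulAction.exists_smul_eq G S P
  have hconj : R'.map (MulAut.conj g).toMonoidHom ≤ C := by
    refine le_inf ?_ ?_
    · rintro _ ⟨y, hy, rfl⟩
      exact hK.conj_mem y ((Subgroup.map_subtype_le _) hy) g
    · rintro _ ⟨y, hy, rfl⟩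
      rw [Subgroup.mem_centralizer_iff]
      intro z hz
      rw [← hg, Sylow.coe_subgroup_smul, SetLike.mem_coe,
        Subgroup.mem_pointwise_smul_iff_inv_smul_mem, ← hSe] at hz
      have h := Subgroup.mem_centralizer_iff.1 (hcQ hy) _ hz
      simp only [MulAut.smul_def, MulAut.inv_apply, MulAut.conj_symm_apply] at h
      simp only [MulEquiv.coe_toMonoidHom, MulAut.conj_apply]
      calc z * (g * y * g⁻¹) = g * ((g⁻¹ * z * g) * y) * g⁻¹ := by group
        _ = g * (y * (g⁻¹ * z * g)) * g⁻¹ := by rw [h]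
        _ = g * y * g⁻¹ * z := by group
  have hd := Subgroup.card_dvd_of_le hconj
  rw [Subgroup.card_map_of_injective (MulEquiv.injective _), hR'card] at hd
  exact (hr.pow_dvd_iff_le_factorization Nat.card_pos.ne').1 hd

end Invariant

/-- The main arithmetical step: a simple group with Sylow subgroup of order `p` is not too small. -/
theorem simple_bound (hp2 : p ≠ 2) {G : Type u} [Group G] [Finite G] [IsSimpleGroup G]
    (hG : ¬ IsMulCommutative G) (P : Sylow p G) (hP : Nat.card P = p) :
    p * (p ^ 2 - 1) / 2 ≤ Nat.card G := by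
  classical
  by_contra hlt
  push Not at hlt
  letI : Fintype G := Fintype.ofFinite G
  obtain ⟨M, hM⟩ := BlockBasic.exists_isPModular hp.out
  obtain ⟨X, Y, εX, ε, hB, hdisj, hXc, hYc, hXv, hε, hYdeg, hag, hrel⟩ :=
    H86.Abelian.exists_structure P hP hM
  set C := centralizer ((P : Subgroup G) : Set G) with hC
  set N := normalizer ((P : Subgroup G) : Set G) with hN
  set e := C.relIndex N with he
  have hPC : (P : Subgroup G) ≤ C := by
    haveI := H86.Abelian.isMulCommutative_sylow P hP
    exact Subgroup.le_centralizer (P : Subgroup G)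
  have hCN : C ≤ N := Subgroup.centralizer_le_normalizer _
  obtain ⟨c, hc⟩ := hP ▸ Subgroup.card_dvd_of_le hPC
  have hNcard : Nat.card N = Nat.card C * e := by
    rw [← Subgroup.card_mul_index (C.subgroupOf N), he, Subgroup.relIndex,
      Nat.card_congr (Subgroup.subgroupOfEquivOfLe hCN).toEquiv]
  set n := Nat.card (Sylow p G) with hn
  have hnN : Nat.card G = Nat.card N * n := by
    rw [hn, P.card_eq_index_normalizer]
    exact (Subgroup.card_mul_index N).symm
  obtain ⟨Q, hQ⟩ : ∃ Q, Q = c * e * n := ⟨_, rfl⟩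
  have hGQ : Nat.card G = p * Q := by rw [hnN, hNcard, hc, hQ]; ring
  have hc0 : 0 < c := Nat.pos_of_ne_zero fun h => by
    rw [h, mul_zero] at hc; exact Nat.card_pos.ne' hc
  have he0 : 0 < e := Nat.pos_of_ne_zero Subgroup.index_ne_zero_of_finite
  have hnmod : n ≡ 1 [MOD p] := card_sylow_modEq_one p G
  have hn2 : p + 1 ≤ n := by
    have hne : n ≠ 1 := by
      intro h1
      haveI : Subsingleton (Sylow p G) := (Nat.card_eq_one_iff_unique.1 h1).1
      have hnorm : (P : Subgroup G).Normal := P.normal_of_subsingleton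
      rcases hnorm.eq_bot_or_eq_top with h | h
      · rw [h, Subgroup.card_bot] at hP; exact hp.out.one_lt.ne hP
      · rw [h, Subgroup.card_top] at hP
        haveI : IsCyclic G := isCyclic_of_prime_card hP
        exact hG IsCyclic.isMulCommutative
    have hn0 : 1 ≤ n := Nat.card_pos
    by_contra hlt'
    have := Nat.le_of_dvd (by omega) ((Nat.modEq_iff_dvd' hn0).1 hnmod.symm)
    omega
  obtain ⟨j, hj⟩ : ∃ j, p = 2 * j + 1 := hp.out.eq_two_or_odd'.resolve_left hp2
  have h2Q : 2 * Q < p ^ 2 - 1 := by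
    rw [hGQ, show p ^ 2 - 1 = 2 * (2 * j ^ 2 + 2 * j) by
      rw [hj]; ring_nf; omega] at hlt
    rw [show p * (2 * (2 * j ^ 2 + 2 * j)) / 2 = p * (2 * j ^ 2 + 2 * j) by
      rw [show p * (2 * (2 * j ^ 2 + 2 * j)) = 2 * (p * (2 * j ^ 2 + 2 * j)) by ring,
        Nat.mul_div_cancel_left _ (by norm_num)]] at hlt
    have := Nat.lt_of_mul_lt_mul_left hlt
    rw [show p ^ 2 - 1 = 2 * (2 * j ^ 2 + 2 * j) by rw [hj]; ring_nf; omega]
    omega
  have hsq : p ^ 2 - 1 = (p - 1) * (p + 1) := by
    rw [hj]; simp only [Nat.add_sub_cancel]; ring_nf; omega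
  rw [hsq] at h2Q
  have hec : 2 * (c * e) + 3 ≤ p := by
    have : c * e * (p + 1) ≤ Q := by rw [hQ]; exact Nat.mul_le_mul_left _ hn2
    have h3 : 2 * (c * e) * (p + 1) < (p - 1) * (p + 1) := by
      calc 2 * (c * e) * (p + 1) = 2 * (c * e * (p + 1)) := by ring
        _ ≤ 2 * Q := by omega
        _ < _ := h2Q
    have := Nat.lt_of_mul_lt_mul_right h3
    omega
  have hec1 : e ≤ c * e := Nat.le_mul_of_pos_left _ hc0
  have hec2 : c ≤ c * e := Nat.le_mul_of_pos_right _ he0
  have cast_inj : ∀ {a b : ℕ}, a < p → b < p → (a : ZMod p) = b → a = b := by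
    intro a b ha hb h
    have := congrArg ZMod.val h
    rwa [ZMod.val_cast_of_lt ha, ZMod.val_cast_of_lt hb] at this
  have hnZ : (n : ZMod p) = 1 := by
    simpa using (ZMod.natCast_eq_natCast_iff n 1 p).2 hnmod
  have hQZ : (Q : ZMod p) = (c : ZMod p) * e := by rw [hQ]; push_cast; rw [hnZ, mul_one]
  set d : IrrCharacter G → ℕ := fun χ => charDegree (χ : G → ℂ) with hd
  have hd1 : ∀ χ : IrrCharacter G, (χ : G → ℂ) 1 = (d χ : ℂ) := fun χ =>
    BlockBasic.apply_one_eq_charDegree χ
  have hdeg : ∀ χ : IrrCharacter G, χ ≠ H36.SelfCentral.triv G → 2 ≤ d χ := by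
    intro χ hχ
    obtain ⟨d', h2, h1, -⟩ := H36.SelfCentral.exists_degree_two_le hG hχ
    have : d χ = d' := by exact_mod_cast (hd1 χ).symm.trans h1
    omega
  have hdvd : ∀ χ : IrrCharacter G, (d χ : ZMod p) ≠ 0 → d χ ∣ Q := by
    intro χ h
    have h1 : d χ ∣ p * Q := hGQ ▸ BlockBasic.charDegree_dvd χ
    refine (Nat.Coprime.dvd_of_dvd_mul_left ?_ h1)
    exact (hp.out.coprime_iff_not_dvd.2 fun hh => h
      ((ZMod.natCast_eq_zero_iff _ _).2 hh)).symm
  have htX : H36.SelfCentral.triv G ∈ X ∧ εX (H36.SelfCentral.triv G) = 1 := by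
    have hmem : H36.SelfCentral.triv G ∈ principalBlock M G := fun g =>
      ⟨0, 1, M.zero_mem, fun h => hM.2.1.ne_top ((Ideal.eq_top_iff_one M).2 h),
        by simp [H36.SelfCentral.triv]⟩
    have ht1 : d (H36.SelfCentral.triv G) = 1 := by
      simp [hd, charDegree, H36.SelfCentral.triv]
    rcases (hB _).1 hmem with h | h
    · refine ⟨h, ?_⟩
      obtain ⟨h1, h2, -⟩ := hXv _ h
      rcases h1 with e1 | e1
      · exact e1
      · exfalso
        change ((d (H36.SelfCentral.triv G) : ℕ) : ℤ) ≡ _ [ZMOD p] at h2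
        rw [ht1, e1, ← ZMod.intCast_eq_intCast_iff] at h2
        push_cast at h2
        have h4 : ((2 : ℕ) : ZMod p) = 0 := by push_cast; linear_combination h2
        have := Nat.le_of_dvd (by norm_num) ((ZMod.natCast_eq_zero_iff _ _).1 h4)
        omega
    · exfalso
      have h2 := hYdeg _ h
      change ((d (H36.SelfCentral.triv G) : ℕ) : ℤ) ≡ _ [ZMOD p] at h2
      rw [ht1, ← ZMod.intCast_eq_intCast_iff] at h2
      push_cast at h2
      rcases hε with e1 | e1
      · rw [e1] at h2
        push_cast at h2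
        have he1 : e = 1 := cast_inj (by omega) hp.out.one_lt (by push_cast; linear_combination -h2)
        change Y.card = (p - 1) / e at hYc
        rw [he1, Nat.div_one] at hYc
        obtain ⟨θ, hθ, hne⟩ := Finset.exists_mem_ne (show 1 < Y.card by omega)
          (H36.SelfCentral.triv G)
        have := hag θ hθ _ h 1 (by rw [orderOf_one]; exact hp.out.not_dvd_one)
        rw [hd1, hd1, ht1] at this
        have h3 := hdeg θ hne
        have : d θ = 1 := by exact_mod_cast this
        omega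
      · rw [e1] at h2
        push_cast at h2
        have h4 : ((e + 1 : ℕ) : ZMod p) = 0 := by push_cast; linear_combination h2
        have := Nat.le_of_dvd (by omega) ((ZMod.natCast_eq_zero_iff _ _).1 h4)
        omega
  have hX : ∀ χ ∈ X, χ ≠ H36.SelfCentral.triv G → εX χ = 1 ∧ d χ = n := by
    intro χ hχ hne
    obtain ⟨h1, h2, -⟩ := hXv χ hχ
    change ((d χ : ℕ) : ℤ) ≡ _ [ZMOD p] at h2
    rw [← ZMod.intCast_eq_intCast_iff] at h2
    push_cast at h2
    have h0 : (d χ : ZMod p) ≠ 0 := by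
      rw [h2]; rcases h1 with e1 | e1 <;> simp [e1]
    obtain ⟨w, hw⟩ := hdvd χ h0
    have hwZ : (d χ : ZMod p) * w = (c : ZMod p) * e := by
      rw [← hQZ, hw]; push_cast; ring
    have h2d := hdeg χ hne
    rcases h1 with e1 | e1 <;> rw [e1] at h2 <;> push_cast at h2
    · refine ⟨e1, ?_⟩
      have hdp : p + 1 ≤ d χ := by
        have h4 : ((d χ - 1 : ℕ) : ZMod p) = 0 := by
          rw [Nat.cast_sub (by omega)]; push_cast; rw [h2, sub_self]
        have := Nat.le_of_dvd (by omega) ((ZMod.natCast_eq_zero_iff _ _).1 h4)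
        omega
      have hwlt : w < p := by
        have h3 : 2 * w * (p + 1) < (p - 1) * (p + 1) := by
          calc 2 * w * (p + 1) ≤ 2 * w * d χ := Nat.mul_le_mul_left _ hdp
            _ = 2 * Q := by rw [hw]; ring
            _ < _ := h2Q
        have := Nat.lt_of_mul_lt_mul_right h3
        omega
      rw [h2, one_mul] at hwZ
      have hwe : w = c * e := cast_inj hwlt (by omega) (by push_cast; exact hwZ)
      rw [hwe, hQ, mul_comm (d χ)] at hw
      exact (Nat.eq_of_mul_eq_mul_left (by omega) hw).symm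
    · exfalso
      have hdp : p - 1 ≤ d χ := by
        have h4 : ((d χ + 1 : ℕ) : ZMod p) = 0 := by push_cast; rw [h2, neg_add_cancel]
        have := Nat.le_of_dvd (by omega) ((ZMod.natCast_eq_zero_iff _ _).1 h4)
        omega
      have hwp : p ≤ w + c * e := by
        have h4 : ((w + c * e : ℕ) : ZMod p) = 0 := by
          push_cast; rw [← hwZ, h2]; ring
        exact Nat.le_of_dvd (by omega) ((ZMod.natCast_eq_zero_iff _ _).1 h4)
      have h3 : (p - 1) * (2 * w) < (p - 1) * (p + 1) := by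
        calc (p - 1) * (2 * w) ≤ d χ * (2 * w) := Nat.mul_le_mul_right _ hdp
          _ = 2 * Q := by rw [hw]; ring
          _ < _ := h2Q
      have := Nat.lt_of_mul_lt_mul_left h3
      omega
  change X.card = e at hXc
  change Y.card = (p - 1) / e at hYc
  obtain ⟨θ, hθ⟩ : Y.Nonempty := Finset.card_pos.1 (by
    rw [hYc]; exact Nat.div_pos (by omega) he0)
  have hθne : θ ≠ H36.SelfCentral.triv G := fun h =>
    Finset.disjoint_left.1 hdisj htX.1 (h ▸ hθ)
  have hsum : (∑ χ ∈ X, (εX χ : ℂ) * (χ : G → ℂ) 1) = ((1 + (e - 1) * n : ℕ) : ℂ) := by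
    rw [← Finset.add_sum_erase X _ htX.1, Finset.sum_congr rfl (g := fun _ => (n : ℂ))
      fun χ hχ => by
        obtain ⟨h1, h2⟩ := hX χ (Finset.mem_of_mem_erase hχ) (Finset.ne_of_mem_erase hχ)
        rw [h1, hd1, h2]; simp]
    rw [Finset.sum_const, Finset.card_erase_of_mem htX.1, hXc, htX.2, nsmul_eq_mul]
    simp [H36.SelfCentral.triv]
  have hrel1 := hrel θ hθ 1 (by rw [orderOf_one]; exact hp.out.not_dvd_one)
  rw [hsum, hd1] at hrel1
  rcases hε with e1 | e1
  swap
  · rw [e1] at hrel1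
    have : (((1 + (e - 1) * n) + d θ : ℕ) : ℂ) = 0 := by
      rw [Nat.cast_add, ← hrel1]; simp
    have := Nat.cast_eq_zero.1 this
    omega
  rw [e1, Int.cast_one, one_mul] at hrel1
  have hdθ : d θ = 1 + (e - 1) * n := Nat.cast_injective hrel1
  have h2θ := hdeg θ hθne
  have he2 : 2 ≤ e := by
    by_contra h
    rw [show e - 1 = 0 by omega, zero_mul] at hdθ
    omega
  have hdp : p + 1 ≤ d θ := by
    have : n ≤ (e - 1) * n := Nat.le_mul_of_pos_left _ (by omega)
    omega
  have hθZ : (d θ : ZMod p) = e := by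
    have h2 := hYdeg θ hθ
    change ((d θ : ℕ) : ℤ) ≡ _ [ZMOD p] at h2
    rw [e1, one_mul, ← ZMod.intCast_eq_intCast_iff] at h2
    push_cast at h2
    exact h2
  have heZ : (e : ZMod p) ≠ 0 := fun h => by
    have := Nat.le_of_dvd he0 ((ZMod.natCast_eq_zero_iff _ _).1 h)
    omega
  obtain ⟨w, hw⟩ := hdvd θ (hθZ ▸ heZ)
  have hwlt : w < p := by
    have h3 : 2 * w * (p + 1) < (p - 1) * (p + 1) := by
      calc 2 * w * (p + 1) ≤ 2 * w * d θ := Nat.mul_le_mul_left _ hdp
        _ = 2 * Q := by rw [hw]; ring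
        _ < _ := h2Q
    have := Nat.lt_of_mul_lt_mul_right h3
    omega
  have hwc : w = c := by
    refine cast_inj hwlt (by omega) ?_
    have h4 : (e : ZMod p) * w = e * c := by
      rw [← hθZ, ← Nat.cast_mul, ← hw, hQZ, hθZ]; ring
    exact mul_left_cancel₀ heZ h4
  rw [hwc, hQ] at hw
  have h5 : d θ = e * n := Nat.eq_of_mul_eq_mul_right hc0 (by rw [← hw]; ring)
  rw [hdθ] at h5
  obtain ⟨e', he'⟩ : ∃ e', e = e' + 1 := ⟨e - 1, by omega⟩
  rw [he', Nat.add_sub_cancel, add_mul, one_mul] at h5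
  omega

/-- Lower bound for the order of a group that is not `p`-closed. -/
theorem card_bound (hp2 : p ≠ 2) (m : ℕ)
    (hleast : ∀ k : ℕ, IsPrimePow k → k % p = 1 → m ≤ k) (n : ℕ) :
    ∀ (H : Type u) [Group H] [Finite H], Nat.card H = n → ¬ IsPClosed p H →
      min (p * m) (p * (p ^ 2 - 1) / 2) ≤ n := by
  induction n using Nat.strong_induction_on with
  | _ n ih =>
  intro H _ _ hcard hnc
  subst hcard
  obtain ⟨P, hPn⟩ : ∃ P : Sylow p H, ¬ (P : Subgroup H).Normal := not_forall.1 hnc
  obtain ⟨a, ha⟩ := IsPGroup.iff_card.1 P.isPGroup'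
  have hsyl : p + 1 ≤ Nat.card (Sylow p H) := by
    have hne : Nat.card (Sylow p H) ≠ 1 := by
      intro h1
      haveI : Subsingleton (Sylow p H) := (Nat.card_eq_one_iff_unique.1 h1).1
      exact hPn P.normal_of_subsingleton
    have hn0 : 1 ≤ Nat.card (Sylow p H) := Nat.card_pos
    by_contra hlt'
    have := Nat.le_of_dvd (by omega)
      ((Nat.modEq_iff_dvd' hn0).1 (card_sylow_modEq_one p H).symm)
    omega
  have hbig : Nat.card P * (p + 1) ≤ Nat.card H := by
    calc Nat.card P * (p + 1) ≤ Nat.card P * Nat.card (Sylow p H) := Nat.mul_le_mul_left _ hsyl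
      _ ≤ Nat.card (normalizer ((P : Subgroup H) : Set H)) * Nat.card (Sylow p H) :=
        Nat.mul_le_mul_right _ (Subgroup.card_le_of_le Subgroup.le_normalizer)
      _ = Nat.card H := by
        rw [P.card_eq_index_normalizer]
        exact Subgroup.card_mul_index _
  rcases a with _ | _ | a
  · exfalso
    rw [pow_zero] at ha
    exact hPn ((Subgroup.card_eq_one.1 ha).symm ▸ (inferInstance : (⊥ : Subgroup H).Normal))
  swap
  · refine (min_le_right _ _).trans (le_trans ?_ hbig)
    rw [ha]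
    refine Nat.div_le_of_le_mul ?_
    calc p * (p ^ 2 - 1) ≤ p * p ^ 2 := Nat.mul_le_mul_left _ (Nat.sub_le _ _)
      _ ≤ p ^ (a + 2) * p := by
        rw [pow_add, mul_comm p (p ^ 2)]
        exact Nat.mul_le_mul_right _ (Nat.le_mul_of_pos_left _ (pow_pos hp.out.pos _))
      _ ≤ p ^ (a + 2) * (2 * (p + 1)) := Nat.mul_le_mul_left _ (by omega)
      _ = 2 * (p ^ (a + 1 + 1) * (p + 1)) := by ring
  rw [zero_add, pow_one] at ha
  by_cases hN : ∃ N : Subgroup H, N.Normal ∧ N ≠ ⊥ ∧ N ≠ ⊤
  swap
  · push Not at hN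
    haveI : Nontrivial H := by
      rw [← not_subsingleton_iff_nontrivial]
      intro hs
      exact hPn ((Subsingleton.elim ((P : Subgroup H)) ⊥).symm ▸
        (inferInstance : (⊥ : Subgroup H).Normal))
    haveI : IsSimpleGroup H := ⟨fun N hn => or_iff_not_imp_left.2 fun hb => hN N hn hb⟩
    have hG : ¬ IsMulCommutative H := fun h => hPn ⟨fun x hx g => by
      rw [mul_comm' g x, mul_inv_cancel_right]; exact hx⟩
    exact (min_le_right _ _).trans (simple_bound hp2 hG P ha)
  obtain ⟨N, hNn, hNb, hNt⟩ := hN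
  haveI := hNn
  by_cases hpN : p ∣ Nat.card N
  · have hlt : Nat.card N < Nat.card H :=
      lt_of_le_of_ne (Subgroup.card_le_card_group N) fun h => hNt (Subgroup.eq_top_of_card_eq N h)
    refine (ih _ hlt N rfl ?_).trans (Subgroup.card_le_card_group N)
    intro hcl
    obtain ⟨S⟩ : Nonempty (Sylow p N) := inferInstance
    haveI := Sylow.characteristic_of_normal S (hcl S)
    have hnorm : ((S : Subgroup N).map N.subtype).Normal :=
      ConjAct.normal_of_characteristic_of_normal
    obtain ⟨T, hT⟩ := (S.isPGroup'.map N.subtype).exists_le_sylow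
    have hcS : Nat.card ((S : Subgroup N).map N.subtype) = Nat.card T := by
      rw [Subgroup.card_map_of_injective N.subtype_injective, T.card_eq_multiplicity,
        ← P.card_eq_multiplicity, ha, S.card_eq_multiplicity]
      have h1 : (Nat.card N).factorization p = 1 := by
        refine le_antisymm ?_ ((hp.out.dvd_iff_one_le_factorization Nat.card_pos.ne').1 hpN)
        have h2 : (Nat.card H).factorization p = 1 := by
          apply Nat.pow_right_injective hp.out.two_le
          simp only [pow_one]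
          rw [← P.card_eq_multiplicity, ha]
        rw [← h2]
        exact (Nat.factorization_le_iff_dvd Nat.card_pos.ne' Nat.card_pos.ne').2
          (Subgroup.card_subgroup_dvd_card N) p
      rw [h1, pow_one]
    have hTe := Subgroup.eq_of_le_of_card_ge hT hcS.ge
    haveI : (T : Subgroup H).Normal := hTe ▸ hnorm
    letI := Sylow.unique_of_normal T inferInstance
    exact hPn (Subsingleton.elim T P ▸ (inferInstance : (T : Subgroup H).Normal))
  by_cases hc : N ≤ centralizer ((P : Subgroup H) : Set H)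
  swap
  · obtain ⟨k, h1, h2, h3⟩ := exists_le_card P ha N hpN hc
    refine (min_le_left _ _).trans ?_
    calc p * m ≤ p * Nat.card N := Nat.mul_le_mul_left _ ((hleast k h1 h2).trans h3)
      _ ≤ Nat.card H := by
        refine Nat.le_of_dvd Nat.card_pos (Nat.Coprime.mul_dvd_of_dvd_of_dvd
          (hp.out.coprime_iff_not_dvd.2 hpN) (ha ▸ Subgroup.card_subgroup_dvd_card _)
          (Subgroup.card_subgroup_dvd_card _))
  have hlt : Nat.card (H ⧸ N) < Nat.card H := by
    rw [← Subgroup.card_mul_index N, ← Subgroup.index_eq_card]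
    exact lt_mul_of_one_lt_left (Nat.pos_of_ne_zero Subgroup.index_ne_zero_of_finite)
      ((Subgroup.one_lt_card_iff_ne_bot N).2 hNb)
  refine (ih _ hlt (H ⧸ N) rfl ?_).trans hlt.le
  intro hcl
  have hs : Function.Surjective (QuotientGroup.mk' N) := QuotientGroup.mk'_surjective N
  have hn := hcl (P.mapSurjective hs)
  refine hPn ⟨fun x hx g => ?_⟩
  have h1 : QuotientGroup.mk' N (g * x * g⁻¹) ∈ (P : Subgroup H).map (QuotientGroup.mk' N) := by
    rw [map_mul, map_mul, map_inv]
    exact hn.conj_mem _ (Subgroup.mem_map_of_mem _ hx) _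
  obtain ⟨y, hy, hye⟩ := h1
  have hk : y⁻¹ * (g * x * g⁻¹) ∈ N := QuotientGroup.eq.1 hye
  have hpw : ∀ z ∈ (P : Subgroup H), z ^ p = 1 := fun z hz => by
    have h := pow_card_eq_one' (G := (P : Subgroup H)) (x := ⟨z, hz⟩)
    rw [ha] at h
    exact congrArg Subtype.val h
  have hcom : Commute y (y⁻¹ * (g * x * g⁻¹)) := Subgroup.mem_centralizer_iff.1 (hc hk) y hy
  have hk1 : y⁻¹ * (g * x * g⁻¹) = 1 := by
    have e1 := hcom.mul_pow p
    rw [mul_inv_cancel_left, conj_pow, hpw x hx, hpw y hy, one_mul, mul_one, mul_inv_cancel] at e1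
    refine orderOf_eq_one_iff.1 (Nat.eq_one_of_dvd_coprimes
      (hp.out.coprime_iff_not_dvd.2 hpN) (orderOf_dvd_of_pow_eq_one e1.symm) ?_)
    rw [← Subgroup.orderOf_mk _ hk]
    exact orderOf_dvd_natCard _
  rw [← inv_mul_eq_one.1 hk1]
  exact hy

end Cfsg.Agent.H60.PClosedMin
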