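import Cfsg.Agent.FusionSys.StronglyEmbedded
import Cfsg.Agent.H60.Basic

/-!
Working with strongly `p`-embedded subgroups: control of `p`-subgroups, Sylow subgroups of overgroups.
-/

set_option autoImplicit false

namespace Cfsg.Agent.H60

open Subgroup

variable {G : Type*} [Group G] [Finite G] {p : ℕ} [Fact p.Prime]

/-- A `p`-subgroup `R` of `K` with `N_K(R) ∩ (p-overgroups) = R` is a Sylow subgroup of `K`. -/
theorem eq_of_normalizer_closed {R T : Subgroup G} (hT : IsPGroup p T) (hRT : R ≤ T)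
    (h : T ⊓ normalizer (R : Set G) ≤ R) : R = T := by
  rcases hRT.eq_or_lt with he | hlt
  · exact he
  · exact absurd h (FusionSys.lt_inf_normalizer_of_lt hT hlt).not_ge

/-- A maximal `p`-subgroup of `H`. -/
theorem exists_pSubgroup_max {R H : Subgroup G} (hR : IsPGroup p R) (hRH : R ≤ H) :
    ∃ S : Subgroup G, R ≤ S ∧ S ≤ H ∧ IsPGroup p S ∧ (∃ S0 : Sylow p ↥H, (S0 : Subgroup ↥H).map H.subtype = S) ∧
      ∀ T : Subgroup G, IsPGroup p T → S ≤ T → T ≤ H → T = S := by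
  obtain ⟨S0, hS0⟩ := (hR.comap_of_injective H.subtype H.subtype_injective).exists_le_sylow
  refine ⟨(S0 : Subgroup ↥H).map H.subtype, fun r hr => ⟨⟨r, hRH hr⟩, hS0 hr, rfl⟩, map_subtype_le _,
    S0.isPGroup'.map _, ⟨S0, rfl⟩, fun T hT hST hTH => le_antisymm ?_ hST⟩
  intro t ht
  have he := S0.is_maximal' (hT.comap_of_injective H.subtype H.subtype_injective)
    (fun s hs => hST ⟨s, hs, rfl⟩)
  exact ⟨⟨t, hTH ht⟩, he ▸ (show (⟨t, hTH ht⟩ : H) ∈ T.comap H.subtype from ht), rfl⟩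

/-- `p`-subgroups of `H` go into a given Sylow subgroup of `H` under conjugation by `H`. -/
theorem exists_conj_le_sylow {H R : Subgroup G} (S : Sylow p ↥H) (hR : IsPGroup p R) (hRH : R ≤ H) :
    ∃ h ∈ H, cj R h ≤ (S : Subgroup ↥H).map H.subtype := by
  obtain ⟨T, hT⟩ := (hR.comap_of_injective H.subtype H.subtype_injective).exists_le_sylow
  obtain ⟨e, he⟩ := MulAction.exists_smul_eq (↥H) T S
  refine ⟨e, e.2, ?_⟩
  rintro _ ⟨r, hr, rfl⟩
  refine ⟨e * ⟨r, hRH hr⟩ * e⁻¹, ?_, rfl⟩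
  rw [← he]
  exact ⟨_, hT (show (⟨r, hRH hr⟩ : H) ∈ R.comap H.subtype from hr), rfl⟩

/-- Elements conjugating a nontrivial `p`-subgroup of `H` into `H` lie in `H`. -/
theorem pEmb_mem_of_conj {H : Subgroup G} (hH : Cfsg.IsStronglyPEmbedded p H) {R : Subgroup G}
    (hR : IsPGroup p R) (hne : R ≠ ⊥) (hRH : R ≤ H) {g : G} (hg : cj R g ≤ H) : g ∈ H := by
  obtain ⟨hdvd, -, P, hP⟩ := FusionSys.isStronglyPEmbedded_iff.1 hH
  have hPH : (P : Subgroup G) ≤ H := le_normalizer.trans (hP _ le_rfl (P.ne_bot_of_dvd_card hdvd))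
  obtain ⟨a, ha, h1⟩ := exists_conj_le_sylow (P.subtype hPH) hR hRH
  obtain ⟨b, hb, h2⟩ := exists_conj_le_sylow (P.subtype hPH) (isPGroup_cj hR g) hg
  have hmap : ((P.subtype hPH : Sylow p ↥H) : Subgroup ↥H).map H.subtype ≤ (P : Subgroup G) := by
    rintro _ ⟨y, hy, rfl⟩; exact hy
  have h3 : b * g * a⁻¹ ∈ H := by
    refine FusionSys.mem_of_conj_mem P hP (h1.trans hmap) (fun h => hne (cj_eq_bot_iff.1 h)) ?_
    rintro _ ⟨r, hr, rfl⟩
    refine hmap (h2 ?_)
    rw [cj_cj, mem_cj]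
    convert SetLike.mem_coe.1 hr using 1
    simp only [MulEquiv.coe_toMonoidHom, MulAut.conj_apply]
    group
  simpa [mul_assoc] using H.mul_mem (H.mul_mem (H.inv_mem hb) h3) ha

theorem pEmb_normalizer_le {H : Subgroup G} (hH : Cfsg.IsStronglyPEmbedded p H) {R : Subgroup G}
    (hR : IsPGroup p R) (hne : R ≠ ⊥) (hRH : R ≤ H) : normalizer (R : Set G) ≤ H := fun g hg =>
  pEmb_mem_of_conj hH hR hne hRH ((cj_eq_self_iff.2 hg).le.trans hRH)

/-- If `p` divides `|H ∩ K|`, some Sylow `p`-subgroup of `K` lies in `H`. -/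
theorem pEmb_exists_sylow_le {H : Subgroup G} (hH : Cfsg.IsStronglyPEmbedded p H) {K : Subgroup G}
    (hd : p ∣ Nat.card ↥(H ⊓ K)) :
    ∃ T : Sylow p ↥K, (T : Subgroup ↥K).map K.subtype ≤ H ∧ (T : Subgroup ↥K).map K.subtype ≠ ⊥ := by
  obtain ⟨R, -, hRHK, hRp, ⟨R0, hR0⟩, hmax⟩ :=
    exists_pSubgroup_max (p := p) (R := (⊥ : Subgroup G)) IsPGroup.of_bot (bot_le (a := H ⊓ K))
  have hne : R ≠ ⊥ := by
    rw [← hR0]
    intro h
    exact R0.ne_bot_of_dvd_card hd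
      (Subgroup.map_injective (subtype_injective _) (h.trans (Subgroup.map_bot _).symm))
  obtain ⟨T, hT⟩ := (hRp.comap_of_injective K.subtype K.subtype_injective).exists_le_sylow
  have hRT : R ≤ (T : Subgroup ↥K).map K.subtype := fun r hr => ⟨⟨r, (hRHK hr).2⟩, hT hr, rfl⟩
  have he : R = (T : Subgroup ↥K).map K.subtype := by
    refine eq_of_normalizer_closed (p := p) (T.isPGroup'.map _) hRT ?_
    have hNH : (T : Subgroup ↥K).map K.subtype ⊓ normalizer (R : Set G) ≤ H ⊓ K :=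
      le_inf (inf_le_right.trans (pEmb_normalizer_le hH hRp hne (hRHK.trans inf_le_left)))
        (inf_le_left.trans (map_subtype_le _))
    exact (hmax _ ((T.isPGroup'.map K.subtype).to_le inf_le_left) (le_inf hRT le_normalizer) hNH).le
  exact ⟨T, he ▸ hRHK.trans inf_le_left, he ▸ hne⟩

end Cfsg.Agent.H60
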