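import Cfsg.Agent.H60.PMinimal
import Cfsg.Agent.Components.Basic
import Cfsg.Agent.Cores.Fitting
import Cfsg.Agent.Coprime.Action
import Cfsg.Agent.H77.Subnormal

/-!
p-minimal groups with trivial p-core: normal p'-subgroups are nilpotent, and a criterion for p-minimality.
-/

set_option autoImplicit false
set_option linter.style.haveILetI false

namespace Cfsg.Agent.H60

open Subgroup

universe u

theorem mem_sup_mul {G : Type u} [Group G] {H N : Subgroup G} (h : H ≤ normalizer (N : Set G)) {x : G}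
    (hx : x ∈ H ⊔ N) : ∃ a ∈ H, ∃ b ∈ N, x = a * b := by
  have h1 : x ∈ (↑(H ⊔ N) : Set G) := hx
  rw [coe_mul_of_left_le_normalizer_right _ _ h] at h1
  obtain ⟨a, ha, b, hb, rfl⟩ := h1
  exact ⟨a, ha, b, hb, rfl⟩

/-- A criterion for p-minimality: one Sylow subgroup is not normal and all proper overgroups of it lie in one proper subgroup. -/
theorem isPMinimal_of_bound {X : Type u} [Group X] [Finite X] {p : ℕ} [Fact p.Prime] (T : Sylow p X)
    (hT : ¬ (T : Subgroup X).Normal) {B : Subgroup X} (hB : B ≠ ⊤)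
    (hb : ∀ Y : Subgroup X, (T : Subgroup X) ≤ Y → Y ≠ ⊤ → Y ≤ B) : Cfsg.IsPMinimal p X := by
  intro U
  obtain ⟨g, hg⟩ := MulAction.exists_smul_eq X T U
  have hU : (U : Subgroup X) = cj (T : Subgroup X) g := by rw [← hg]; rfl
  have htop : ∀ (Y : Subgroup X) (a : X), cj Y a = ⊤ ↔ Y = ⊤ := fun Y a => by
    constructor
    · intro h
      exact Subgroup.map_injective (MulAut.conj a).injective
        (h.trans (Subgroup.map_top_of_surjective _ (MulAut.conj a).surjective).symm)
    · rintro rfl
      exact Subgroup.map_top_of_surjective _ (MulAut.conj a).surjective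
  refine ⟨fun hn => hT ?_, ?_⟩
  · have h1 : cj (T : Subgroup X) g = (T : Subgroup X) := by
      have h2 := (cj_eq_self_iff (H := cj (T : Subgroup X) g) (g := g⁻¹)).2
        (by rw [← hU, normalizer_eq_top_iff.2 hn]; trivial)
      rw [cj_cj, inv_mul_cancel, cj_one] at h2
      exact h2.symm
    rw [← h1, ← hU]; exact hn
  · have hbB : ∀ Y : Subgroup X, (U : Subgroup X) ≤ Y → Y ≠ ⊤ → Y ≤ cj B g := fun Y hY hne => by
      rw [le_cj_iff]
      refine hb _ ?_ fun h => hne ((htop _ _).1 h)
      rw [← cj_le_iff, ← hU]; exact hY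
    have hUB : (U : Subgroup X) ≤ cj B g := hU ▸ cj_mono (hb _ le_rfl fun h => hT (h ▸ inferInstance)) g
    have hne : cj B g ≠ ⊤ := fun h => hB ((htop _ _).1 h)
    refine ⟨cj B g, ⟨⟨hne, fun Y hY => ?_⟩, hUB⟩, fun Y hY => ?_⟩
    · by_contra h
      exact hY.not_ge (hbB Y (hUB.trans hY.le) h)
    · rcases (hbB Y hY.2 hY.1.1).eq_or_lt with h | h
      · exact h
      · exact absurd (hY.1.2 _ h) hne

variable {P : Type u} [Group P] [Finite P] {p : ℕ} [Fact p.Prime]
variable {S : Sylow p P} {M : Subgroup P}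

/-- In a p-minimal group a normal p'-subgroup is nilpotent. -/
theorem pMin_pPrime_nilpotent (hP : Cfsg.IsPMinimal p P) (hM : IsCoatom M) (hSM : (S : Subgroup P) ≤ M)
    {N : Subgroup P} [hN : N.Normal] (hc : (Nat.card N).Coprime p) : Group.IsNilpotent N := by
  obtain ⟨n, hn⟩ := IsPGroup.iff_card.1 S.isPGroup'
  have hSN : (S : Subgroup P) ≤ normalizer (N : Set P) := le_top.trans (normalizer_eq_top_iff.2 hN).ge
  have hcop : (Nat.card (S : Subgroup P)).Coprime (Nat.card N) := by
    rw [hn]; exact hc.symm.pow_left n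
  haveI := S.isPGroup'.isNilpotent
  have hsol : Group.IsSolvable (S : Subgroup P) ∨ Group.IsSolvable N := Or.inl inferInstance
  have hkey : ∀ (q : ℕ) (hq : Fact q.Prime), ∃ Q : Sylow q N,
      ((Q : Subgroup N).map N.subtype).Normal ∨
        normalizer (((Q : Subgroup N).map N.subtype : Subgroup P) : Set P) ≤ M := by
    intro q hq
    obtain ⟨Q, hQ⟩ := Coprime.exists_invariant_sylow hSN hcop hsol q
    refine ⟨Q, ?_⟩
    by_cases h : normalizer (((Q : Subgroup N).map N.subtype : Subgroup P) : Set P) = ⊤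
    · exact Or.inl (normalizer_eq_top_iff.1 h)
    · exact Or.inr (pMin_le hP hM hSM hQ h)
  by_cases hNM : N ≤ M
  · refine (Group.isNilpotent_of_finite_tfae (G := N)).out 3 0 |>.1 fun q hq Q' => ?_
    haveI := hq
    obtain ⟨Q, hQ | hQ⟩ := hkey q hq
    · haveI : (Q : Subgroup N).Normal := by
        have := hQ.comap N.subtype
        rwa [comap_map_eq_self_of_injective N.subtype_injective] at this
      obtain ⟨e, he⟩ := MulAction.exists_smul_eq N Q Q'
      rw [← he, Sylow.smul_eq_iff_mem_normalizer.2 ((normalizer_eq_top_iff.2 (inferInstance : (Q : Subgroup N).Normal)).ge (mem_top e))]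
      infer_instance
    · exact absurd (top_le_iff.1 ((Sylow.normalizer_sup_eq_top Q).ge.trans (sup_le hQ hNM))) hM.1
  · have : ∃ q : ℕ, ∃ _ : Fact q.Prime, ∃ Q : Sylow q N, ¬ (Q : Subgroup N).map N.subtype ≤ M ∧
        ((Q : Subgroup N).map N.subtype).Normal := by
      by_contra hno
      push Not at hno
      apply hNM
      rw [← subgroupOf_eq_top]
      refine eq_top_of_card_eq _ (Nat.dvd_antisymm (card_subgroup_dvd_card _) ?_)
      rw [← Nat.factorization_prime_le_iff_dvd Nat.card_pos.ne' Nat.card_pos.ne']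
      intro q hq
      haveI := Fact.mk hq
      rw [← hq.pow_dvd_iff_le_factorization Nat.card_pos.ne']
      obtain ⟨Q, hQ | hQ⟩ := hkey q ⟨hq⟩
      all_goals rw [← Q.card_eq_multiplicity]
      · refine card_dvd_of_le fun z hz => ?_
        by_contra hzM
        exact hno q ⟨hq⟩ Q (fun h => hzM (h ⟨z, hz, rfl⟩)) hQ
      · exact card_dvd_of_le fun z hz => (le_normalizer.trans hQ) ⟨z, hz, rfl⟩
    obtain ⟨q, hq, Q, hQM, hQn⟩ := this
    rcases pMin_dichotomy hP hM hSM hQn with h | h
    · have hNQ : N ≤ (Q : Subgroup N).map N.subtype := fun z hz => h (Fusion.mem_pResidual (by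
        refine Nat.Coprime.coprime_dvd_left ?_ hc
        exact Subgroup.orderOf_dvd_natCard N hz))
      exact ((Q.isPGroup'.map N.subtype).to_le hNQ).isNilpotent
    · exact absurd (h.trans M.normalCore_le) hQM

end Cfsg.Agent.H60
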