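import Cfsg.Agent.H60.SmallOrderPrime

/-!
# Perfect groups of order less than `p ^ 3`
-/

set_option autoImplicit false
set_option linter.style.haveILetI false

open Subgroup Cfsg

namespace Cfsg.Agent.H60.SmallOrder

universe u

variable {p : ℕ} [hp : Fact p.Prime]

/-- A perfect group has no normal Sylow subgroup of order `p`. -/
theorem not_normal_of_perfect {G : Type u} [Group G] [Finite G] (hperf : commutator G = ⊤)
    (P : Sylow p G) (hP : Nat.card P = p) : ¬ (P : Subgroup G).Normal := by
  intro hn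
  haveI := hn
  letI : Fintype G := Fintype.ofFinite G
  haveI : IsMulCommutative (P : Subgroup G) := H86.Abelian.isMulCommutative_sylow P hP
  haveI : IsCyclic (P : Subgroup G) := isCyclic_of_prime_card hP
  let f : G →* MulAut (P : Subgroup G) := MulAut.conjNormal
  have hcomm : ∀ a b : MulAut (P : Subgroup G), a * b = b * a := by
    intro a b
    haveI := (IsCyclic.mulAutMulEquiv (P : Subgroup G)).toMonoidHom
    exact (IsCyclic.mulAutMulEquiv (P : Subgroup G)).injective (by
      rw [map_mul, map_mul, mul_comm])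
  have hf : commutator G ≤ f.ker := by
    rw [_root_.commutator_def, Subgroup.commutator_le]
    intro a _ b _
    rw [MonoidHom.mem_ker, map_commutatorElement, commutatorElement_eq_one_iff_mul_comm]
    exact hcomm _ _
  rw [hperf] at hf
  have hc : normalizer ((P : Subgroup G) : Set G) ≤ centralizer ((P : Subgroup G) : Set G) := by
    intro g _
    rw [Subgroup.mem_centralizer_iff]
    intro x hx
    have h1 := congrArg Subtype.val (DFunLike.congr_fun (hf (mem_top g) : f g = 1) ⟨x, hx⟩)
    simp only [f, MulAut.conjNormal_apply, MulAut.one_apply] at h1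
    calc x * g = g * x * g⁻¹ * g := by rw [h1]
      _ = g * x := by group
  have hK := MonoidHom.ker_transferSylow_isComplement' P hc
  have hker : commutator G ≤ (MonoidHom.transferSylow P hc).ker := by
    rw [_root_.commutator_def, Subgroup.commutator_le]
    intro a _ b _
    rw [MonoidHom.mem_ker, map_commutatorElement, commutatorElement_eq_one_iff_mul_comm]
    exact mul_comm' _ _
  rw [hperf, top_le_iff] at hker
  rw [hker, Subgroup.isComplement'_top_left] at hK
  rw [hK, Subgroup.card_bot] at hP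
  exact hp.out.one_lt.ne hP

/-- A perfect group of order less than `p ^ 3`, divisible by `p`, with Sylow subgroups of order `p`
and no normal subgroup of order `2`, is simple. -/
theorem isSimpleGroup_of_perfect {G : Type u} [Group G] [Finite G] (hperf : commutator G = ⊤)
    (hlt : Nat.card G < p ^ 3) (P : Sylow p G) (hP : Nat.card P = p) (hp2 : p ≠ 2)
    (h2 : ∀ N : Subgroup G, N.Normal → Nat.card N ≠ 2) : IsSimpleGroup G := by
  classical
  set R : Subgroup G := Subgroup.normalClosure ((P : Subgroup G) : Set G) with hR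
  have hPR : (P : Subgroup G) ≤ R := Subgroup.le_normalClosure
  haveI hRn : R.Normal := Subgroup.normalClosure_normal
  obtain ⟨x, hx⟩ := exists_prime_orderOf_dvd_card' (G := (P : Subgroup G)) p (dvd_of_eq hP.symm)
  have hR1 : R ≠ ⊥ := fun h => by
    have h1 : (x : G) = 1 := by
      have := hPR x.2
      rwa [h, Subgroup.mem_bot] at this
    rw [← Subgroup.orderOf_coe, h1, orderOf_one] at hx
    exact hp.out.one_lt.ne hx
  haveI : Nontrivial R := (Subgroup.nontrivial_iff_ne_bot R).2 hR1
  obtain ⟨M, ⟨hMn, hMt⟩, hMmax⟩ := Set.Finite.exists_maximalFor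
    (fun N : Subgroup R => N) {N : Subgroup R | N.Normal ∧ N ≠ ⊤} (Set.toFinite _)
    ⟨⊥, inferInstance, bot_ne_top⟩
  haveI : M.Normal := hMn
  haveI : Nontrivial (R ⧸ M) := QuotientGroup.nontrivial_iff.2 hMt
  haveI hS : IsSimpleGroup (R ⧸ M) := by
    refine ⟨fun L hL => ?_⟩
    by_cases hLt : L = ⊤
    · exact Or.inr hLt
    left
    have hle : M ≤ L.comap (QuotientGroup.mk' M) := fun y hy => by
      rw [Subgroup.mem_comap, QuotientGroup.mk'_apply, (QuotientGroup.eq_one_iff y).2 hy]
      exact L.one_mem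
    have hne : L.comap (QuotientGroup.mk' M) ≠ ⊤ := fun h => hLt (by
      rw [← Subgroup.map_comap_eq_self_of_surjective (QuotientGroup.mk'_surjective M) L, h,
        Subgroup.map_top_of_surjective _ (QuotientGroup.mk'_surjective M)])
    have h1 := hMmax (j := L.comap (QuotientGroup.mk' M)) ⟨hL.comap _, hne⟩ hle
    rw [← Subgroup.map_comap_eq_self_of_surjective (QuotientGroup.mk'_surjective M) L,
      Subgroup.map_eq_bot_iff, QuotientGroup.ker_mk']
    exact h1
  have hdvdR : p ∣ Nat.card R := hP ▸ Subgroup.card_dvd_of_le hPR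
  have hpM : ¬ p ∣ Nat.card M := by
    intro h
    obtain ⟨y, hy⟩ := exists_prime_orderOf_dvd_card' (G := M) p h
    have hy' : orderOf ((y : R) : G) = p := by rw [Subgroup.orderOf_coe, Subgroup.orderOf_coe, hy]
    obtain ⟨S, hSle⟩ := (IsPGroup.of_card (n := 1) (p := p)
      (by rw [Nat.card_zpowers, hy', pow_one] :
        Nat.card (zpowers ((y : R) : G)) = p ^ 1)).exists_le_sylow (P := zpowers ((y : R) : G))
    have hyS : zpowers ((y : R) : G) = S := Subgroup.eq_of_le_of_card_ge hSle (by
      rw [Nat.card_zpowers, hy', S.card_eq_multiplicity, ← P.card_eq_multiplicity, hP])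
    have hSM : (S : Subgroup G) ≤ M.map R.subtype := hyS ▸ zpowers_le.2 ⟨(y : R), y.2, rfl⟩
    have hSR : (S : Subgroup G) ≤ R := hSM.trans (Subgroup.map_subtype_le _)
    refine hMt (eq_top_iff.2 fun r _ => ?_)
    have hrR : R ≤ M.map R.subtype := by
      refine (Subgroup.closure_le _).2 ?_
      intro z hz
      obtain ⟨a, ha, hconj⟩ := Group.mem_conjugatesOfSet_iff.1 hz
      obtain ⟨g, rfl⟩ := isConj_iff.1 hconj
      have hQR : (↑(g • P) : Subgroup G) ≤ R := by
        rintro _ ⟨w, hw, rfl⟩
        exact hRn.conj_mem w (hPR hw) g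
      obtain ⟨r0, hr0⟩ := MulAction.exists_smul_eq R (S.subtype hSR) ((g • P).subtype hQR)
      have hzR : g * a * g⁻¹ ∈ R := hRn.conj_mem a (hPR ha) g
      have hz' : (⟨g * a * g⁻¹, hzR⟩ : R) ∈ ((g • P).subtype hQR : Subgroup R) :=
        ⟨a, ha, rfl⟩
      rw [← hr0, Sylow.coe_subgroup_smul] at hz'
      obtain ⟨w, hw, hwe⟩ := hz'
      have hwM : w ∈ M := by
        obtain ⟨w', hw', hwe'⟩ := hSM (show ((w : R) : G) ∈ (S : Subgroup G) from hw)
        exact (R.subtype_injective hwe') ▸ hw'
      refine ⟨⟨g * a * g⁻¹, hzR⟩, ?_, rfl⟩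
      rw [← hwe]
      exact hMn.conj_mem w hwM r0
    obtain ⟨m, hm, hme⟩ := hrR r.2
    exact (R.subtype_injective hme) ▸ hm
  have hdvdS : p ∣ Nat.card (R ⧸ M) := by
    rw [← Subgroup.index_eq_card]
    exact (hp.out.dvd_mul.1 (M.card_mul_index.symm ▸ hdvdR)).resolve_left hpM
  by_cases hab : IsMulCommutative (R ⧸ M)
  · exfalso
    haveI := hab
    letI : CommGroup (R ⧸ M) :=
      { (inferInstance : Group (R ⧸ M)) with mul_comm := fun a b => mul_comm' a b }
    have hSp : Nat.card (R ⧸ M) = p :=
      ((Nat.prime_dvd_prime_iff_eq hp.out (IsSimpleGroup.prime_card (α := R ⧸ M))).1 hdvdS).symm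
    have hmem : ∀ r : R, r ∈ M ↔ ¬ p ∣ orderOf r := by
      intro r
      refine ⟨fun hr h => hpM (h.trans ?_), fun h => ?_⟩
      · rw [← Subgroup.orderOf_mk r hr]; exact orderOf_dvd_natCard _
      · rw [← QuotientGroup.eq_one_iff]
        refine orderOf_eq_one_iff.1 (Nat.eq_one_of_dvd_coprimes
          (hp.out.coprime_iff_not_dvd.2 h) (hSp ▸ orderOf_dvd_natCard _)
          (orderOf_map_dvd (QuotientGroup.mk' M) r))
    haveI hM' : (M.map R.subtype).Normal := ⟨by
      rintro _ ⟨r, hr, rfl⟩ g
      refine ⟨⟨g * r * g⁻¹, hRn.conj_mem _ r.2 g⟩, ?_, rfl⟩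
      rw [SetLike.mem_coe, hmem, Subgroup.orderOf_mk]
      have h1 : orderOf (g * (r : G) * g⁻¹) = orderOf (r : G) :=
        MulEquiv.orderOf_eq (MulAut.conj g) (r : G)
      rw [h1, Subgroup.orderOf_coe]
      exact (hmem r).1 hr⟩
    set q := QuotientGroup.mk' (M.map R.subtype)
    have hq : Function.Surjective q := QuotientGroup.mk'_surjective _
    have hker : q.ker = M.map R.subtype := QuotientGroup.ker_mk' _
    have hqR : Nat.card (R.map q) = p := by
      refine Nat.eq_of_mul_eq_mul_left (show 0 < Nat.card M from Nat.card_pos) ?_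
      rw [← hSp, ← Subgroup.index_eq_card, Subgroup.card_mul_index]
      have h1 := Subgroup.relIndex_ker R q
      rw [← h1, hker, mul_comm, ← Subgroup.card_map_of_injective (K := M) R.subtype_injective,
        Subgroup.relIndex]
      rw [← Nat.card_congr (Subgroup.subgroupOfEquivOfLe (Subgroup.map_subtype_le M)).toEquiv]
      exact Subgroup.index_mul_card _
    have hperfq : commutator (G ⧸ M.map R.subtype) = ⊤ := by
      rw [_root_.commutator_def, ← Subgroup.map_top_of_surjective q hq, ← Subgroup.map_commutator,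
        ← _root_.commutator_def, hperf]
    have hqP : Nat.card (P.mapSurjective hq : Subgroup (G ⧸ M.map R.subtype)) = p := by
      rw [Sylow.coe_mapSurjective]
      have h1 := Subgroup.card_map_dvd (P : Subgroup G) q
      rw [hP] at h1
      refine ((Nat.dvd_prime hp.out).1 h1).resolve_left fun h => ?_
      rw [Subgroup.card_eq_one, Subgroup.map_eq_bot_iff, hker] at h
      exact hpM ((Subgroup.card_map_of_injective (K := M) R.subtype_injective) ▸
        hP ▸ Subgroup.card_dvd_of_le h)
    refine not_normal_of_perfect hperfq (P.mapSurjective hq) hqP ?_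
    have heq : (P.mapSurjective hq : Subgroup (G ⧸ M.map R.subtype)) = R.map q := by
      refine Subgroup.eq_of_le_of_card_ge ?_ (hqR.le.trans hqP.ge)
      rw [Sylow.coe_mapSurjective]
      exact Subgroup.map_mono hPR
    rw [heq]
    exact hRn.map q hq
  obtain ⟨P', hP'⟩ : ∃ P' : Sylow p (R ⧸ M), Nat.card P' = p := by
    obtain ⟨Q⟩ : Nonempty (Sylow p (R ⧸ M)) := inferInstance
    refine ⟨Q, ?_⟩
    obtain ⟨a, ha⟩ := IsPGroup.iff_card.1 Q.isPGroup'
    have h1 : Nat.card Q ∣ Nat.card G :=
      (Subgroup.card_subgroup_dvd_card (Q : Subgroup (R ⧸ M))).trans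
        ((Subgroup.card_quotient_dvd_card M).trans (Subgroup.card_subgroup_dvd_card R))
    rw [ha, hp.out.pow_dvd_iff_le_factorization Nat.card_pos.ne'] at h1
    have h2 : p ^ (Nat.card G).factorization p = p ^ 1 := by
      rw [← P.card_eq_multiplicity, hP, pow_one]
    have h3 := Nat.pow_right_injective hp.out.two_le h2
    have h4 : p ∣ Nat.card Q := Q.dvd_card_of_dvd_card hdvdS
    have ha1 : a = 1 := by
      rcases a with _ | a
      · rw [ha, pow_zero] at h4; exact absurd (Nat.dvd_one.1 h4) hp.out.ne_one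
      · omega
    rw [ha, ha1, pow_one]
  have hbd := PClosedMin.simple_bound hp2 hab P' hP'
  have hGeq : Nat.card G = R.index * (Nat.card M * Nat.card (R ⧸ M)) := by
    rw [← Subgroup.index_eq_card, Subgroup.card_mul_index, Subgroup.index_mul_card]
  have hle2 : R.index * Nat.card M ≤ 2 := by
    by_contra h
    have h3 : 3 * Nat.card (R ⧸ M) ≤ Nat.card G := by
      rw [hGeq, ← mul_assoc]; exact Nat.mul_le_mul_right _ (by omega)
    obtain ⟨j, hj⟩ : ∃ j, p = 2 * j + 1 := hp.out.eq_two_or_odd'.resolve_left hp2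
    have hsq : p ^ 2 - 1 = 2 * (2 * j ^ 2 + 2 * j) := by rw [hj]; ring_nf; omega
    rw [hsq, show p * (2 * (2 * j ^ 2 + 2 * j)) = 2 * (p * (2 * j ^ 2 + 2 * j)) by ring,
      Nat.mul_div_cancel_left _ (by norm_num)] at hbd
    have hj1 : 1 ≤ j := by have := hp.out.two_le; omega
    have h5 : p ^ 3 ≤ 3 * (p * (2 * j ^ 2 + 2 * j)) := by rw [hj]; nlinarith
    omega
  have hM0 : 0 < Nat.card M := Nat.card_pos
  have hR0 : 0 < R.index := Nat.pos_of_ne_zero Subgroup.index_ne_zero_of_finite
  have hRtop : R = ⊤ := by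
    rw [← Subgroup.index_eq_one]
    by_contra hne
    have hi2 : R.index = 2 := by
      have : R.index * 1 ≤ R.index * Nat.card M := Nat.mul_le_mul_left _ hM0
      omega
    haveI : IsCyclic (G ⧸ R) := isCyclic_of_prime_card (p := 2)
      (hi2 ▸ (Subgroup.index_eq_card R).symm)
    haveI : IsMulCommutative (G ⧸ R) := IsCyclic.isMulCommutative
    have hle := Subgroup.Normal.quotient_commutative_iff_commutator_le.1
      (inferInstance : IsMulCommutative (G ⧸ R))
    rw [hperf, top_le_iff] at hle
    exact hne (Subgroup.index_eq_one.2 hle)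
  have hM1 : Nat.card M = 1 := by
    by_contra hne
    have h6 : Nat.card M = 2 := by
      have : 1 * Nat.card M ≤ R.index * Nat.card M := Nat.mul_le_mul_right _ hR0
      omega
    refine h2 (M.map R.subtype) ⟨?_⟩
      ((Subgroup.card_map_of_injective R.subtype_injective).trans h6)
    rintro _ ⟨r, hr, rfl⟩ g
    exact ⟨⟨g, hRtop ▸ mem_top g⟩ * r * ⟨g, hRtop ▸ mem_top g⟩⁻¹,
      hMn.conj_mem r hr _, rfl⟩
  have hMb : M = ⊥ := Subgroup.card_eq_one.1 hM1
  exact (MulEquiv.isSimpleGroup_congr
    ((((MulEquiv.subgroupCongr hRtop).trans Subgroup.topEquiv).symm.trans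
      QuotientGroup.quotientBot.symm).trans
        (QuotientGroup.quotientMulEquivOfEq hMb.symm))).2 hS

end Cfsg.Agent.H60.SmallOrder
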