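import Cfsg.Agent.H60.Basic

/-!
A group generated by conjugates of an abelian Y acting quadratically on a normal subgroup A, with N(Y) the only
maximal overgroup of Y: products of two noncommuting elements from conjugates of Y fix nothing outside Y ∩ Z.
-/

set_option autoImplicit false
set_option linter.style.haveILetI false

namespace Cfsg.Agent.H60

open Subgroup
open scoped commutatorElement

variable {L : Type*} [Group L]

/-- The standing hypotheses. -/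
structure QuadSetup (Y A : Subgroup L) : Prop where
  comm : ∀ a ∈ Y, ∀ b ∈ Y, a * b = b * a
  normal : A.Normal
  gen : Subgroup.normalClosure (Y : Set L) = ⊤
  ne_top : normalizer (Y : Set L) ≠ ⊤
  maxi : ∀ X : Subgroup L, Y ≤ X → X ≠ ⊤ → X ≤ normalizer (Y : Set L)
  le_norm : A ≤ normalizer (Y : Set L)
  cover : A = Subgroup.normalClosure ((Y ⊓ A : Subgroup L) : Set L)

namespace QuadSetup

variable {Y A : Subgroup L}

/-- The fixed part `Y ∩ A ∩ Z(L)`. -/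
abbrev fixPart (Y A : Subgroup L) : Subgroup L := Y ⊓ A ⊓ center L

theorem fix_central {d : L} (hd : d ∈ fixPart Y A) (l : L) : l * d = d * l :=
  Subgroup.mem_center_iff.1 hd.2 l

theorem mem_fix_of_central (hS : QuadSetup Y A) {g b : L} (hb : b ∈ cj Y g) (hbA : b ∈ A)
    (hc : b ∈ center L) : b ∈ fixPart Y A := by
  rw [mem_cj] at hb
  have h1 : g⁻¹ * b * g = b := by
    rw [mul_assoc, ← Subgroup.mem_center_iff.1 hc g, inv_mul_cancel_left]
  exact ⟨⟨h1 ▸ hb, hbA⟩, hc⟩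

theorem sup_eq_top (hS : QuadSetup Y A) {u g : L} (hu : u ∉ normalizer (cj Y g : Set L)) :
    Subgroup.zpowers u ⊔ cj Y g = ⊤ := by
  by_contra h
  apply hu
  have h1 : Y ≤ cj (Subgroup.zpowers u ⊔ cj Y g) g⁻¹ := by
    conv_lhs => rw [← cj_one Y, ← inv_mul_cancel g, ← cj_cj]
    exact cj_mono le_sup_right _
  have h2 : cj (Subgroup.zpowers u ⊔ cj Y g) g⁻¹ ≠ ⊤ := by
    intro ht
    apply h
    rw [← cj_one (Subgroup.zpowers u ⊔ cj Y g), ← mul_inv_cancel g, ← cj_cj, ht]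
    exact Subgroup.map_top_of_surjective _ (MulAut.conj g).surjective
  have h3 := cj_mono (hS.maxi _ h1 h2) g
  rw [cj_cj, mul_inv_cancel, cj_one, cj_normalizer] at h3
  exact h3 (le_sup_left (a := Subgroup.zpowers u) (Subgroup.mem_zpowers u))

theorem cj_comm (hS : QuadSetup Y A) {g a b : L} (ha : a ∈ cj Y g) (hb : b ∈ cj Y g) :
    a * b = b * a := by
  obtain ⟨a', ha', rfl⟩ := ha
  obtain ⟨b', hb', rfl⟩ := hb
  rw [← map_mul, ← map_mul, hS.comm a' ha' b' hb']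

theorem le_norm_cj (hS : QuadSetup Y A) (g : L) : A ≤ normalizer (cj Y g : Set L) := by
  rw [← cj_normalizer, le_cj_iff]
  exact le_trans (cj_le_iff _ |>.2 (fun x hx => mem_cj.2 (by simpa [mul_assoc] using hS.normal.conj_mem x hx g⁻¹))) hS.le_norm

theorem comm_mem (hS : QuadSetup Y A) {g y a : L} (hy : y ∈ cj Y g) (ha : a ∈ A) :
    ⁅y, a⁆ ∈ cj Y g ⊓ A := by
  rw [commutatorElement_def]
  refine ⟨?_, A.mul_mem (hS.normal.conj_mem a ha y) (A.inv_mem ha)⟩
  rw [mul_assoc, mul_assoc]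
  refine (cj Y g).mul_mem hy ?_
  rw [← mul_assoc]
  exact (mem_normalizer_iff.1 (hS.le_norm_cj g ha) _).1 ((cj Y g).inv_mem hy)

/-- An element of one conjugate commuting with `u` modulo the fixed part is fixed. -/
theorem central_mod (hS : QuadSetup Y A) {g u b : L} (hu : u ∉ normalizer (cj Y g : Set L))
    (hb : b ∈ cj Y g ⊓ A) (hbu : ⁅b, u⁆ ∈ fixPart Y A) : b ∈ fixPart Y A := by
  have hone : ∀ y ∈ cj Y g, ⁅b, y⁆ = 1 := fun y hy =>
    commutatorElement_eq_one_iff_mul_comm.2 (hS.cj_comm hb.1 hy)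
  let E : Subgroup L :=
    { carrier := {l | ⁅b, l⁆ ∈ fixPart Y A}
      one_mem' := by show ⁅b, (1 : L)⁆ ∈ fixPart Y A; simp
      mul_mem' := fun {x y} hx hy => by
        show ⁅b, x * y⁆ ∈ fixPart Y A
        have e : ⁅b, x * y⁆ = ⁅b, x⁆ * (x * ⁅b, y⁆ * x⁻¹) := by simp only [commutatorElement_def]; group
        rw [e, fix_central hy x, mul_inv_cancel_right]
        exact mul_mem hx hy
      inv_mem' := fun {x} hx => by
        show ⁅b, x⁻¹⁆ ∈ fixPart Y A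
        have e : ⁅b, x⁻¹⁆ = x⁻¹ * ⁅b, x⁆⁻¹ * x := by simp only [commutatorElement_def]; group
        rw [e, fix_central (inv_mem hx) x⁻¹, inv_mul_cancel_right]
        exact inv_mem hx }
  have hE : ∀ l, ⁅b, l⁆ ∈ fixPart Y A := by
    have : (⊤ : Subgroup L) ≤ E := by
      rw [← hS.sup_eq_top hu]
      refine sup_le (by rwa [Subgroup.zpowers_le]) fun y hy => ?_
      show ⁅b, y⁆ ∈ fixPart Y A
      rw [hone y hy]; exact one_mem _
    exact fun l => this trivial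
  let φ : L →* L :=
    { toFun := fun l => ⁅b, l⁆
      map_one' := by simp
      map_mul' := fun x y => by
        have e : ⁅b, x * y⁆ = ⁅b, x⁆ * (x * ⁅b, y⁆ * x⁻¹) := by simp only [commutatorElement_def]; group
        rw [e, fix_central (hE y) x, mul_inv_cancel_right] }
  have hK : φ.ker = ⊤ := by
    refine top_le_iff.1 (hS.gen ▸ ?_)
    refine Subgroup.normalClosure_le_normal fun y hy => ?_
    have h1 : g * y * g⁻¹ ∈ φ.ker := hone _ ⟨y, hy, rfl⟩
    have h2 := Subgroup.Normal.conj_mem inferInstance _ h1 g⁻¹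
    simpa [mul_assoc] using h2
  refine hS.mem_fix_of_central hb.1 hb.2 (Subgroup.mem_center_iff.2 fun l => ?_)
  have : l ∈ φ.ker := hK ▸ trivial
  exact (commutatorElement_eq_one_iff_mul_comm.1 this).symm

theorem inter_fix (hS : QuadSetup Y A) {g h u : L} (hu : u ∈ cj Y g)
    (hun : u ∉ normalizer (cj Y h : Set L)) {b : L} (hb : b ∈ cj Y g) (hb' : b ∈ cj Y h) (hbA : b ∈ A) :
    b ∈ fixPart Y A := by
  refine hS.mem_fix_of_central hb hbA (Subgroup.mem_center_iff.2 fun l => ?_)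
  have h1 : (⊤ : Subgroup L) ≤ centralizer ({b} : Set L) := by
    rw [← hS.sup_eq_top hun]
    refine sup_le ?_ fun y hy => ?_
    · rw [Subgroup.zpowers_le, mem_centralizer_singleton_iff]; exact hS.cj_comm hu hb
    · rw [mem_centralizer_singleton_iff]; exact hS.cj_comm hy hb'
  exact mem_centralizer_singleton_iff.1 (h1 (Subgroup.mem_top l))

/-- Two conjugates meeting `A` cover it. -/
theorem cover_two (hS : QuadSetup Y A) {g h u : L} (hu : u ∈ cj Y g)
    (hun : u ∉ normalizer (cj Y h : Set L)) {a : L} (ha : a ∈ A) :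
    ∃ b ∈ cj Y g ⊓ A, ∃ c ∈ cj Y h ⊓ A, a = b * c := by
  set T := (cj Y g ⊓ A) ⊔ (cj Y h ⊓ A) with hT
  have hTA : T ≤ A := sup_le inf_le_right inf_le_right
  have hnorm : ∀ k : L, cj Y k ⊓ A ≤ T → cj Y k ≤ normalizer (T : Set L) := by
    intro k hk
    rw [le_normalizer_iff]
    intro y hy t ht
    have h1 := T.mul_mem (hk (hS.comm_mem hy (hTA ht))) ht
    simpa [commutatorElement_def, mul_assoc] using h1
  have hTn : T.Normal := by
    rw [← Subgroup.normalizer_eq_top_iff, ← top_le_iff, ← hS.sup_eq_top hun]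
    refine sup_le ?_ (hnorm h le_sup_right)
    rw [Subgroup.zpowers_le]; exact hnorm g le_sup_left hu
  have hAT : A ≤ T := by
    rw [hS.cover]
    refine Subgroup.normalClosure_le_normal fun x hx => ?_
    have h1 : g * x * g⁻¹ ∈ T :=
      le_sup_left (a := cj Y g ⊓ A) ⟨⟨x, hx.1, rfl⟩, hS.normal.conj_mem x hx.2 g⟩
    have h2 := hTn.conj_mem _ h1 g⁻¹
    simpa [mul_assoc] using h2
  have hnn : cj Y g ⊓ A ≤ normalizer ((cj Y h ⊓ A : Subgroup L) : Set L) :=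
    le_trans inf_le_right (le_normalizer_inf (hS.le_norm_cj h) Subgroup.le_normalizer)
  have h3 : a ∈ (cj Y g ⊓ A) ⊔ (cj Y h ⊓ A) := hAT ha
  rw [← SetLike.mem_coe, coe_mul_of_left_le_normalizer_right _ _ hnn] at h3
  obtain ⟨b, hb, c, hc, e⟩ := h3
  exact ⟨b, hb, c, hc, e.symm⟩

/-- `A` is abelian modulo the fixed part. -/
theorem comm_A (hS : QuadSetup Y A) {g h u : L} (hu : u ∈ cj Y g)
    (hun : u ∉ normalizer (cj Y h : Set L)) {a v : L} (ha : a ∈ A) (hv : v ∈ A) :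
    ⁅a, v⁆ ∈ fixPart Y A := by
  obtain ⟨b, hb, c, hc, rfl⟩ := hS.cover_two hu hun ha
  obtain ⟨b', hb', c', hc', rfl⟩ := hS.cover_two hu hun hv
  have hx : ∀ x ∈ cj Y g ⊓ A, ∀ y ∈ cj Y h ⊓ A, ⁅x, y⁆ ∈ fixPart Y A := by
    intro x hx y hy
    have h1 := hS.comm_mem hx.1 hy.2
    refine hS.inter_fix hu hun h1.1 ?_ h1.2
    have h2 := (cj Y h ⊓ A).inv_mem (hS.comm_mem hy.1 hx.2)
    rw [commutatorElement_inv] at h2
    exact h2.1
  have e1 : ⁅b, c'⁆ ∈ fixPart Y A := hx b hb c' hc'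
  have e2 : ⁅c, b'⁆ ∈ fixPart Y A := by
    rw [← commutatorElement_inv]; exact inv_mem (hx b' hb' c hc)
  have hbb : ⁅b, b'⁆ = 1 := commutatorElement_eq_one_iff_mul_comm.2 (hS.cj_comm hb.1 hb'.1)
  have hcc : ⁅c, c'⁆ = 1 := commutatorElement_eq_one_iff_mul_comm.2 (hS.cj_comm hc.1 hc'.1)
  have e : ⁅b * c, b' * c'⁆ =
      b * (⁅c, b'⁆ * (b' * ⁅c, c'⁆ * b'⁻¹)) * b⁻¹ * (⁅b, b'⁆ * (b' * ⁅b, c'⁆ * b'⁻¹)) := by
    simp only [commutatorElement_def]; group
  rw [e, hbb, hcc, mul_one, mul_inv_cancel, mul_one, one_mul, fix_central e1 b', mul_inv_cancel_right,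
    fix_central e2 b, mul_inv_cancel_right]
  exact mul_mem e2 e1

/-- Main lemma: `u u' a` fixes nothing of `A` outside the fixed part. -/
theorem fixed_free (hS : QuadSetup Y A) {g h u u' a x v : L} (hu : u ∈ cj Y g) (hu' : u' ∈ cj Y h)
    (hun : u ∉ normalizer (cj Y h : Set L)) (hun' : u' ∉ normalizer (cj Y g : Set L)) (ha : a ∈ A)
    (hx : x = u * u' * a) (hv : v ∈ A) (hxv : ⁅x, v⁆ ∈ fixPart Y A) : v ∈ fixPart Y A := by
  have h1 : ⁅u * u', v⁆ ∈ fixPart Y A := by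
    have hav := hS.comm_A hu hun ha hv
    have e : ⁅x, v⁆ = (u * u') * ⁅a, v⁆ * (u * u')⁻¹ * ⁅u * u', v⁆ := by
      simp only [hx, commutatorElement_def]; group
    rw [fix_central hav (u * u'), mul_inv_cancel_right] at e
    have := mul_mem (inv_mem hav) (e ▸ hxv)
    rwa [inv_mul_cancel_left] at this
  have hc1 := hS.comm_mem hu' hv
  have hc2 := hS.comm_mem ((cj Y g).inv_mem hu) hv
  have e : ⁅u', v⁆ = ⁅u * u', v⁆ * ⁅u⁻¹, v⁆ := by
    have e0 : ⁅u', v⁆ = u⁻¹ * ⁅u * u', v⁆ * u * ⁅u⁻¹, v⁆ := by simp only [commutatorElement_def]; group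
    rwa [fix_central h1 u⁻¹, inv_mul_cancel_right] at e0
  have hDle : ∀ k : L, fixPart Y A ≤ cj Y k := fun k d hd => by
    rw [mem_cj, mul_assoc, ← fix_central hd k, inv_mul_cancel_left]; exact hd.1.1
  have hu'D : ⁅u', v⁆ ∈ fixPart Y A := by
    refine hS.inter_fix hu hun ?_ hc1.1 hc1.2
    rw [e]; exact mul_mem (hDle g h1) hc2.1
  have hu1 : ⁅u⁻¹, v⁆ ∈ fixPart Y A := by
    have := mul_mem (inv_mem h1) (e ▸ hu'D)
    rwa [inv_mul_cancel_left] at this
  have half : ∀ (g h u : L), u ∈ cj Y g → u ∉ normalizer (cj Y h : Set L) →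
      ⁅u, v⁆ ∈ fixPart Y A → v ∈ cj Y g ⊓ A := by
    intro g h u hu hun huv
    obtain ⟨b, hb, c, hc, rfl⟩ := hS.cover_two hu hun hv
    have h0 : ⁅u, b⁆ = 1 := commutatorElement_eq_one_iff_mul_comm.2 (hS.cj_comm hu hb.1)
    have h2 : ⁅u, b * c⁆ = ⁅u, b⁆ * (b * ⁅u, c⁆ * b⁻¹) := by simp only [commutatorElement_def]; group
    rw [h2, h0, one_mul] at huv
    have h3 : ⁅u, c⁆ ∈ fixPart Y A := by
      have h4 := fix_central huv b⁻¹
      have : b⁻¹ * (b * ⁅u, c⁆ * b⁻¹) * b = b * ⁅u, c⁆ * b⁻¹ := by rw [h4, inv_mul_cancel_right]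
      rwa [show ⁅u, c⁆ = b⁻¹ * (b * ⁅u, c⁆ * b⁻¹) * b by group, this]
    have hc' : c ∈ fixPart Y A := hS.central_mod hun hc (by rw [← commutatorElement_inv]; exact inv_mem h3)
    exact mul_mem hb ⟨hDle g hc', hc.2⟩
  have hg := half g h u⁻¹ ((cj Y g).inv_mem hu) (fun h => hun (by simpa using inv_mem h)) hu1
  have hh := half h g u' hu' hun' hu'D
  exact hS.inter_fix hu hun hg.1 hh.1 hv

/-- An element that is the square of two fixed-point-free elements with fixed-point-free product. -/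
theorem fixed_free_sq (hS : QuadSetup Y A) (hA : ∀ a ∈ A, ∀ v ∈ A, ⁅a, v⁆ ∈ fixPart Y A)
    {x i j a b v : L} (ha : a ∈ A) (hb : b ∈ A) (hi2 : x = i * i * a) (hj2 : x = j * j * b)
    (hi : ∀ w ∈ A, ⁅i, w⁆ ∈ fixPart Y A → w ∈ fixPart Y A)
    (hj : ∀ w ∈ A, ⁅j, w⁆ ∈ fixPart Y A → w ∈ fixPart Y A)
    (hij : ∀ w ∈ A, ⁅i * j, w⁆ ∈ fixPart Y A → w ∈ fixPart Y A)
    (hv : v ∈ A) (hxv : ⁅x, v⁆ ∈ fixPart Y A) : v ∈ fixPart Y A := by
  have key : ∀ k c : L, c ∈ A → x = k * k * c →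
      (∀ w ∈ A, ⁅k, w⁆ ∈ fixPart Y A → w ∈ fixPart Y A) → v * (k * v * k⁻¹) ∈ fixPart Y A := by
    intro k c hc hk hfree
    have hw : k * v * k⁻¹ ∈ A := hS.normal.conj_mem v hv k
    have hkk : ⁅k * k, v⁆ ∈ fixPart Y A := by
      have e : ⁅x, v⁆ = (k * k) * ⁅c, v⁆ * (k * k)⁻¹ * ⁅k * k, v⁆ := by
        simp only [hk, commutatorElement_def]; group
      rw [fix_central (hA c hc v hv) (k * k), mul_inv_cancel_right] at e
      have := mul_mem (inv_mem (hA c hc v hv)) (e ▸ hxv)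
      rwa [inv_mul_cancel_left] at this
    refine hfree _ (A.mul_mem hv hw) ?_
    have e : ⁅k, v * (k * v * k⁻¹)⁆ =
        (k * v * k⁻¹) * ⁅k * k, v⁆ * (k * v * k⁻¹)⁻¹ * ⁅k * v * k⁻¹, v⁆ *
          (v * ⁅v, k * v * k⁻¹⁆ * v⁻¹)⁻¹ * (v * ⁅v, k * v * k⁻¹⁆ * v⁻¹) := by
      simp only [commutatorElement_def]; group
    rw [e, fix_central hkk, mul_inv_cancel_right, inv_mul_cancel_right]
    exact mul_mem hkk (hA _ hw v hv)
  have h1 := key i a ha hi2 hi
  have h2 := key j b hb hj2 hj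
  refine hij v hv ?_
  -- i and j both invert v modulo the fixed part
  have hjv : j * v * j⁻¹ = v⁻¹ * (v * (j * v * j⁻¹)) := by group
  have hiv : i * v * i⁻¹ = v⁻¹ * (v * (i * v * i⁻¹)) := by group
  have e : ⁅i * j, v⁆ = (i * v * i⁻¹)⁻¹ * (i * (v * (j * v * j⁻¹)) * i⁻¹) * v⁻¹ := by
    simp only [commutatorElement_def]; group
  rw [e, fix_central h2 i, mul_inv_cancel_right, hiv, mul_inv_rev, inv_inv, mul_assoc, mul_assoc,
    ← fix_central h2 v⁻¹, mul_inv_cancel_left]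
  exact mul_mem (inv_mem h1) h2

end QuadSetup

end Cfsg.Agent.H60
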