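import Cfsg.Agent.H60.QuadL

/-!
The fixed-point-free property read off the quotient by A.
-/

set_option autoImplicit false

namespace Cfsg.Agent.H60

open Subgroup
open scoped commutatorElement

/-- A product of two noncommuting elements killed by `p`. -/
def IsGoodProd {Q : Type*} [Group Q] (p : ℕ) (x : Q) : Prop :=
  ∃ u u' : Q, u ^ p = 1 ∧ u' ^ p = 1 ∧ u * u' ≠ u' * u ∧ x = u * u'

/-- Good, or a common square of two good elements with good product. -/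
def IsGoodElem {Q : Type*} [Group Q] (p : ℕ) (x : Q) : Prop :=
  IsGoodProd p x ∨
    ∃ i j : Q, i * i = x ∧ j * j = x ∧ IsGoodProd p i ∧ IsGoodProd p j ∧ IsGoodProd p (i * j)

theorem fixed_free_of_quot {L Q : Type*} [Group L] [Group Q] {Y A : Subgroup L} (hS : QuadSetup Y A)
    (p : ℕ) (φ : L →* Q) (hφ : Function.Surjective φ) (hker : φ.ker = A)
    (hp1 : ∀ u : Q, u ^ p = 1 → u ≠ 1 → ∃ g : Q, u ∈ cj (Y.map φ) g)
    (hp2 : ∀ u g : Q, u ^ p = 1 → u ∈ normalizer (cj (Y.map φ) g : Set Q) → u ∈ cj (Y.map φ) g)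
    {x v : L} (hx : IsGoodElem p (φ x)) (hv : v ∈ A) (hxv : ⁅x, v⁆ ∈ QuadSetup.fixPart Y A) :
    v ∈ QuadSetup.fixPart Y A := by
  have hcjmap : ∀ g : L, (cj Y g).map φ = cj (Y.map φ) (φ g) := fun g => by
    simp only [cj, Subgroup.map_map]
    congr 1
    ext y
    simp
  have hcomm : ∀ (g a b : Q), a ∈ cj (Y.map φ) g → b ∈ cj (Y.map φ) g → a * b = b * a := by
    rintro g a b ⟨_, ⟨a', ha, rfl⟩, rfl⟩ ⟨_, ⟨b', hb, rfl⟩, rfl⟩
    rw [← map_mul, ← map_mul, ← map_mul, ← map_mul, hS.comm a' ha b' hb]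
  have lift : ∀ z : L, IsGoodProd p (φ z) → ∃ g h u u' a : L, u ∈ cj Y g ∧ u' ∈ cj Y h ∧
      u ∉ normalizer (cj Y h : Set L) ∧ u' ∉ normalizer (cj Y g : Set L) ∧ a ∈ A ∧ z = u * u' * a := by
    rintro z ⟨ub, ub', h1, h2, hne, he⟩
    obtain ⟨gb, hg⟩ := hp1 ub h1 (fun h => hne (by simp [h]))
    obtain ⟨gb', hg'⟩ := hp1 ub' h2 (fun h => hne (by simp [h]))
    obtain ⟨g, rfl⟩ := hφ gb
    obtain ⟨g', rfl⟩ := hφ gb'
    rw [← hcjmap] at hg hg'
    obtain ⟨u, hu, rfl⟩ := hg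
    obtain ⟨u', hu', rfl⟩ := hg'
    have key : ∀ a b k k' : L, a ∈ cj Y k → b ∈ cj Y k' → (φ a) ^ p = 1 →
        φ a * φ b ≠ φ b * φ a → a ∉ normalizer (cj Y k' : Set L) := by
      intro a b k k' ha hb hap hab hmem
      have hm : φ a ∈ normalizer (cj (Y.map φ) (φ k') : Set Q) := by
        rw [← hcjmap]
        exact Subgroup.le_normalizer_map φ ⟨a, hmem, rfl⟩
      exact hab (hcomm _ _ _ (hp2 _ _ hap hm) (hcjmap k' ▸ ⟨b, hb, rfl⟩))
    refine ⟨g, g', u, u', (u * u')⁻¹ * z, hu, hu', key u u' g g' hu hu' h1 hne,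
      key u' u g' g hu' hu h2 (fun h => hne h.symm), ?_, by group⟩
    rw [← hker, MonoidHom.mem_ker, map_mul, map_inv, map_mul, he, inv_mul_cancel]
  have free : ∀ z : L, IsGoodProd p (φ z) → ∀ w ∈ A, ⁅z, w⁆ ∈ QuadSetup.fixPart Y A →
      w ∈ QuadSetup.fixPart Y A := by
    intro z hz w hw hzw
    obtain ⟨g, h, u, u', a, hu, hu', hun, hun', ha, he⟩ := lift z hz
    exact hS.fixed_free hu hu' hun hun' ha he hw hzw
  rcases hx with hx | ⟨ib, jb, hi, hj, gi, gj, gij⟩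
  · exact free x hx v hv hxv
  · obtain ⟨i, rfl⟩ := hφ ib
    obtain ⟨j, rfl⟩ := hφ jb
    obtain ⟨g, h, u, u', a, hu, hu', hun, hun', -, -⟩ := lift i gi
    refine hS.fixed_free_sq (fun a ha w hw => hS.comm_A hu hun ha hw)
      (x := x) (i := i) (j := j) (a := (i * i)⁻¹ * x) (b := (j * j)⁻¹ * x) ?_ ?_ (by group) (by group)
      (free i gi) (free j gj) (free (i * j) (by rwa [map_mul])) hv hxv
    · rw [← hker, MonoidHom.mem_ker, map_mul, map_inv, map_mul, hi, inv_mul_cancel]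
    · rw [← hker, MonoidHom.mem_ker, map_mul, map_inv, map_mul, hj, inv_mul_cancel]

end Cfsg.Agent.H60
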