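import Cfsg.Agent.H60.PClosedMin
import Cfsg.Agent.S4503

/-!
# Simple groups of order less than `p ^ 3`

The Sylow subgroups of order `p` are self-centralizing and few in number.
-/

set_option autoImplicit false
set_option linter.style.haveILetI false

open Subgroup Cfsg

namespace Cfsg.Agent.H60.SmallOrder

universe u

variable {p : ℕ} [hp : Fact p.Prime] {G : Type u} [Group G] [Finite G]

/-- The numerical invariants of a Sylow subgroup of order `p`. -/
theorem exists_numbers [IsSimpleGroup G] (hG : ¬ IsMulCommutative G) (P : Sylow p G)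
    (hP : Nat.card P = p) :
    ∃ c n k : ℕ, 0 < c ∧
      0 < (centralizer ((P : Subgroup G) : Set G)).relIndex
        (normalizer ((P : Subgroup G) : Set G)) ∧
      Nat.card (centralizer ((P : Subgroup G) : Set G)) = p * c ∧ n = Nat.card (Sylow p G) ∧
      n = 1 + k * p ∧ 0 < k ∧
      Nat.card G = p * (c * (centralizer ((P : Subgroup G) : Set G)).relIndex
        (normalizer ((P : Subgroup G) : Set G)) * n) := by
  classical
  letI : Fintype G := Fintype.ofFinite G
  have hPC : (P : Subgroup G) ≤ centralizer ((P : Subgroup G) : Set G) := by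
    haveI := H86.Abelian.isMulCommutative_sylow P hP
    exact Subgroup.le_centralizer (P : Subgroup G)
  have hCN : centralizer ((P : Subgroup G) : Set G) ≤ normalizer ((P : Subgroup G) : Set G) :=
    Subgroup.centralizer_le_normalizer _
  obtain ⟨c, hc⟩ := hP ▸ Subgroup.card_dvd_of_le hPC
  have hn0 : 1 ≤ Nat.card (Sylow p G) := Nat.card_pos
  obtain ⟨k, hk⟩ := (Nat.modEq_iff_dvd' hn0).1 (card_sylow_modEq_one p G).symm
  refine ⟨c, _, k, Nat.pos_of_ne_zero fun h => ?_,
    Nat.pos_of_ne_zero Subgroup.index_ne_zero_of_finite, hc, rfl, by rw [mul_comm k p]; omega,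
    Nat.pos_of_ne_zero fun h => ?_, ?_⟩
  · rw [h, mul_zero] at hc; exact Nat.card_pos.ne' hc
  · haveI : Subsingleton (Sylow p G) :=
      (Nat.card_eq_one_iff_unique.1 (by rw [h, mul_zero] at hk; omega)).1
    rcases (P.normal_of_subsingleton).eq_bot_or_eq_top with h1 | h1
    · rw [h1, Subgroup.card_bot] at hP; exact hp.out.one_lt.ne hP
    · rw [h1, Subgroup.card_top] at hP
      haveI : IsCyclic G := isCyclic_of_prime_card hP
      exact hG IsCyclic.isMulCommutative
  · rw [P.card_eq_index_normalizer]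
    show Nat.card G = p * (c * (centralizer ((P : Subgroup G) : Set G)).relIndex
      (normalizer ((P : Subgroup G) : Set G)) * (normalizer ((P : Subgroup G) : Set G)).index)
    have h1 := (Subgroup.card_mul_index (normalizer ((P : Subgroup G) : Set G))).symm
    have h2 : Nat.card (normalizer ((P : Subgroup G) : Set G)) =
        p * c * (centralizer ((P : Subgroup G) : Set G)).relIndex
          (normalizer ((P : Subgroup G) : Set G)) := by
      rw [← Subgroup.card_mul_index ((centralizer ((P : Subgroup G) : Set G)).subgroupOf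
        (normalizer ((P : Subgroup G) : Set G))), Subgroup.relIndex,
        Nat.card_congr (Subgroup.subgroupOfEquivOfLe hCN).toEquiv, hc]
    rw [h2] at h1
    refine h1.trans ?_
    ring

/-- With `p + 1` Sylow subgroups of order `p`, these are self-centralizing. -/
theorem centralizer_card_of_succ [IsSimpleGroup G] (P : Sylow p G) (hP : Nat.card P = p) {c : ℕ}
    (hc : Nat.card (centralizer ((P : Subgroup G) : Set G)) = p * c)
    (hpc : ¬ p ∣ c) (hn : Nat.card (Sylow p G) = p + 1) : c = 1 := by
  classical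
  by_contra hc1
  obtain ⟨r, hr, hrc⟩ := Nat.exists_prime_and_dvd hc1
  haveI : Fact r.Prime := ⟨hr⟩
  have hrp : r ≠ p := fun e => hpc (e ▸ hrc)
  obtain ⟨⟨g, hgC⟩, hg⟩ := exists_prime_orderOf_dvd_card'
    (G := centralizer ((P : Subgroup G) : Set G)) r (hc ▸ dvd_mul_of_dvd_right hrc p)
  rw [Subgroup.orderOf_mk] at hg
  have hfree : ∀ Q : Sylow p G, Q ≠ P → ∀ u ∈ (P : Subgroup G), u • Q = Q → u = 1 := by
    intro Q hQ u hu h
    by_contra hu1
    have hz : zpowers u = (P : Subgroup G) := by
      refine Subgroup.eq_of_le_of_card_ge (zpowers_le.2 hu) ?_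
      rw [hP, Nat.card_zpowers]
      have h1 : orderOf u ∣ p := by
        rw [← hP, ← Subgroup.orderOf_mk u hu]
        exact orderOf_dvd_natCard _
      rcases (Nat.dvd_prime hp.out).1 h1 with e | e
      · exact absurd (orderOf_eq_one_iff.1 e) hu1
      · rw [e]
    have hle : (P : Subgroup G) ≤ normalizer ((Q : Subgroup G) : Set G) :=
      hz ▸ zpowers_le.2 (Sylow.smul_eq_iff_mem_normalizer.1 h)
    have h2 := P.isPGroup'.inf_normalizer_sylow Q
    replace h2 : (P : Subgroup G) ⊓ normalizer ((Q : Subgroup G) : Set G) =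
        (P : Subgroup G) ⊓ (Q : Subgroup G) := h2
    rw [inf_eq_left.2 hle] at h2
    exact hQ (Sylow.ext (P.3 Q.isPGroup' (h2.symm ▸ inf_le_right)))
  have hgP : g • P = P := Sylow.smul_eq_iff_mem_normalizer.2
    (Subgroup.centralizer_le_normalizer _ hgC)
  have hall : ∀ Q : Sylow p G, g • Q = Q := by
    intro Q
    by_cases hQ : Q = P
    · rw [hQ]; exact hgP
    let f : ↥(P : Subgroup G) → {R : Sylow p G // R ≠ P} := fun u =>
      ⟨(u : G) • Q, fun h => hQ (by
        rw [show Q = (u : G)⁻¹ • P from eq_inv_smul_iff.2 h]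
        exact Sylow.smul_eq_iff_mem_normalizer.2
          (Subgroup.le_normalizer (inv_mem u.2)))⟩
    have hf : Function.Injective f := fun u v h => by
      have h1 : ((v : G)⁻¹ * u) • Q = Q := by
        rw [mul_smul, inv_smul_eq_iff]; exact congrArg Subtype.val h
      exact Subtype.ext (inv_mul_eq_one.1 (hfree Q hQ _ (mul_mem (inv_mem v.2) u.2) h1)).symm
    have hle : Nat.card {R : Sylow p G // R ≠ P} ≤ Nat.card (P : Subgroup G) := by
      letI := Fintype.ofFinite (Sylow p G)
      rw [hP, Nat.card_eq_fintype_card, Fintype.card_subtype_compl, Fintype.card_subtype_eq,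
        ← Nat.card_eq_fintype_card, hn, Nat.add_sub_cancel]
    obtain ⟨u, hu⟩ := (hf.bijective_of_nat_card_le hle).2 ⟨g • Q, fun h => hQ (by
      rw [show Q = g⁻¹ • P from eq_inv_smul_iff.2 h, eq_comm, eq_inv_smul_iff]; exact hgP)⟩
    have hu' : g • Q = (u : G) • Q := (congrArg Subtype.val hu).symm
    have hcom : Commute (u : G) g := Subgroup.mem_centralizer_iff.1 hgC _ u.2
    have hpow : ∀ i : ℕ, (g ^ i) • Q = ((u : G) ^ i) • Q := by
      intro i
      induction i with
      | zero => simp
      | succ i ih =>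
        rw [pow_succ', mul_smul, ih, ← mul_smul, ← (hcom.pow_left i).eq, mul_smul, hu',
          ← mul_smul, ← pow_succ]
    have h1 := hpow r
    rw [← hg, pow_orderOf_eq_one, one_smul, hg] at h1
    have h2 := hfree Q hQ _ (pow_mem u.2 r) h1.symm
    have h3 : (u : G) = 1 := by
      refine orderOf_eq_one_iff.1 (Nat.eq_one_of_dvd_coprimes
        ((Nat.coprime_primes hr hp.out).2 hrp) (orderOf_dvd_of_pow_eq_one h2) ?_)
      rw [Subgroup.orderOf_coe]
      exact (orderOf_dvd_natCard u).trans (dvd_of_eq hP)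
    rw [hu', h3, one_smul]
  have hker : g ∈ (MulAction.toPermHom G (Sylow p G)).ker := Equiv.ext hall
  rcases (MonoidHom.normal_ker (MulAction.toPermHom G (Sylow p G))).eq_bot_or_eq_top with h | h
  · rw [h, Subgroup.mem_bot] at hker
    rw [hker, orderOf_one] at hg
    exact hr.one_lt.ne hg
  · have : Subsingleton (Sylow p G) := ⟨fun A B => by
      obtain ⟨y, hy⟩ := MulAction.exists_smul_eq G A B
      have h2 : y ∈ (MulAction.toPermHom G (Sylow p G)).ker := h ▸ mem_top y
      rw [← hy]
      exact (Equiv.ext_iff.1 h2 A).symm⟩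
    rw [Nat.card_of_subsingleton P] at hn
    have := hp.out.two_le
    omega

set_option maxHeartbeats 1000000 in
/-- In a simple group of order less than `p ^ 3` a Sylow subgroup of order `p` is
self-centralizing. -/
theorem centralizer_card_eq_one [IsSimpleGroup G] (hG : ¬ IsMulCommutative G) (hp2 : p ≠ 2)
    (P : Sylow p G) (hP : Nat.card P = p) (hlt : Nat.card G < p ^ 3) {c : ℕ}
    (hc : Nat.card (centralizer ((P : Subgroup G) : Set G)) = p * c) :
    c = 1 ∧ 2 * Nat.card (Sylow p G) < (p + 1) * (p + 2) := by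
  classical
  letI : Fintype G := Fintype.ofFinite G
  obtain ⟨c', n, k, hc0, he0, hc', hn, hnk, hk0, hGQ⟩ := exists_numbers hG P hP
  have hcc : c' = c := Nat.eq_of_mul_eq_mul_left hp.out.pos (hc'.symm.trans hc)
  subst hcc
  obtain ⟨M, hM⟩ := BlockBasic.exists_isPModular hp.out
  obtain ⟨X, Y, εX, ε, hB, hdisj, hXc, hYc, hXv, hε, hYdeg, hag, hrel⟩ :=
    H86.Abelian.exists_structure P hP hM
  set e := (centralizer ((P : Subgroup G) : Set G)).relIndex
    (normalizer ((P : Subgroup G) : Set G)) with he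
  change X.card = e at hXc
  change Y.card = (p - 1) / e at hYc
  have hp3 : 3 ≤ p := by have := hp.out.two_le; omega
  have hQ : c' * e * n < p * p := by
    refine Nat.lt_of_mul_lt_mul_left (a := p) ?_
    rw [← hGQ, show p * (p * p) = p ^ 3 by ring]
    exact hlt
  have hcek : c' * e * k < p := by
    refine Nat.lt_of_mul_lt_mul_right (a := p) (lt_of_le_of_lt ?_ hQ)
    rw [hnk, mul_add, mul_assoc (c' * e)]
    exact Nat.le_add_left _ _
  have hsq : ¬ p ^ 2 ∣ Nat.card G := by
    intro h
    have h1 := (hp.out.pow_dvd_iff_le_factorization Nat.card_pos.ne').1 h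
    have h2 : p ^ (Nat.card G).factorization p = p ^ 1 := by
      rw [← P.card_eq_multiplicity, hP, pow_one]
    have := Nat.pow_right_injective hp.out.two_le h2
    omega
  have hce : c' * e ≤ c' * e * k := Nat.le_mul_of_pos_right _ hk0
  have hec1 : e ≤ c' * e := Nat.le_mul_of_pos_left _ hc0
  have hec2 : c' ≤ c' * e := Nat.le_mul_of_pos_right _ he0
  have hpc : ¬ p ∣ c' := fun h => by have := Nat.le_of_dvd hc0 h; omega
  rw [← hn]
  rcases Nat.lt_or_ge k 2 with hk | hk
  · have hk1 : k = 1 := by omega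
    subst hk1
    refine ⟨centralizer_card_of_succ P hP hc hpc (by rw [← hn, hnk, one_mul, add_comm]), ?_⟩
    rw [hnk]; nlinarith
  have h2ce : 2 * (c' * e) < p := by
    have : c' * e * 2 ≤ c' * e * k := Nat.mul_le_mul_left _ hk
    omega
  have cast_inj : ∀ {a b : ℕ}, a < p → b < p → (a : ZMod p) = b → a = b := by
    intro a b ha hb h
    have := congrArg ZMod.val h
    rwa [ZMod.val_cast_of_lt ha, ZMod.val_cast_of_lt hb] at this
  have hnZ : (n : ZMod p) = 1 := by rw [hnk]; push_cast; rw [ZMod.natCast_self]; ring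
  set d : IrrCharacter G → ℕ := fun χ => charDegree (χ : G → ℂ) with hd
  have hd1 : ∀ χ : IrrCharacter G, (χ : G → ℂ) 1 = (d χ : ℂ) := fun χ =>
    BlockBasic.apply_one_eq_charDegree χ
  have hdeg : ∀ χ : IrrCharacter G, χ ≠ H36.SelfCentral.triv G → 2 ≤ d χ := by
    intro χ hχ
    obtain ⟨d', h2, h1, -⟩ := H36.SelfCentral.exists_degree_two_le hG hχ
    have : d χ = d' := by exact_mod_cast (hd1 χ).symm.trans h1
    omega
  have hdvd : ∀ χ : IrrCharacter G, (d χ : ZMod p) ≠ 0 → d χ ∣ c' * e * n := by
    intro χ h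
    refine (Nat.Coprime.dvd_of_dvd_mul_left ?_ (hGQ ▸ BlockBasic.charDegree_dvd χ))
    exact (hp.out.coprime_iff_not_dvd.2 fun hh => h
      ((ZMod.natCast_eq_zero_iff _ _).2 hh)).symm
  have hone : ∀ {a : ℕ}, 0 < a → a < p → ((a : ℕ) : ZMod p) ≠ 0 := fun ha hap h => by
    have := Nat.le_of_dvd ha ((ZMod.natCast_eq_zero_iff _ _).1 h)
    omega
  have ht1 : d (H36.SelfCentral.triv G) = 1 := by
    simp [hd, charDegree, H36.SelfCentral.triv]
  have htX : H36.SelfCentral.triv G ∈ X ∧ εX (H36.SelfCentral.triv G) = 1 := by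
    have hmem : H36.SelfCentral.triv G ∈ principalBlock M G := fun g =>
      ⟨0, 1, M.zero_mem, fun h => hM.2.1.ne_top ((Ideal.eq_top_iff_one M).2 h),
        by simp [H36.SelfCentral.triv]⟩
    rcases (hB _).1 hmem with h | h
    · refine ⟨h, ?_⟩
      obtain ⟨h1, h2, -⟩ := hXv _ h
      rcases h1 with e1 | e1
      · exact e1
      · exfalso
        change ((d (H36.SelfCentral.triv G) : ℕ) : ℤ) ≡ _ [ZMOD p] at h2
        rw [ht1, e1, ← ZMod.intCast_eq_intCast_iff] at h2
        push_cast at h2
        refine hone (a := 2) (by norm_num) (by omega) ?_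
        push_cast
        linear_combination h2
    · exfalso
      have h2 := hYdeg _ h
      change ((d (H36.SelfCentral.triv G) : ℕ) : ℤ) ≡ _ [ZMOD p] at h2
      rw [ht1, ← ZMod.intCast_eq_intCast_iff] at h2
      push_cast at h2
      rcases hε with e1 | e1 <;> rw [e1] at h2 <;> push_cast at h2
      · have he1 : e = 1 := cast_inj (by omega) hp.out.one_lt
          (by push_cast; linear_combination -h2)
        rw [he1, Nat.div_one] at hYc
        obtain ⟨θ, hθ, hne⟩ := Finset.exists_mem_ne (show 1 < Y.card by omega)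
          (H36.SelfCentral.triv G)
        have := hag θ hθ _ h 1 (by rw [orderOf_one]; exact hp.out.not_dvd_one)
        rw [hd1, hd1, ht1] at this
        have h3 := hdeg θ hne
        have : d θ = 1 := by exact_mod_cast this
        omega
      · refine hone (a := e + 1) (by omega) (by omega) ?_
        push_cast
        linear_combination h2
  have hX : ∀ χ ∈ X, χ ≠ H36.SelfCentral.triv G →
      εX χ = 1 ∧ d χ = n ∨ εX χ = -1 ∧ c' * e * (k + 1) + 1 = p := by
    intro χ hχ hne
    obtain ⟨h1, h2, -⟩ := hXv χ hχ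
    change ((d χ : ℕ) : ℤ) ≡ _ [ZMOD p] at h2
    rw [← ZMod.intCast_eq_intCast_iff] at h2
    push_cast at h2
    have h2d := hdeg χ hne
    rcases h1 with e1 | e1 <;> rw [e1] at h2 <;> push_cast at h2
    · left
      refine ⟨e1, ?_⟩
      obtain ⟨w, hw⟩ := hdvd χ (by rw [h2]; exact one_ne_zero)
      have hdp : p + 1 ≤ d χ := by
        have h4 : ((d χ - 1 : ℕ) : ZMod p) = 0 := by
          rw [Nat.cast_sub (by omega)]; push_cast; rw [h2, sub_self]
        have := Nat.le_of_dvd (by omega) ((ZMod.natCast_eq_zero_iff _ _).1 h4)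
        omega
      have hwlt : w < p := by
        by_contra hge
        have := Nat.mul_le_mul hdp (not_lt.1 hge)
        nlinarith
      have hwZ : (w : ZMod p) = ((c' * e : ℕ) : ZMod p) := by
        have h5 := congrArg (fun x : ℕ => (x : ZMod p)) hw
        push_cast at h5 ⊢
        rw [h2, hnZ, one_mul, mul_one] at h5
        exact h5.symm
      rw [cast_inj hwlt (by omega) hwZ, mul_comm (d χ)] at hw
      exact (Nat.eq_of_mul_eq_mul_left (by omega) hw).symm
    · right
      refine ⟨e1, ?_⟩
      obtain ⟨w, hw⟩ := hdvd χ (by rw [h2]; exact neg_ne_zero.2 one_ne_zero)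
      obtain ⟨u, hu⟩ : p ∣ d χ + 1 := (ZMod.natCast_eq_zero_iff _ _).1
        (by push_cast; rw [h2, neg_add_cancel])
      obtain ⟨v, hv⟩ : p ∣ w + c' * e := (ZMod.natCast_eq_zero_iff _ _).1 (by
        have h5 := congrArg (fun x : ℕ => (x : ZMod p)) hw
        push_cast at h5 ⊢
        rw [h2, hnZ, mul_one] at h5
        rw [h5]; ring)
      have hu0 : 0 < u := Nat.pos_of_ne_zero fun h => by rw [h, mul_zero] at hu; omega
      have hv0 : 0 < v := Nat.pos_of_ne_zero fun h => by rw [h, mul_zero] at hv; omega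
      have hdp : p ≤ d χ + 1 := hu ▸ Nat.le_mul_of_pos_right _ hu0
      have hv1 : v = 1 := by
        by_contra hv1
        have hwp : p * 2 ≤ w + c' * e := hv ▸ Nat.mul_le_mul_left _ (by omega)
        have h6 : (p - 1) * (p + 2) ≤ d χ * w := Nat.mul_le_mul (by omega) (by omega)
        rw [← hw] at h6
        obtain ⟨j, rfl⟩ : ∃ j, p = j + 1 := ⟨p - 1, by omega⟩
        rw [Nat.add_sub_cancel] at h6
        nlinarith
      subst hv1
      have hwe : (w : ℤ) = p - c' * e := by
        have : (w : ℤ) + c' * e = p := by exact_mod_cast (mul_one p ▸ hv)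
        linarith
      have huZ : (d χ : ℤ) + 1 = p * u := by exact_mod_cast hu
      have hQZ : (c' : ℤ) * e * (1 + k * p) = d χ * w := by rw [hnk] at hw; exact_mod_cast hw
      have key : (p : ℤ) * (u * (p - c' * e)) = p * (c' * e * k + 1) := by
        rw [show (d χ : ℤ) = p * u - 1 by linarith, hwe] at hQZ
        linear_combination -hQZ
      have key' := mul_left_cancel₀ (by exact_mod_cast hp.out.ne_zero) key
      have hu1 : u = 1 := by
        by_contra hu1
        have h7 : (2 : ℤ) ≤ u := by exact_mod_cast (by omega : 2 ≤ u)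
        have h8 : (c' : ℤ) * e * k < p := by exact_mod_cast hcek
        have h9 : 2 * ((c' : ℤ) * e) < p := by exact_mod_cast h2ce
        nlinarith
      rw [hu1, Nat.cast_one, one_mul] at key'
      exact_mod_cast (by push_cast; linarith : ((c' * e * (k + 1) + 1 : ℕ) : ℤ) = (p : ℕ))
  obtain ⟨θ, hθ⟩ : Y.Nonempty := Finset.card_pos.1 (by
    rw [hYc]; exact Nat.div_pos (by omega) he0)
  have hθne : θ ≠ H36.SelfCentral.triv G := fun h =>
    Finset.disjoint_left.1 hdisj htX.1 (h ▸ hθ)
  have h2θ := hdeg θ hθne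
  have hrel1 := hrel θ hθ 1 (by rw [orderOf_one]; exact hp.out.not_dvd_one)
  rw [← Finset.add_sum_erase X _ htX.1, htX.2, hd1] at hrel1
  simp only [hd1, ht1] at hrel1
  have hrelZ : ε * (d θ : ℤ) =
      1 + ∑ χ ∈ X.erase (H36.SelfCentral.triv G), εX χ * (d χ : ℤ) := by
    have : ((ε * (d θ : ℤ) : ℤ) : ℂ) =
        ((1 + ∑ χ ∈ X.erase (H36.SelfCentral.triv G), εX χ * (d χ : ℤ) : ℤ) : ℂ) := by
      push_cast
      rw [hrel1]; simp
    exact_mod_cast this
  have hcard : (X.erase (H36.SelfCentral.triv G)).card = e - 1 := by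
    rw [Finset.card_erase_of_mem htX.1, hXc]
  have he2 : 2 ≤ e := by
    by_contra h
    have h0 : X.erase (H36.SelfCentral.triv G) = ∅ := Finset.card_eq_zero.1 (by omega)
    rw [h0, Finset.sum_empty, add_zero] at hrelZ
    rcases hε with e1 | e1 <;> rw [e1] at hrelZ <;> omega
  have hk2 : 2 * n < (p + 1) * (p + 2) := by
    have : 2 * k ≤ c' * e * k := Nat.mul_le_mul_right _ (he2.trans hec1)
    have h3 : 2 * (k * p) ≤ p * p := by
      rw [← mul_assoc]; exact Nat.mul_le_mul_right _ (by omega)
    rw [hnk]; nlinarith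
  refine ⟨?_, hk2⟩
  have hd2 := hYdeg θ hθ
  change ((d θ : ℕ) : ℤ) ≡ ε * (e : ℤ) [ZMOD p] at hd2
  rw [← ZMod.intCast_eq_intCast_iff] at hd2
  push_cast at hd2
  have hθ0 : (d θ : ZMod p) ≠ 0 := by
    rw [hd2]
    rcases hε with e1 | e1 <;> simp [e1, hone he0 (by omega : e < p)]
  obtain ⟨w, hw⟩ := hdvd θ hθ0
  rcases hε with e1 | e1 <;> rw [e1] at hd2 hrelZ <;> push_cast at hd2
  · rw [one_mul] at hd2 hrelZ
    rcases Nat.lt_or_ge (d θ) p with hlt' | hge
    · have hde : d θ = e := cast_inj hlt' (by omega) hd2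
      have h4 := S4503.result (G := G) p hp.out
        (hGQ ▸ dvd_mul_right _ _) hsq
        (fun H hH hcH => by
          rcases hH.eq_bot_or_eq_top with h | h
          · rw [h, Subgroup.card_bot] at hcH; exact hp.out.one_lt.ne hcH
          · rw [h, Subgroup.card_top] at hcH
            haveI : IsCyclic G := isCyclic_of_prime_card hcH
            exact hG IsCyclic.isMulCommutative)
        (θ : G → ℂ) (CharBasic.IsIrr.isCharacter θ.2)
        (fun g hg => H36.SelfCentral.ker_trivial hθne hg)
      change p ≤ 2 * d θ + 1 at h4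
      rw [hde] at h4
      have hce1 : c' * e = 1 * e := by rw [one_mul]; omega
      exact Nat.eq_of_mul_eq_mul_right he0 hce1
    · exfalso
      have hdp : p + 1 ≤ d θ := by
        rcases hge.eq_or_lt with h | h
        · rw [← h, ZMod.natCast_self] at hd2
          exact absurd hd2.symm (hone he0 (by omega))
        · omega
      have hwlt : w < p := by
        by_contra hgew
        have := Nat.mul_le_mul hdp (not_lt.1 hgew)
        nlinarith
      have hwc : w = c' := by
        refine cast_inj hwlt (by omega) ?_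
        have h5 := congrArg (fun x : ℕ => (x : ZMod p)) hw
        push_cast at h5
        rw [hd2, hnZ, mul_one] at h5
        exact mul_left_cancel₀ (hone he0 (by omega : e < p)) (by rw [← h5]; ring)
      rw [hwc] at hw
      have hdn : d θ = e * n := Nat.eq_of_mul_eq_mul_right hc0 (by rw [← hw]; ring)
      have hsum : ∑ χ ∈ X.erase (H36.SelfCentral.triv G), εX χ * (d χ : ℤ) ≤
          ((e - 1 : ℕ) : ℤ) * n := by
        rw [← hcard, ← nsmul_eq_mul]
        refine Finset.sum_le_card_nsmul _ _ _ fun χ hχ => ?_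
        rcases hX χ (Finset.mem_of_mem_erase hχ) (Finset.ne_of_mem_erase hχ) with
          ⟨h1, h2⟩ | ⟨h1, -⟩
        · rw [h1, h2, one_mul]
        · rw [h1]; omega
      rw [hdn] at hrelZ
      push_cast [Nat.cast_sub (by omega : 1 ≤ e)] at hsum hrelZ
      have hn2 : (2 : ℤ) ≤ n := by
        have : 2 ≤ n := by rw [hnk]; nlinarith
        exact_mod_cast this
      nlinarith
  · have hex : c' * e * (k + 1) + 1 = p := by
      by_contra hne
      have hpos : (0 : ℤ) ≤ ∑ χ ∈ X.erase (H36.SelfCentral.triv G), εX χ * (d χ : ℤ) :=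
        Finset.sum_nonneg fun χ hχ => by
          rcases hX χ (Finset.mem_of_mem_erase hχ) (Finset.ne_of_mem_erase hχ) with
            ⟨h1, -⟩ | ⟨-, h2⟩
          · rw [h1, one_mul]; positivity
          · exact absurd h2 hne
      omega
    obtain ⟨v, hv⟩ : p ∣ d θ + e := (ZMod.natCast_eq_zero_iff _ _).1
      (by push_cast; rw [hd2]; ring)
    obtain ⟨v', hv'⟩ : p ∣ w + c' := (ZMod.natCast_eq_zero_iff _ _).1 (by
      have h5 := congrArg (fun x : ℕ => (x : ZMod p)) hw
      push_cast at h5 ⊢
      rw [hd2, hnZ, mul_one] at h5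
      refine (mul_eq_zero.1 (?_ : (e : ZMod p) * (w + c') = 0)).resolve_left
        (hone he0 (by omega))
      linear_combination h5)
    have hv0 : 0 < v := Nat.pos_of_ne_zero fun h => by rw [h, mul_zero] at hv; omega
    have hv0' : 0 < v' := Nat.pos_of_ne_zero fun h => by rw [h, mul_zero] at hv'; omega
    have hQeq : c' * e * n = (p - 1) * (p - c' * e) := by
      have h1 : p - 1 = c' * e * (k + 1) := by omega
      have h2 : p - c' * e = c' * e * k + 1 := by rw [mul_add, mul_one] at hex; omega
      rw [h1, h2, hnk, ← hex]; ring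
    rw [hQeq] at hw
    have hlt : (p - 1) * (p - c' * e) < p * (p - c' * e) :=
      Nat.mul_lt_mul_of_pos_right (by omega) (by omega)
    have hv1 : v = 1 := by
      by_contra h
      have h1 : p * 2 ≤ d θ + e := hv ▸ Nat.mul_le_mul_left _ (by omega)
      have h2 : p ≤ w + c' := hv' ▸ Nat.le_mul_of_pos_right _ hv0'
      have h3 : p * (p - c' * e) ≤ d θ * w := Nat.mul_le_mul (by omega) (by omega)
      omega
    have hv1' : v' = 1 := by
      by_contra h
      have h1 : p * 2 ≤ w + c' := hv' ▸ Nat.mul_le_mul_left _ (by omega)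
      have h2 : p ≤ d θ + e := by rw [hv1, mul_one] at hv; omega
      have h3 : (p - c' * e) * p ≤ d θ * w := Nat.mul_le_mul (by omega) (by omega)
      rw [mul_comm (p - c' * e) p] at h3
      omega
    rw [hv1, mul_one] at hv
    rw [hv1', mul_one] at hv'
    have hwZ : ((p : ℤ) - 1) * (p - c' * e) = d θ * w := by
      have h1 : ((((p - 1) * (p - c' * e) : ℕ)) : ℤ) = ((d θ * w : ℕ) : ℤ) := by exact_mod_cast hw
      rw [Nat.cast_mul, Nat.cast_sub (by omega), Nat.cast_sub (by omega)] at h1
      push_cast at h1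
      exact h1
    rw [show (d θ : ℤ) = p - e by omega, show (w : ℤ) = p - c' by omega] at hwZ
    have key : (p : ℤ) * ((c' - 1) * (e - 1)) = 0 := by linear_combination -hwZ
    rcases mul_eq_zero.1 key with h | h
    · omega
    rcases mul_eq_zero.1 h with h | h <;> omega

end Cfsg.Agent.H60.SmallOrder
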