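import Cfsg.Agent.H60.SmallOrder
import Cfsg.Agent.Unitary.Order72

/-!
# Simple groups of order less than `p ^ 3`: reduction to self-centralizing Sylow subgroups
-/

set_option autoImplicit false
set_option linter.style.haveILetI false

open Subgroup Cfsg

namespace Cfsg.Agent.H60.SmallOrder

universe u

variable {p : ℕ} [hp : Fact p.Prime] {G : Type u} [Group G] [Finite G]

theorem not_solvable [IsSimpleGroup G] (hG : ¬ IsMulCommutative G) : ¬ Group.IsSolvable G := by
  intro h
  haveI := h
  exact hG ⟨⟨(IsSimpleGroup.comm_iff_isSolvable (G := G)).2 h⟩⟩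

/-- A nonabelian simple group of order less than `p ^ 3` has `p ≥ 5` and Sylow `p`-subgroups of
order `p`. -/
theorem five_le [IsSimpleGroup G] (hG : ¬ IsMulCommutative G) (hdvd : p ∣ Nat.card G)
    (hlt : Nat.card G < p ^ 3) : 5 ≤ p ∧ ∀ P : Sylow p G, Nat.card P = p := by
  classical
  have hcard : ∀ P : Sylow p G, Nat.card P = p := by
    intro P
    obtain ⟨a, ha⟩ := IsPGroup.iff_card.1 P.isPGroup'
    rcases a with _ | _ | a
    · have h1 := P.dvd_card_of_dvd_card hdvd
      change p ∣ Nat.card P at h1
      rw [ha, pow_zero] at h1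
      exact absurd (Nat.dvd_one.1 h1) hp.out.ne_one
    · rw [ha, zero_add, pow_one]
    exfalso
    have hne : Nat.card (Sylow p G) ≠ 1 := by
      intro h1
      haveI : Subsingleton (Sylow p G) := (Nat.card_eq_one_iff_unique.1 h1).1
      rcases (P.normal_of_subsingleton).eq_bot_or_eq_top with h | h
      · rw [h, Subgroup.card_bot] at ha
        exact (Nat.one_lt_pow (by omega) hp.out.one_lt).ne ha
      · refine not_solvable hG ?_
        haveI : Group.IsNilpotent G := (IsPGroup.of_card (n := a + 2) (p := p)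
          (by rw [← ha, h, Subgroup.card_top])).isNilpotent
        infer_instance
    have hn0 : 1 ≤ Nat.card (Sylow p G) := Nat.card_pos
    have hsyl : p + 1 ≤ Nat.card (Sylow p G) := by
      by_contra hlt'
      have := Nat.le_of_dvd (by omega)
        ((Nat.modEq_iff_dvd' hn0).1 (card_sylow_modEq_one p G).symm)
      omega
    have hbig : Nat.card P * (p + 1) ≤ Nat.card G := by
      calc Nat.card P * (p + 1) ≤ Nat.card P * Nat.card (Sylow p G) := Nat.mul_le_mul_left _ hsyl
        _ ≤ Nat.card (normalizer ((P : Subgroup G) : Set G)) * Nat.card (Sylow p G) :=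
          Nat.mul_le_mul_right _ (Subgroup.card_le_of_le Subgroup.le_normalizer)
        _ = Nat.card G := by
          rw [P.card_eq_index_normalizer]
          exact Subgroup.card_mul_index _
    rw [ha] at hbig
    have : p ^ 2 * p ≤ p ^ (a + 2) * (p + 1) :=
      Nat.mul_le_mul (Nat.pow_le_pow_right hp.out.pos (by omega)) (Nat.le_succ _)
    have h3 : p ^ 2 * p = p ^ 3 := by ring
    change p ^ (a + 1 + 1) * (p + 1) ≤ Nat.card G at hbig
    rw [show a + 1 + 1 = a + 2 from rfl] at hbig
    omega
  refine ⟨?_, hcard⟩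
  by_contra hp5
  obtain ⟨P⟩ : Nonempty (Sylow p G) := inferInstance
  obtain ⟨c, n, k, hc0, he0, -, hn, hnk, hk0, hGQ⟩ := exists_numbers hG P (hcard P)
  set e := (centralizer ((P : Subgroup G) : Set G)).relIndex
    (normalizer ((P : Subgroup G) : Set G))
  have hp23 : p = 2 ∨ p = 3 := by
    have h2 := hp.out.two_le
    have h4 : p ≠ 4 := fun h => by have := h ▸ hp.out; norm_num at this
    omega
  have hce : 0 < c * e := Nat.mul_pos hc0 he0
  have hkp : p ≤ k * p := Nat.le_mul_of_pos_left _ hk0
  rcases hp23 with rfl | rfl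
  · have h6 : Nat.card G ∣ 18 := by
      have h1 : 2 * (c * e * n) < 8 := by rw [← hGQ]; simpa using hlt
      have h2 : c * e * n = 3 := by
        have h3 : 1 * n ≤ c * e * n := Nat.mul_le_mul_right _ hce
        have hn3 : n = 3 := by omega
        rw [hn3] at h1 ⊢
        omega
      rw [hGQ, h2]; norm_num
    exact not_solvable hG (Unitary.isSolvable_of_card_dvd_18 rfl h6)
  · have h1 : 3 * (c * e * n) < 27 := by rw [← hGQ]; simpa using hlt
    have h3 : 1 * n ≤ c * e * n := Nat.mul_le_mul_right _ hce
    have hn47 : n = 4 ∨ n = 7 := by omega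
    rcases hn47 with hn4 | hn7
    · have h4 : c * e * n = 4 ∨ c * e * n = 8 := by rw [hn4] at h1 ⊢; omega
      refine not_solvable hG (Unitary.isSolvable_of_card_dvd_24 rfl ?_)
      rcases h4 with h | h <;> rw [hGQ, h] <;> norm_num
    · have h21 : Nat.card G = 21 := by rw [hGQ]; rw [hn7] at h1 ⊢; omega
      haveI : Fact (Nat.Prime 7) := ⟨by norm_num⟩
      obtain ⟨S⟩ : Nonempty (Sylow 7 G) := inferInstance
      have hd : Nat.card (Sylow 7 G) ∣ 21 := h21 ▸ (S.card_dvd_index.trans (Subgroup.index_dvd_card _))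
      have hm := card_sylow_modEq_one 7 G
      have hle := Nat.le_of_dvd (by norm_num) hd
      have h1' : Nat.card (Sylow 7 G) = 1 := by
        rw [Nat.ModEq] at hm
        interval_cases hx : Nat.card (Sylow 7 G) <;> omega
      haveI : Subsingleton (Sylow 7 G) := (Nat.card_eq_one_iff_unique.1 h1').1
      have hS : Nat.card S = 7 := by
        rw [S.card_eq_multiplicity, h21, show (21 : ℕ) = 7 * 3 by norm_num,
          Nat.factorization_mul (by norm_num) (by norm_num), Finsupp.add_apply,
          Nat.Prime.factorization_self (by norm_num),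
          Nat.factorization_eq_zero_of_not_dvd (by norm_num : ¬ 7 ∣ 3)]
        norm_num
      rcases (S.normal_of_subsingleton).eq_bot_or_eq_top with h | h
      · rw [h, Subgroup.card_bot] at hS; omega
      · rw [h, Subgroup.card_top, h21] at hS; omega

/-- A nonabelian simple group of order less than `p ^ 3` contains an element of order `p` with
self-centralizing cyclic group and few Sylow `p`-subgroups. -/
theorem exists_self_centralizing [IsSimpleGroup G] (hG : ¬ IsMulCommutative G)
    (hdvd : p ∣ Nat.card G) (hlt : Nat.card G < p ^ 3) :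
    ∃ z : G, orderOf z = p ∧ centralizer ({z} : Set G) = zpowers z ∧
      2 * Nat.card (Sylow p G) < (p + 1) * (p + 2) := by
  classical
  obtain ⟨hp5, hcard⟩ := five_le hG hdvd hlt
  obtain ⟨z, hz⟩ := exists_prime_orderOf_dvd_card' p hdvd
  obtain ⟨P, hzP⟩ := (IsPGroup.of_card (n := 1) (p := p)
    (by rw [Nat.card_zpowers, hz, pow_one])).exists_le_sylow (P := zpowers z)
  have hPz : zpowers z = (P : Subgroup G) :=
    Subgroup.eq_of_le_of_card_ge hzP (by rw [hcard, Nat.card_zpowers, hz])
  obtain ⟨c, -, -, -, -, hc, -⟩ := exists_numbers hG P (hcard P)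
  obtain ⟨hc1, h2⟩ := centralizer_card_eq_one hG (by omega) P (hcard P) hlt hc
  refine ⟨z, hz, ?_, h2⟩
  rw [← Subgroup.centralizer_closure, ← Subgroup.zpowers_eq_closure]
  have hle : zpowers z ≤ centralizer (zpowers z : Set G) :=
    Subgroup.le_centralizer (zpowers z)
  refine (Subgroup.eq_of_le_of_card_ge hle ?_).symm
  rw [Nat.card_zpowers, hz, hPz, hc, hc1, mul_one]

end Cfsg.Agent.H60.SmallOrder
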