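import Cfsg.Agent.H60.Large
import Cfsg.Agent.H60.PMinimalLayer
import Cfsg.Agent.H59.WeaklyClosed
import Cfsg.Agent.Fusion.PResidual

/-!
`O^p` of weak closures of a weakly closed subgroup.
-/

set_option autoImplicit false
set_option linter.style.haveILetI false

namespace Cfsg.Agent.H60

open Subgroup
open scoped commutatorElement

variable {G : Type*} [Group G] {p : ℕ}

/-- `O^p(W)` as a subgroup of the ambient group. -/
def resOf (p : ℕ) (W : Subgroup G) : Subgroup G := (Cfsg.pResidual p ↥W).map W.subtype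

theorem resOf_le (W : Subgroup G) : resOf p W ≤ W := map_subtype_le _

theorem mem_resOf {W : Subgroup G} {g : G} (hg : g ∈ W) (h : (orderOf g).Coprime p) : g ∈ resOf p W :=
  Fusion.mem_pResidual_subgroup hg h

theorem resOf_le_iff {W K : Subgroup G} :
    resOf p W ≤ K ↔ ∀ g ∈ W, (orderOf g).Coprime p → g ∈ K := by
  rw [resOf, map_le_iff_le_comap, Fusion.pResidual_le]
  exact ⟨fun h g hg hc => h ⟨g, hg⟩ (by rwa [Subgroup.orderOf_mk]),
    fun h g hc => h g g.2 (by rwa [Subgroup.orderOf_coe])⟩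

theorem resOf_mono {W X : Subgroup G} (h : W ≤ X) : resOf p W ≤ resOf p X :=
  resOf_le_iff.2 fun _ hg hc => mem_resOf (h hg) hc

theorem resOf_resOf (W : Subgroup G) : resOf p (resOf p W) = resOf p W :=
  le_antisymm (resOf_le _) (resOf_le_iff.2 fun _ hg hc => mem_resOf (mem_resOf hg hc) hc)

theorem cj_resOf_le (W : Subgroup G) (n : G) : cj (resOf p W) n ≤ resOf p (cj W n) := by
  rw [cj_le_iff]
  refine resOf_le_iff.2 fun g hg hc => mem_cj.2 (mem_resOf (mem_cj.2 ?_) ?_)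
  · simpa [mul_assoc] using hg
  · rwa [show n⁻¹⁻¹ * g * n⁻¹ = MulAut.conj n g by simp, MulEquiv.orderOf_eq]

theorem normalizer_le_normalizer_resOf (W : Subgroup G) :
    normalizer (W : Set G) ≤ normalizer (resOf p W : Set G) := by
  rw [le_normalizer_iff]
  intro n hn x hx
  have h : cj (resOf p W) n ≤ resOf p W := (cj_resOf_le W n).trans (by rw [cj_eq_self_iff.2 hn])
  exact h (mem_cj.2 (by simpa [mul_assoc] using hx))

theorem le_normalizer_resOf {W X : Subgroup G} (h : X ≤ normalizer (W : Set G)) :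
    X ≤ normalizer (resOf p W : Set G) := h.trans (normalizer_le_normalizer_resOf W)

/-- If `W/N` is covered by the p-group `P` then `O^p(W) ≤ N`. -/
theorem resOf_le_of_sup [Finite G] [hp : Fact p.Prime] {W N P : Subgroup G} (hP : IsPGroup p P)
    (hn : W ≤ normalizer (N : Set G)) (hW : W ≤ N ⊔ P) (hPn : P ≤ normalizer (N : Set G)) :
    resOf p W ≤ N := by
  refine resOf_le_iff.2 fun g hg hc => ?_
  obtain ⟨a, ha, b, hb, rfl⟩ := mem_sup_mul hPn (sup_comm N P ▸ hW hg)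
  -- the image of g modulo N is the image of a
  haveI : (N.subgroupOf (P ⊔ N)).Normal :=
    normal_subgroupOf_of_le_normalizer (sup_le hPn le_normalizer)
  set π := QuotientGroup.mk' (N.subgroupOf (P ⊔ N))
  have hab : a * b ∈ P ⊔ N := mul_mem (mem_sup_left ha) (mem_sup_right hb)
  set u := π ⟨a * b, hab⟩ with hu
  have hua : u = π ⟨a, mem_sup_left ha⟩ := by
    rw [hu, QuotientGroup.mk'_apply, QuotientGroup.mk'_apply]
    refine QuotientGroup.eq.2 ?_
    show (a * b)⁻¹ * a ∈ N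
    rw [mul_inv_rev, inv_mul_cancel_right]
    exact inv_mem hb
  obtain ⟨k, hk⟩ := hP ⟨a, ha⟩
  have h1 : orderOf u ∣ p ^ k := by
    rw [hua]
    refine (orderOf_map_dvd π _).trans ?_
    rw [Subgroup.orderOf_mk]
    exact orderOf_dvd_of_pow_eq_one (congrArg Subtype.val hk)
  have h2 : orderOf u ∣ orderOf (a * b) := by
    refine (orderOf_map_dvd π _).trans ?_
    rw [Subgroup.orderOf_mk]
  have h3 : u = 1 := orderOf_eq_one_iff.1 (Nat.eq_one_of_dvd_coprimes (hc.pow_right k) h2 h1)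
  exact (QuotientGroup.eq_one_iff (⟨a * b, hab⟩ : (P ⊔ N : Subgroup G))).1 h3

/-- For `W` the normal closure in itself of a p-subgroup `Q`: `[O^p W, Q] = O^p W` and `W = O^p(W) Q`. -/
theorem resOf_commutator [Finite G] [hp : Fact p.Prime] {W Q : Subgroup G} (hQ : IsPGroup p Q) (hQW : Q ≤ W)
    (hgen : ∀ N : Subgroup G, Q ≤ N → W ≤ normalizer (N : Set G) → W ≤ N) :
    resOf p W ⊔ Q = W ∧ ⁅resOf p W, Q⁆ = resOf p W := by
  set K := resOf p W with hK
  have hKW : W ≤ normalizer (K : Set G) := le_normalizer_resOf le_normalizer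
  have h1 : K ⊔ Q = W := by
    refine le_antisymm (sup_le (resOf_le W) hQW) ?_
    haveI : (K.subgroupOf W).Normal := normal_subgroupOf_of_le_normalizer hKW
    have hKe : K.subgroupOf W = Cfsg.pResidual p ↥W :=
      comap_map_eq_self_of_injective W.subtype_injective _
    have hq : IsPGroup p (↥W ⧸ K.subgroupOf W) := by
      have := Fusion.isPGroup_quotient_pResidual (p := p) (G := ↥W)
      exact this.of_equiv (QuotientGroup.quotientMulEquivOfEq hKe.symm)
    haveI := hq.isNilpotent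
    set π := QuotientGroup.mk' (K.subgroupOf W)
    set U := (Q.subgroupOf W).map π with hU
    have hUtop : U = ⊤ := by
      by_contra hne
      obtain ⟨Mx, hMx, hUM⟩ := (eq_top_or_exists_le_coatom U).resolve_left hne
      haveI : Mx.Normal := Subgroup.NormalizerCondition.normal_of_coatom Mx Group.normalizerCondition_of_isNilpotent hMx
      have h2 := hgen ((Mx.comap π).map W.subtype)
        (fun q hq => ⟨⟨q, hQW hq⟩, hUM (mem_map_of_mem π (show (⟨q, hQW hq⟩ : W) ∈ Q.subgroupOf W from hq)), rfl⟩)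
        (by
          intro w hw
          have : (⟨w, hw⟩ : W) ∈ normalizer ((Mx.comap π : Subgroup W) : Set W) := by
            rw [normalizer_eq_top_iff.2 inferInstance]; exact mem_top _
          exact Subgroup.le_normalizer_map W.subtype ⟨_, this, rfl⟩)
      refine hMx.1 (top_le_iff.1 fun z _ => ?_)
      obtain ⟨w, rfl⟩ := QuotientGroup.mk'_surjective (K.subgroupOf W) z
      obtain ⟨w', hw', e⟩ := h2 w.2
      rwa [← show w' = w from Subtype.ext e]
    intro w hw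
    obtain ⟨q, hq, e⟩ : π ⟨w, hw⟩ ∈ U := hUtop ▸ mem_top _
    have h3 : (q : G)⁻¹ * w ∈ K := (QuotientGroup.eq (s := K.subgroupOf W)).1 e
    rw [show w = (q : G) * ((q : G)⁻¹ * w) by group]
    exact mul_mem (mem_sup_right hq) (mem_sup_left h3)
  refine ⟨h1, le_antisymm ?_ ?_⟩
  · rw [commutator_comm]; exact commutator_le_of_le_normalizer (hQW.trans hKW)
  · set M := ⁅K, Q⁆ with hM
    have hWM : W ≤ normalizer (M : Set G) :=
      h1 ▸ sup_le (normalizer_commutator_ge_left K Q) (normalizer_commutator_ge_right K Q)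
    refine resOf_le_of_sup hQ hWM (hgen _ le_sup_right ?_) (hQW.trans hWM)
    conv_lhs => rw [← h1]
    refine sup_le ?_ (le_trans le_sup_right le_normalizer)
    rw [le_normalizer_iff]
    intro k hk x hx
    obtain ⟨a, ha, b, hb, rfl⟩ := mem_sup_mul (hQW.trans hWM) (sup_comm M Q ▸ hx)
    have h4 : k * b * k⁻¹ ∈ M := (mem_normalizer_iff.1 (normalizer_commutator_ge_left K Q hk) b).1 hb
    have h5 : k * (a * b) * k⁻¹ = ⁅k, a⁆ * a * (k * b * k⁻¹) := by rw [commutatorElement_def]; group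
    rw [h5]
    exact mul_mem (mul_mem (mem_sup_left (commutator_mem_commutator hk ha)) (mem_sup_right ha)) (mem_sup_left h4)

theorem commutatorElement_mul_right' (x y z : G) : ⁅x, y * z⁆ = ⁅x, y⁆ * (y * ⁅x, z⁆ * y⁻¹) := by
  simp only [commutatorElement_def]; group

/-- If `b` and `c` centralise `a` and `k` modulo the centre, `b` centralises `[k, a c]`. -/
theorem commute_commutator_of_central {X : Type*} [Group X] {a k b c : X}
    (h1 : ⁅c, k⁻¹⁆ ∈ center X) (h2 : ⁅b, k⁆ ∈ center X) (h3 : ⁅b, a⁆ ∈ center X) :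
    ⁅b, ⁅k, a * c⁆⁆ ∈ (⊥ : Subgroup X) ∧ ⁅k, a * c⁆ = ⁅c, k⁻¹⁆ * ⁅k, a⁆ := by
  have e : ⁅k, a * c⁆ = ⁅c, k⁻¹⁆ * ⁅k, a⁆ := by
    have h : ⁅k, a * c⁆ = k * a * ⁅c, k⁻¹⁆ * k⁻¹ * a⁻¹ := by simp only [commutatorElement_def]; group
    rw [h, mem_center_iff.1 h1 (k * a), mul_assoc ⁅c, k⁻¹⁆, mul_assoc ⁅c, k⁻¹⁆]
    congr 1
  refine ⟨?_, e⟩
  rw [mem_bot, commutatorElement_eq_one_iff_mul_comm, e]
  have h5 : b * ⁅k, a⁆ * b⁻¹ = ⁅k, a⁆ := by
    have e2 : b * ⁅k, a⁆ * b⁻¹ = ⁅⁅b, k⁆ * k, ⁅b, a⁆ * a⁆ := by simp only [commutatorElement_def]; group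
    rw [e2]
    have c1 := mem_center_iff.1 h2
    have c2 := mem_center_iff.1 h3
    simp only [commutatorElement_def] at c1 c2 ⊢
    generalize b * k * b⁻¹ * k⁻¹ = s at c1 ⊢
    generalize b * a * b⁻¹ * a⁻¹ = t at c2 ⊢
    calc s * k * (t * a) * (s * k)⁻¹ * (t * a)⁻¹ = s * (k * t) * a * k⁻¹ * s⁻¹ * a⁻¹ * t⁻¹ := by group
      _ = s * (t * k) * a * k⁻¹ * s⁻¹ * a⁻¹ * t⁻¹ := by rw [c2 k]
      _ = (s * t) * (k * a * k⁻¹) * (s⁻¹ * a⁻¹) * t⁻¹ := by group
      _ = (s * t) * (k * a * k⁻¹) * (a⁻¹ * s⁻¹) * t⁻¹ := by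
        rw [show s⁻¹ * a⁻¹ = (a * s)⁻¹ by group, c1 a, mul_inv_rev]
      _ = (s * t) * (k * a * k⁻¹ * a⁻¹) * (t * s)⁻¹ := by group
      _ = (s * t) * (k * a * k⁻¹ * a⁻¹) * (s * t)⁻¹ := by rw [c1 t]
      _ = k * a * k⁻¹ * a⁻¹ := by
        have hc : ∀ g : X, g * (s * t) = (s * t) * g := fun g => by
          rw [← mul_assoc, c1 g, mul_assoc, c2 g, ← mul_assoc]
        rw [← hc, mul_inv_cancel_right]
  rw [← mul_assoc, mem_center_iff.1 h1 b, mul_assoc, mul_inv_eq_iff_eq_mul.1 h5, ← mul_assoc]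

/-- One half of the product decomposition of a weak closure. -/
theorem weak_half [Finite G] [hp : Fact p.Prime] {Q : Subgroup G} (hQp : IsPGroup p Q)
    (hwc : Cfsg.IsWeaklyClosedSubgroup p Q) (Hc : Subgroup G) (hHc : Hc = Cfsg.weakClosure Q ⊤)
    (H₁ H₂ : Subgroup G) (hn₁ : H₁ ≤ Hc ∧ Hc ≤ normalizer (H₁ : Set G))
    (hn₂ : H₂ ≤ Hc ∧ Hc ≤ normalizer (H₂ : Set G)) (hprod : H₁ ⊔ H₂ = Hc)
    (hcomm : ⁅H₁, H₂⁆ ≤ normalizer (Q : Set G)) :
    let W := Cfsg.weakClosure Q (H₁ ⊔ Q)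
    let K := resOf p W
    (⁅K, Q⁆ = K ∧ ⁅K, H₁⁆ = K ∧ K ≤ ⁅H₁, H₁⁆ ∧ Hc ≤ normalizer (K : Set G)) ∧
      K ≤ H₁ ∧ ⁅K, H₂⁆ ≤ Cfsg.pCoreOf p Hc ∧ K ⊔ Q = W ∧ W ≤ Hc := by
  intro W K
  have hQc : Q ≤ Hc := hHc ▸ le_weakClosure le_top
  have hX : H₁ ⊔ Q ≤ Hc := sup_le hn₁.1 hQc
  have hQX : Q ≤ H₁ ⊔ Q := le_sup_right
  have hQW : Q ≤ W := le_weakClosure hQX
  have hWX : W ≤ H₁ ⊔ Q := weakClosure_le_self _ _
  have hXN : H₁ ⊔ Q ≤ normalizer (W : Set G) :=
    le_trans le_normalizer (normalizer_le_normalizer_weakClosure Q _)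
  obtain ⟨hKQ, hKQc⟩ := resOf_commutator hQp hQW (fun N hQN hWN => by
    refine weakClosure_le fun g hg => ?_
    obtain ⟨k, hk, e⟩ := H59.exists_conj_of_le hQp hwc hQW (g := g) (le_weakClosure_of_cj_le hg)
    rw [e]
    exact (cj_mono hQN k).trans (cj_eq_self_iff.2 (hWN hk)).le)
  -- R
  set R := Cfsg.pCoreOf p Hc with hR
  have hRp : IsPGroup p R := pCoreOf_isPGroup Hc
  have hRc : R ≤ Hc := pCoreOf_le Hc
  have hRn : Hc ≤ normalizer (R : Set G) := le_normalizer_pCoreOf Hc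
  have hRconj : ∀ g, cj Q g ≤ Hc → R ≤ normalizer (cj Q g : Set G) := fun g hg =>
    le_trans le_sup_left (H59.le_normalizer_of_mutualEq
      (H59.mutualEq_cj (H59.mutualEq_of_isWeaklyClosed hQp hwc) g)
      (hRp.to_sup_of_normal_left' (isPGroup_cj hQp g) (hg.trans hRn)) le_sup_right)
  -- N
  set N := ⁅H₁, H₂⁆ with hN
  have hNle : N ≤ H₁ ⊓ H₂ := commutator_le_inf_of_le_normalizer (hn₁.1.trans hn₂.2) (hn₂.1.trans hn₁.2)
  have hNc : N ≤ Hc := hNle.trans (inf_le_left.trans hn₁.1)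
  have hNn : Hc ≤ normalizer (N : Set G) :=
    hprod ▸ sup_le (normalizer_commutator_ge_left _ _) (normalizer_commutator_ge_right _ _)
  have hNQ : ⁅N, Q⁆ ≤ R := by
    have h1 : ⁅N, Q⁆ ≤ N ⊓ Q := commutator_le_inf_of_le_normalizer hcomm (hQc.trans hNn)
    have h2 : N ⊓ Q ≤ Cfsg.pCoreOf p N :=
      le_pCoreOf inf_le_left (le_normalizer_inf le_normalizer hcomm) (hQp.to_le inf_le_right)
    refine h1.trans (h2.trans (le_pCoreOf ((pCoreOf_le N).trans hNc)
      (hNn.trans (normalizer_le_normalizer_pCoreOf N)) (pCoreOf_isPGroup N)))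
  have hNcent : ⁅N, Hc⁆ ≤ R := by
    rw [commutator_comm]
    refine le_trans (le_of_eq (congrArg (⁅·, N⁆) hHc)) (iSup_commutator_le (fun g => ?_) fun g => ?_)
    · have hg : cj Q (g.1) ≤ Hc := hHc ▸ le_weakClosure_of_cj_le g.2
      exact le_trans hg hRn
    · have hg : cj Q (g.1) ≤ Hc := hHc ▸ le_weakClosure_of_cj_le g.2
      obtain ⟨k, hk, e⟩ := H59.exists_conj_of_le hQp hwc hQc hg
      show ⁅cj Q g.1, N⁆ ≤ R
      rw [e, ← cj_eq_self_iff.2 (hNn hk), commutator_comm]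
      show ⁅N.map _, Q.map _⁆ ≤ R
      rw [← map_commutator]
      exact le_trans (cj_mono hNQ k) (cj_eq_self_iff.2 (hRn hk)).le
  -- K inside H1
  have hKH : K ≤ H₁ := (resOf_mono hWX).trans
    (resOf_le_of_sup hQp (sup_le le_normalizer (hQc.trans hn₁.2)) le_rfl (hQc.trans hn₁.2))
  -- centrality of H1, H2 commutators modulo R
  haveI : (R.subgroupOf Hc).Normal := normal_subgroupOf_of_le_normalizer hRn
  set π := QuotientGroup.mk' (R.subgroupOf Hc) with hπ
  have hcent : ∀ (c x : ↥Hc), (c : G) ∈ H₂ → (x : G) ∈ H₁ → ⁅π c, π x⁆ ∈ center (↥Hc ⧸ R.subgroupOf Hc) := by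
    intro c x hc hx
    rw [mem_center_iff]
    intro z
    obtain ⟨y, rfl⟩ := QuotientGroup.mk'_surjective (R.subgroupOf Hc) z
    rw [← map_commutatorElement]
    refine (commutatorElement_eq_one_iff_mul_comm.1 ?_).symm
    rw [← map_commutatorElement, hπ, QuotientGroup.mk'_apply, QuotientGroup.eq_one_iff, mem_subgroupOf]
    have hn : ⁅(c : G), (x : G)⁆ ∈ N := by
      rw [hN, commutator_comm]; exact commutator_mem_commutator hc hx
    exact hNcent (commutator_mem_commutator hn y.2)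
  have hKH2 : ⁅K, H₂⁆ ≤ R := by
    rw [commutator_le]
    intro x hx b hb
    have hgen : ∀ x ∈ ⁅K, Q⁆, ∃ hx : x ∈ Hc, ⁅π ⟨b, hn₂.1 hb⟩, π ⟨x, hx⟩⁆ = 1 := by
      intro x hx
      have hsub : ⁅K, Q⁆ ≤ ((centralizer ({π ⟨b, hn₂.1 hb⟩} : Set (↥Hc ⧸ R.subgroupOf Hc))).comap π).map Hc.subtype := by
        rw [commutator_le]
        intro k hk q hq
        obtain ⟨a, ha, c, hc, hac⟩ := mem_sup_mul (hn₁.1.trans hn₂.2) (hprod.ge (hQc hq))
        have hkc : k ∈ Hc := hn₁.1 (hKH hk)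
        refine ⟨⁅(⟨k, hkc⟩ : ↥Hc), ⟨q, hQc hq⟩⁆, ?_, rfl⟩
        show π ⁅(⟨k, hkc⟩ : ↥Hc), ⟨q, hQc hq⟩⁆ ∈ centralizer _
        rw [mem_centralizer_singleton_iff, map_commutatorElement,
          show (⟨q, hQc hq⟩ : Hc) = ⟨a, hn₁.1 ha⟩ * ⟨c, hn₂.1 hc⟩ from Subtype.ext hac, map_mul]
        have h := (commute_commutator_of_central (a := π ⟨a, hn₁.1 ha⟩) (k := π ⟨k, hkc⟩)
          (b := π ⟨b, hn₂.1 hb⟩) (c := π ⟨c, hn₂.1 hc⟩)
          (by rw [← map_inv]; exact hcent _ _ hc (inv_mem (hKH hk)))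
          (hcent _ _ hb (hKH hk)) (hcent _ _ hb ha)).1
        rw [mem_bot, commutatorElement_eq_one_iff_mul_comm] at h
        exact h.symm
      obtain ⟨⟨y, hy⟩, hyc, rfl⟩ := hsub hx
      refine ⟨hy, commutatorElement_eq_one_iff_mul_comm.2 ?_⟩
      exact (mem_centralizer_singleton_iff.1 hyc).symm
    obtain ⟨hxc, h⟩ := hgen x (hKQc.ge hx)
    rw [← map_commutatorElement, hπ, QuotientGroup.mk'_apply, QuotientGroup.eq_one_iff, mem_subgroupOf] at h
    rw [← commutatorElement_inv]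
    exact inv_mem h
  -- K normal in Hc
  have hH1K : H₁ ≤ normalizer (K : Set G) := le_normalizer_resOf (le_trans le_sup_left hXN)
  have hRK : R ≤ normalizer (K : Set G) := by
    refine le_normalizer_resOf ?_
    rw [le_normalizer_iff]
    intro r hr x hx
    have h : cj W r ≤ W := by
      rw [cj_le_iff]
      refine weakClosure_le fun g hg => ?_
      rw [le_cj_iff, inv_inv, cj_eq_self_iff.2 (hRconj g (hg.trans hX) hr)]
      exact le_weakClosure_of_cj_le hg
    exact h (mem_cj.2 (by simpa [mul_assoc] using hx))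
  have hH2K : H₂ ≤ normalizer (K : Set G) := by
    rw [le_normalizer_iff]
    intro g hg x hx
    have h1 : cj K g ≤ K ⊔ R := by
      intro y hy
      rw [mem_cj] at hy
      have e : y = ⁅g⁻¹ * y * g, g⁆⁻¹ * (g⁻¹ * y * g) := by simp only [commutatorElement_def]; group
      rw [e]
      exact mul_mem (mem_sup_right (inv_mem (hKH2 (commutator_mem_commutator hy hg)))) (mem_sup_left hy)
    have h2 : resOf p (K ⊔ R) ≤ K := resOf_le_of_sup hRp (sup_le le_normalizer hRK) le_rfl hRK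
    have h3 : cj K g ≤ resOf p (cj K g) := by
      have := cj_resOf_le (p := p) K g
      rwa [show resOf p K = K from resOf_resOf W] at this
    exact (h3.trans ((resOf_mono h1).trans h2)) (mem_cj.2 (by simpa [mul_assoc] using hx))
  have hKn : Hc ≤ normalizer (K : Set G) := hprod ▸ sup_le hH1K hH2K
  -- K = [K, H1]
  set M := ⁅K, H₁⁆ with hM
  have hMK : M ≤ K := by rw [hM, commutator_comm]; exact commutator_le_of_le_normalizer hH1K
  have hMn : Hc ≤ normalizer (M : Set G) := by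
    rw [le_normalizer_iff]
    intro g hg x hx
    have h : cj M g ≤ M := by
      show M.map _ ≤ _
      rw [hM, map_commutator]
      exact commutator_mono (cj_eq_self_iff.2 (hKn hg)).le (cj_eq_self_iff.2 (hn₁.2 hg)).le
    exact h (mem_cj.2 (by simpa [mul_assoc] using hx))
  have hKc : K ≤ Hc := hKH.trans hn₁.1
  have hD : K ≤ M ⊔ (K ⊓ N) := by
    refine le_trans hKQc.ge ?_
    rw [commutator_le]
    intro k hk q hq
    obtain ⟨a, ha, c, hc, rfl⟩ := mem_sup_mul (hn₁.1.trans hn₂.2) (hprod.ge (hQc hq))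
    rw [commutatorElement_mul_right']
    refine mul_mem (mem_sup_left (commutator_mem_commutator hk ha)) ?_
    have hd : ⁅k, c⁆ ∈ K ⊓ N := by
      refine mem_inf.2 ⟨?_, commutator_mem_commutator (hKH hk) hc⟩
      exact commutator_le_of_le_normalizer (hn₂.1.trans hKn)
        (commutator_comm K H₂ ▸ commutator_mem_commutator hk hc)
    rw [show a * ⁅k, c⁆ * a⁻¹ = ⁅⁅k, c⁆, a⁆⁻¹ * ⁅k, c⁆ by simp only [commutatorElement_def]; group]
    exact mul_mem (mem_sup_left (inv_mem (commutator_mem_commutator (mem_inf.1 hd).1 ha))) (mem_sup_right hd)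
  have hKM : K ≤ M ⊔ (K ⊓ Q) := by
    refine le_trans hKQc.ge ?_
    rw [commutator_le]
    intro x hx q hq
    obtain ⟨d, hd, m, hm, rfl⟩ := mem_sup_mul ((inf_le_left.trans hKc).trans hMn) (sup_comm M (K ⊓ N) ▸ hD hx)
    have h1 : ⁅d, q⁆ ∈ K ⊓ Q := by
      obtain ⟨hdK, hdN⟩ := mem_inf.1 hd
      refine mem_inf.2 ⟨hKQc.le (commutator_mem_commutator hdK hq), ?_⟩
      rw [commutatorElement_def]
      exact mul_mem ((mem_normalizer_iff.1 (hcomm hdN) q).1 hq) (inv_mem hq)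
    have e : ⁅d * m, q⁆ = (d * ⁅m, q⁆ * d⁻¹) * ⁅d, q⁆ := by simp only [commutatorElement_def]; group
    rw [e]
    refine mul_mem (mem_sup_left ?_) (mem_sup_right h1)
    refine (mem_normalizer_iff.1 (hMn (hKc (mem_inf.1 hd).1)) _).1 ?_
    exact commutator_le_of_le_normalizer (hQc.trans hMn)
      (commutator_comm M Q ▸ commutator_mem_commutator hm hq)
  have hMeq : M = K := by
    refine le_antisymm hMK ?_
    conv_lhs => rw [show K = resOf p K from (resOf_resOf W).symm]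
    exact resOf_le_of_sup (hQp.to_le (inf_le_right : K ⊓ Q ≤ Q)) (hKc.trans hMn) hKM (inf_le_left.trans (hKc.trans hMn))
  exact ⟨⟨hKQc, hMeq, hMeq.ge.trans (commutator_mono hKH le_rfl), hKn⟩, hKH, hKH2, hKQ, hWX.trans hX⟩

end Cfsg.Agent.H60
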