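import Mathlib

/-!
# Subgroups meeting their conjugate in a normal subgroup of prime index

If `P ⊓ g⁻¹Pg` is normal of index `p` in `g⁻¹Pg` and no nontrivial normal subgroup of `P` is
normalised by `g`, then `P` has order `p ^ t` and is generated by a window of `t` consecutive
members of a sequence of elements of order `p` permuted by `g`.
-/

set_option autoImplicit false
set_option linter.style.haveILetI false

open Subgroup
open scoped Pointwise

namespace Cfsg.Agent.H60.Windows

variable {G : Type*} [Group G]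

/-- Conjugation by the `i`-th power of `g`, to the left. -/
def sh (g : G) (i : ℤ) : MulAut G := MulAut.conj (g ^ i)⁻¹

theorem sh_add (g : G) (i j : ℤ) : sh g (i + j) = sh g i * sh g j := by
  rw [add_comm, sh, sh, sh, zpow_add, mul_inv_rev, map_mul]

theorem sh_zero (g : G) : sh g 0 = 1 := by simp [sh]

theorem card_smul_eq (f : MulAut G) (H : Subgroup G) : Nat.card ↥(f • H) = Nat.card H :=
  (Nat.card_congr (Subgroup.equivSMul f H).toEquiv).symm

/-- `Q k i` is the intersection of `k + 1` consecutive conjugates. -/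
def Q (P : Subgroup G) (g : G) : ℕ → ℤ → Subgroup G
  | 0, i => sh g i • P
  | k + 1, i => Q P g k i ⊓ Q P g k (i + 1)

variable {P : Subgroup G} {g : G} {p : ℕ}

theorem smul_Q (k : ℕ) : ∀ i j : ℤ, sh g j • Q P g k i = Q P g k (j + i) := by
  induction k with
  | zero => intro i j; rw [Q, Q, sh_add, mul_smul]
  | succ k ih =>
    intro i j
    rw [Q, Q, Subgroup.smul_inf, ih, ih, add_assoc]

theorem card_Q (k : ℕ) (i : ℤ) : Nat.card ↥(Q P g k i) = Nat.card ↥(Q P g k 0) := by
  rw [← card_smul_eq (sh g i) (Q P g k 0), smul_Q, add_zero]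

theorem Q_succ_le_left (k : ℕ) (i : ℤ) : Q P g (k + 1) i ≤ Q P g k i := inf_le_left

theorem Q_succ_le_right (k : ℕ) (i : ℤ) : Q P g (k + 1) i ≤ Q P g k (i + 1) := inf_le_right

theorem Q_le (k : ℕ) (i : ℤ) : Q P g k i ≤ Q P g 0 i := by
  induction k with
  | zero => exact le_rfl
  | succ k ih => exact (Q_succ_le_left k i).trans ih

/-- A subgroup of index `p` of a `p`-group is normalised by it. -/
theorem normal_of_index [Finite G] [hp : Fact p.Prime] {H K : Subgroup G} (hK : IsPGroup p K) (hle : H ≤ K)
    (h : Nat.card K = p * Nat.card H) : K ≤ normalizer (H : Set G) := by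
  have hidx : (H.subgroupOf K).index = p := by
    have h1 := (H.subgroupOf K).card_mul_index
    rw [Nat.card_congr (Subgroup.subgroupOfEquivOfLe hle).toEquiv, h, mul_comm p] at h1
    exact Nat.eq_of_mul_eq_mul_left Nat.card_pos h1
  obtain ⟨n, hn⟩ := IsPGroup.iff_card.1 hK
  have hn0 : n ≠ 0 := by
    rintro rfl
    rw [pow_zero, h] at hn
    have := Nat.dvd_one.1 ⟨_, hn.symm⟩
    exact hp.out.ne_one this
  haveI : (H.subgroupOf K).Normal := Subgroup.normal_of_index_eq_minFac_card (by
    rw [hidx, hn, Nat.pow_minFac hn0, hp.out.minFac_eq])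
  exact (Subgroup.normal_subgroupOf_iff_le_normalizer hle).1 inferInstance

/-- Above a subgroup of index `p` there is only the whole group. -/
theorem eq_of_index [Finite G] (hp : p.Prime) {H K L : Subgroup G} (h : Nat.card K = p * Nat.card H)
    (h1 : H ≤ L) (h2 : L ≤ K) (hne : ¬ L ≤ H) : L = K := by
  obtain ⟨a, ha⟩ := Subgroup.card_dvd_of_le h1
  obtain ⟨b, hb⟩ := Subgroup.card_dvd_of_le h2
  have hab : p = a * b := by
    rw [hb, ha, mul_assoc, mul_comm p] at h
    exact (Nat.eq_of_mul_eq_mul_left Nat.card_pos h).symm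
  rcases (Nat.prime_mul_iff.1 (hab ▸ hp)) with ⟨-, hb1⟩ | ⟨-, ha1⟩
  · refine Subgroup.eq_of_le_of_card_ge h2 ?_
    rw [hb, hb1, mul_one]
  · refine absurd (Subgroup.eq_of_le_of_card_ge h1 ?_).ge hne
    rw [ha, ha1, mul_one]

theorem relIndex_mul_card_inf (H K : Subgroup G) :
    H.relIndex K * Nat.card ↥(H ⊓ K) = Nat.card K := by
  rw [← Nat.card_congr (Subgroup.subgroupOfEquivOfLe (inf_le_right : H ⊓ K ≤ K)).toEquiv,
    Subgroup.inf_subgroupOf_right, mul_comm]
  exact (H.subgroupOf K).card_mul_index

variable (P g p)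

/-- The hypotheses. -/
structure Setup : Prop where
  prime : p.Prime
  norm : ((P ⊓ MulAut.conj g⁻¹ • P).subgroupOf (MulAut.conj g⁻¹ • P)).Normal
  index : (P ⊓ MulAut.conj g⁻¹ • P).relIndex (MulAut.conj g⁻¹ • P) = p
  core : ∀ R : Subgroup G, R ≤ P → (R.subgroupOf P).Normal → MulAut.conj g • R = R → R = ⊥

variable {P g p}

theorem Q_zero_one : Q P g 0 1 = MulAut.conj g⁻¹ • P := by rw [Q, sh, zpow_one]

theorem Q_zero_zero : Q P g 0 0 = P := by rw [Q, sh_zero, one_smul]

theorem Q_one_zero : Q P g 1 0 = P ⊓ MulAut.conj g⁻¹ • P := by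
  rw [Q, zero_add, Q_zero_zero, Q_zero_one]

/-- The subgroup generated by the elements of order prime to `p`. -/
def res (p : ℕ) (H : Subgroup G) : Subgroup G := closure {x : G | x ∈ H ∧ (orderOf x).Coprime p}

theorem res_le (H : Subgroup G) : res p H ≤ H := (closure_le _).2 fun _ hx => hx.1

theorem res_mono {H K : Subgroup G} (h : H ≤ K) : res p H ≤ res p K :=
  closure_mono fun _ hx => ⟨h hx.1, hx.2⟩

theorem smul_res (f : MulAut G) (H : Subgroup G) : f • res p H = res p (f • H) := by
  apply le_antisymm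
  · intro y hy
    obtain ⟨x, hx, rfl⟩ := Subgroup.mem_map.1 hy
    change f x ∈ res p (f • H)
    refine Subgroup.closure_induction (p := fun a _ => f a ∈ res p (f • H)) ?_ ?_ ?_ ?_ hx
    · intro a ha
      exact subset_closure ⟨Subgroup.smul_mem_pointwise_smul a f H ha.1, by
        rw [MulEquiv.orderOf_eq]; exact ha.2⟩
    · rw [map_one]; exact one_mem _
    · intro a b _ _ ha hb; rw [map_mul]; exact mul_mem ha hb
    · intro a _ ha; rw [map_inv]; exact inv_mem ha
  · refine (closure_le _).2 fun y hy => ?_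
    obtain ⟨x, hx, rfl⟩ := Subgroup.mem_map.1 hy.1
    refine Subgroup.smul_mem_pointwise_smul x f _ (subset_closure ⟨hx, ?_⟩)
    have h := hy.2
    change (orderOf (f x)).Coprime p at h
    rwa [MulEquiv.orderOf_eq] at h

namespace Setup

variable [Finite G] (S : Setup P g p)

include S

theorem card_Q_one : Nat.card P = p * Nat.card ↥(Q P g 1 0) := by
  rw [Q_one_zero, ← card_smul_eq (MulAut.conj g⁻¹) P]
  have h := relIndex_mul_card_inf (P ⊓ MulAut.conj g⁻¹ • P) (MulAut.conj g⁻¹ • P)
  rw [S.index] at h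
  rw [inf_assoc, inf_idem] at h
  exact h.symm

theorem isPGroup : IsPGroup p P := by
  haveI : Fact p.Prime := ⟨S.prime⟩
  set P₁ := MulAut.conj g⁻¹ • P with hP₁
  set D := P ⊓ P₁ with hD
  have hres : res p P₁ ≤ res p D := by
    refine (closure_le _).2 fun x hx => subset_closure ⟨?_, hx.2⟩
    haveI := S.norm
    have h1 := orderOf_map_dvd (QuotientGroup.mk' (D.subgroupOf P₁)) ⟨x, hx.1⟩
    have h2 := orderOf_dvd_natCard (QuotientGroup.mk' (D.subgroupOf P₁) ⟨x, hx.1⟩)
    rw [Subgroup.orderOf_mk] at h1
    rw [← Subgroup.index_eq_card] at h2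
    rw [show (D.subgroupOf P₁).index = p from S.index] at h2
    have h3 : orderOf (QuotientGroup.mk' (D.subgroupOf P₁) ⟨x, hx.1⟩) = 1 :=
      Nat.eq_one_of_dvd_coprimes hx.2 h1 h2
    rw [orderOf_eq_one_iff, QuotientGroup.mk'_apply, QuotientGroup.eq_one_iff,
      Subgroup.mem_subgroupOf] at h3
    exact h3
  have heq : res p P₁ = res p P := by
    refine Subgroup.eq_of_le_of_card_ge (hres.trans (res_mono inf_le_left)) ?_
    rw [hP₁, ← smul_res, card_smul_eq]
  have hinv : MulAut.conj g • res p P = res p P := by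
    conv_lhs => rw [← heq, hP₁, ← smul_res, ← mul_smul, ← map_mul, mul_inv_cancel, map_one,
      one_smul]
  have hn : ((res p P).subgroupOf P).Normal := by
    refine (Subgroup.normal_subgroupOf_iff_le_normalizer (res_le P)).2 fun x hx => ?_
    rw [Subgroup.mem_normalizer_iff]
    have hP : MulAut.conj x • P = P := Subgroup.conj_smul_eq_self_of_mem hx
    intro y
    have h : MulAut.conj x • res p P = res p P := by rw [smul_res, hP]
    constructor
    · intro hy
      rw [← h]
      exact Subgroup.smul_mem_pointwise_smul y (MulAut.conj x) _ hy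
    · intro hy
      rw [← h] at hy
      obtain ⟨z, hz, hzy⟩ := Subgroup.mem_map.1 hy
      have : z = y := (MulAut.conj x).injective hzy
      exact this ▸ hz
  have hbot := S.core _ (res_le P) hn hinv
  intro x
  obtain ⟨a, m, hm, ha⟩ := Nat.exists_eq_pow_mul_and_not_dvd (orderOf_pos (x : G)).ne' p
    S.prime.ne_one
  refine ⟨a, Subtype.ext ?_⟩
  rw [Subgroup.coe_pow, Subgroup.coe_one]
  have hmem : (x : G) ^ p ^ a ∈ res p P := subset_closure ⟨pow_mem x.2 _, by
    rw [orderOf_pow_of_dvd (pow_ne_zero _ S.prime.ne_zero) (ha ▸ dvd_mul_right _ _), ha,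
      Nat.mul_div_cancel_left _ (pow_pos S.prime.pos _)]
    exact ((S.prime.coprime_iff_not_dvd).2 hm).symm⟩
  rwa [hbot, mem_bot] at hmem

theorem isPGroup_Q (k : ℕ) (i : ℤ) : IsPGroup p ↥(Q P g k i) := by
  have h : IsPGroup p ↥(Q P g 0 i) := S.isPGroup.of_equiv (Subgroup.equivSMul (sh g i) P)
  exact h.to_le (Q_le k i)

theorem card_step (k : ℕ) :
    Nat.card ↥(Q P g k 0) = Nat.card ↥(Q P g (k + 1) 0) ∨
      Nat.card ↥(Q P g k 0) = p * Nat.card ↥(Q P g (k + 1) 0) := by
  induction k with
  | zero => right; rw [Q_zero_zero]; exact S.card_Q_one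
  | succ k ih =>
    haveI : Fact p.Prime := ⟨S.prime⟩
    obtain ⟨a, ha⟩ := IsPGroup.iff_card.1 (S.isPGroup_Q (k + 1) 1)
    have hmul := relIndex_mul_card_inf (Q P g (k + 1) 0) (Q P g (k + 1) 1)
    have hrel : Subgroup.relIndex (Q P g (k + 1) 0) (Q P g (k + 1) 1) ≤ p := by
      have h1 : Subgroup.relIndex (Q P g (k + 1) 0) (Q P g (k + 1) 1) ≤
          Subgroup.relIndex (Q P g (k + 1) 0) (Q P g k 1) :=
        Subgroup.relIndex_le_of_le_right (Q_succ_le_left k 1) Subgroup.index_ne_zero_of_finite
      refine h1.trans ?_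
      have h2 := relIndex_mul_card_inf (Q P g (k + 1) 0) (Q P g k 1)
      rw [inf_eq_left.2 (le_trans (Q_succ_le_right k 0) (by rw [zero_add])), card_Q k 1] at h2
      have hpos : 0 < Nat.card ↥(Q P g (k + 1) 0) := Nat.card_pos
      rcases ih with h | h <;> rw [h] at h2
      · have := Nat.eq_of_mul_eq_mul_right hpos (h2.trans (one_mul _).symm)
        rw [this]; exact S.prime.one_le
      · rw [Nat.eq_of_mul_eq_mul_right hpos h2]
    have hQ : Q P g (k + 1) 0 ⊓ Q P g (k + 1) 1 = Q P g (k + 1 + 1) 0 := by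
      conv_rhs => rw [Q, zero_add]
    rw [hQ, ha] at hmul
    obtain ⟨b, -, hb⟩ := (Nat.dvd_prime_pow S.prime).1 (Dvd.intro _ hmul)
    rw [card_Q] at ha
    rw [← ha, hb] at hmul
    rw [hb] at hrel
    have hb1 : b ≤ 1 := by
      by_contra hb1
      have : p ^ 2 ≤ p ^ b := Nat.pow_le_pow_right S.prime.pos (by omega)
      have : p * 1 < p * p := Nat.mul_lt_mul_of_pos_left S.prime.one_lt S.prime.pos
      rw [pow_two] at *
      omega
    interval_cases b
    · left; rw [← hmul, pow_zero, one_mul]
    · right; rw [← hmul, pow_one]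

theorem card_step' (k : ℕ) (i : ℤ) :
    Q P g (k + 1) i = Q P g k i ∨ Nat.card ↥(Q P g k i) = p * Nat.card ↥(Q P g (k + 1) i) := by
  rcases S.card_step k with h | h
  · exact Or.inl (Subgroup.eq_of_le_of_card_ge (Q_succ_le_left k i) (by
      rw [card_Q k i, card_Q (k + 1) i, h]))
  · exact Or.inr (by rw [card_Q k i, card_Q (k + 1) i, h])

omit S in
/-- Two neighbouring intersections coincide when one step loses nothing. -/
theorem eq_succ {k : ℕ} (h : Nat.card ↥(Q P g k 0) = Nat.card ↥(Q P g (k + 1) 0)) (i : ℤ) :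
    Q P g k i = Q P g k (i + 1) := by
  have h1 : Q P g (k + 1) i = Q P g k i :=
    Subgroup.eq_of_le_of_card_ge (Q_succ_le_left k i) (by rw [card_Q, card_Q (k + 1), h])
  have h2 : Q P g (k + 1) i = Q P g k (i + 1) :=
    Subgroup.eq_of_le_of_card_ge (Q_succ_le_right k i) (by rw [card_Q, card_Q (k + 1), h])
  rw [← h1, h2]

theorem exists_length : ∃ s : ℕ, 1 ≤ s ∧
    ∀ k ≤ s, Nat.card ↥(Q P g k 0) = p ^ (s - k) := by
  classical
  haveI : Fact p.Prime := ⟨S.prime⟩
  have hex : ∃ k, Nat.card ↥(Q P g k 0) = Nat.card ↥(Q P g (k + 1) 0) := by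
    by_contra hno
    push Not at hno
    have hdec : ∀ k, Nat.card ↥(Q P g k 0) + k ≤ Nat.card ↥(Q P g 0 0) := by
      intro k
      induction k with
      | zero => rw [add_zero]
      | succ k ih =>
        have := Subgroup.card_le_of_le (Q_succ_le_left (P := P) (g := g) k 0)
        have := hno k
        omega
    have := hdec (Nat.card ↥(Q P g 0 0))
    have : 0 < Nat.card ↥(Q P g (Nat.card ↥(Q P g 0 0)) 0) := Nat.card_pos
    omega
  set s := Nat.find hex with hs
  have hmin : ∀ k < s, Nat.card ↥(Q P g k 0) = p * Nat.card ↥(Q P g (k + 1) 0) := fun k hk =>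
    (S.card_step k).resolve_left (Nat.find_min hex hk)
  have hs0 : 1 ≤ s := by
    by_contra h
    have h1 : Nat.card ↥(Q P g 0 0) = Nat.card ↥(Q P g 1 0) := by
      have := Nat.find_spec hex
      rwa [← hs, show s = 0 by omega] at this
    have h2 := S.card_Q_one
    rw [Q_zero_zero] at h1
    rw [← h1] at h2
    have h3 : Nat.card P * p = Nat.card P * 1 := by rw [mul_one, mul_comm]; exact h2.symm
    exact S.prime.ne_one (Nat.eq_of_mul_eq_mul_left Nat.card_pos h3)
  -- the last term is invariant
  have hconst : ∀ i, Q P g s i = Q P g s 0 := by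
    have he : ∀ i, Q P g s i = Q P g s (i + 1) := eq_succ (Nat.find_spec hex)
    intro i
    induction i using Int.induction_on with
    | zero => rfl
    | succ j ih => rw [← he, ih]
    | pred j ih => rw [he, sub_add_cancel, ih]
  -- every term normalises it
  have hnorm : ∀ m ≤ s, ∀ i, Q P g (s - m) i ≤ normalizer (Q P g s 0 : Set G) := by
    intro m
    induction m with
    | zero =>
      intro _ i
      rw [Nat.sub_zero, hconst]
      exact Subgroup.le_normalizer
    | succ m ih =>
      intro hm i
      set j := s - (m + 1) with hj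
      have hj1 : s - m = j + 1 := by omega
      have hc : Nat.card ↥(Q P g j i) = p * Nat.card ↥(Q P g (j + 1) i) := by
        rw [card_Q j i, card_Q (j + 1) i]; exact hmin j (by omega)
      rcases Nat.eq_zero_or_pos m with rfl | hm0
      · rw [show j + 1 = s by omega] at hc
        have h := normal_of_index (S.isPGroup_Q j i)
          (show Q P g s i ≤ Q P g j i by rw [show s = j + 1 by omega]; exact Q_succ_le_left j i) hc
        rwa [hconst] at h
      · have hne : Q P g (j + 1) (i - 1) ≠ Q P g (j + 1) i := by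
          intro he
          have h1 : Q P g (j + 1 + 1) (i - 1) = Q P g (j + 1) (i - 1) := by
            rw [Q, sub_add_cancel, ← he, inf_idem]
          have h2 : Nat.card ↥(Q P g (j + 1) (i - 1)) = p * Nat.card ↥(Q P g (j + 1 + 1) (i - 1)) := by
            rw [card_Q (j + 1) (i - 1), card_Q (j + 1 + 1) (i - 1)]; exact hmin (j + 1) (by omega)
          rw [h1] at h2
          exact absurd ((Nat.mul_eq_right Nat.card_pos.ne').1 h2.symm) S.prime.ne_one
        have hle : Q P g (j + 1) (i - 1) ≤ Q P g j i := by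
          have := Q_succ_le_right (P := P) (g := g) j (i - 1)
          rwa [sub_add_cancel] at this
        have hsup : Q P g (j + 1) (i - 1) ⊔ Q P g (j + 1) i = Q P g j i := by
          refine eq_of_index S.prime hc le_sup_right (sup_le hle (Q_succ_le_left j i)) fun h => ?_
          refine hne (Subgroup.eq_of_le_of_card_ge (le_sup_left.trans h) ?_)
          rw [card_Q, card_Q (j + 1) (i - 1)]
        rw [← hsup]
        exact sup_le (hj1 ▸ ih (by omega) (i - 1)) (hj1 ▸ ih (by omega) i)
  have hle : Q P g s 0 ≤ P := (Q_le s 0).trans (le_of_eq Q_zero_zero)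
  have hbot : Q P g s 0 = ⊥ := by
    refine S.core _ hle ((Subgroup.normal_subgroupOf_iff_le_normalizer hle).2 ?_) ?_
    · have := hnorm s le_rfl 0
      rwa [Nat.sub_self, Q_zero_zero] at this
    · have : MulAut.conj g = sh g (-1) := by simp [sh]
      rw [this, smul_Q, hconst]
  refine ⟨s, hs0, fun k hk => ?_⟩
  have key : ∀ m ≤ s, Nat.card ↥(Q P g (s - m) 0) = p ^ m := by
    intro m
    induction m with
    | zero => intro _; rw [Nat.sub_zero, hbot, Subgroup.card_bot, pow_zero]
    | succ m ih =>
      intro hm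
      have := hmin (s - (m + 1)) (by omega)
      rw [show s - (m + 1) + 1 = s - m by omega, ih (by omega)] at this
      rw [this, pow_succ']
  have := key (s - k) (by omega)
  rwa [show s - (s - k) = k by omega] at this

end Setup

/-- A sequence of windows. -/
structure Win (P : Subgroup G) (g : G) (p s : ℕ) extends Setup P g p where
  card_Q' : ∀ k ≤ s, Nat.card ↥(Q P g k 0) = p ^ (s - k)

/-- The window of length `len` starting at `i`. -/
def W (P : Subgroup G) (g : G) (s len : ℕ) (i : ℤ) : Subgroup G :=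
  Q P g (s - len) (i - ((s - len : ℕ) : ℤ))

variable {s : ℕ}

theorem smul_W (len : ℕ) (i j : ℤ) : sh g j • W P g s len i = W P g s len (j + i) := by
  rw [W, W, smul_Q]; ring_nf

theorem W_self (i : ℤ) : W P g s s i = sh g i • P := by
  simp [W, Q]

theorem W_inf {len : ℕ} (h : len < s) (i : ℤ) :
    W P g s (len + 1) i ⊓ W P g s (len + 1) (i + 1) = W P g s len (i + 1) := by
  have hk : s - len = (s - (len + 1)) + 1 := by omega
  rw [W, W, W, hk, Q]
  push_cast
  congr 2 <;> ring

theorem W_le_right {len : ℕ} (h : len < s) (i : ℤ) :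
    W P g s len (i + 1) ≤ W P g s (len + 1) i :=
  (W_inf (P := P) (g := g) h i).ge.trans inf_le_left

theorem W_le_left {len : ℕ} (h : len < s) (i : ℤ) : W P g s len i ≤ W P g s (len + 1) i := by
  have := (W_inf (P := P) (g := g) h (i - 1)).ge.trans inf_le_right
  rwa [sub_add_cancel] at this

namespace Win

variable [Finite G] (D : Win P g p s)

include D

theorem card_W {len : ℕ} (h : len ≤ s) (i : ℤ) : Nat.card ↥(W P g s len i) = p ^ len := by
  rw [W, card_Q, D.card_Q' _ (Nat.sub_le _ _), show s - (s - len) = len by omega]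

theorem W_zero (i : ℤ) : W P g s 0 i = ⊥ :=
  Subgroup.card_eq_one.1 (by rw [D.card_W (Nat.zero_le _), pow_zero])

theorem one_le : 1 ≤ s := by
  rcases Nat.eq_zero_or_pos s with rfl | h
  · have h1 := D.toSetup.card_Q_one
    have h2 := D.card_Q' 0 le_rfl
    rw [Q_zero_zero, pow_zero] at h2
    rw [h2] at h1
    exact absurd (Nat.dvd_one.1 (h1 ▸ dvd_mul_right _ _)) D.prime.ne_one
  · exact h

theorem normal {len : ℕ} (h : len < s) (i : ℤ) :
    W P g s (len + 1) i ≤ normalizer (W P g s len (i + 1) : Set G) ∧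
      W P g s (len + 1) i ≤ normalizer (W P g s len i : Set G) := by
  haveI : Fact p.Prime := ⟨D.prime⟩
  have hp : IsPGroup p ↥(W P g s (len + 1) i) := D.toSetup.isPGroup_Q _ _
  constructor <;> refine normal_of_index hp ?_ ?_
  · exact W_le_right h i
  · rw [D.card_W h, D.card_W h.le, pow_succ']
  · exact W_le_left h i
  · rw [D.card_W h, D.card_W h.le, pow_succ']

theorem exists_gen : ∃ x : ℤ → G, (∀ i, W P g s 1 i = zpowers (x i)) ∧
    ∀ i j, sh g j (x i) = x (j + i) := by
  haveI : Fact p.Prime := ⟨D.prime⟩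
  have hc : Nat.card ↥(W P g s 1 0) = p := by rw [D.card_W D.one_le, pow_one]
  obtain ⟨y, hy⟩ : ∃ y : G, W P g s 1 0 = zpowers y := by
    haveI := isCyclic_of_prime_card hc
    obtain ⟨y, hy⟩ := (Subgroup.isCyclic_iff_exists_zpowers_eq_top (W P g s 1 0)).1 inferInstance
    exact ⟨y, hy.symm⟩
  refine ⟨fun i => sh g i y, fun i => ?_, fun i j => ?_⟩
  · rw [← add_zero i, ← smul_W, hy, add_zero]
    exact MonoidHom.map_zpowers _ _
  · show sh g j (sh g i y) = sh g (j + i) y
    rw [sh_add]; rfl

end Win

/-- A sequence of windows with generators. -/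
structure Gen (P : Subgroup G) (g : G) (p s : ℕ) extends Win P g p s where
  x : ℤ → G
  W_one : ∀ i, W P g s 1 i = zpowers (x i)
  equivariant : ∀ i j, sh g j (x i) = x (j + i)

namespace Gen

variable [Finite G] (D : Gen P g p s)

include D

theorem mem_W_one (i : ℤ) : D.x i ∈ W P g s 1 i := D.W_one i ▸ mem_zpowers _

theorem x_ne_one (i : ℤ) : D.x i ≠ 1 := by
  intro h
  have := D.toWin.card_W D.toWin.one_le i
  rw [D.W_one, h, Subgroup.zpowers_one_eq_bot, Subgroup.card_bot, pow_one] at this
  exact D.prime.ne_one this.symm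

theorem span {len : ℕ} : ∀ {i : ℤ}, len ≤ s → ∀ {H : Subgroup G},
    (∀ j, i ≤ j → j < i + (len : ℤ) → D.x j ∈ H) → W P g s len i ≤ H := by
  induction len with
  | zero => intro i _ H _; rw [D.toWin.W_zero]; exact bot_le
  | succ m ih =>
    intro i hm H hH
    rcases Nat.eq_zero_or_pos m with rfl | hm0
    · rw [D.W_one, zpowers_le]
      exact hH i le_rfl (by simp)
    · have hL : W P g s m i ≤ H := ih (by omega) fun j h1 h2 => hH j h1 (by push_cast; omega)
      have hR : W P g s m (i + 1) ≤ H := ih (by omega) fun j h1 h2 =>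
        hH j (by omega) (by push_cast; omega)
      have hsup : W P g s m i ⊔ W P g s m (i + 1) = W P g s (m + 1) i := by
        refine eq_of_index D.prime (H := W P g s m i)
          (by rw [D.toWin.card_W hm, D.toWin.card_W (by omega), pow_succ'])
          le_sup_left (sup_le (W_le_left hm i) (W_le_right hm i)) fun h => ?_
        have heq : W P g s m (i + 1) = W P g s m i :=
          Subgroup.eq_of_le_of_card_ge (le_sup_right.trans h)
            (by rw [D.toWin.card_W (by omega), D.toWin.card_W (by omega)])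
        have hinf := W_inf (P := P) (g := g) (show m - 1 < s by omega) i
        rw [show m - 1 + 1 = m by omega, heq, inf_idem] at hinf
        have hc := congrArg (fun K : Subgroup G => Nat.card K) hinf
        simp only [D.toWin.card_W (show m ≤ s by omega), D.toWin.card_W (show m - 1 ≤ s by omega)] at hc
        have := Nat.pow_right_injective D.prime.two_le hc
        omega
      rw [← hsup]
      exact sup_le hL hR

theorem x_mem {len : ℕ} : ∀ {i j : ℤ}, len ≤ s → i ≤ j → j < i + (len : ℤ) →
    D.x j ∈ W P g s len i := by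
  induction len with
  | zero => intro i j _ h1 h2; simp at h2; omega
  | succ m ih =>
    intro i j hm h1 h2
    push_cast at h2
    rcases Nat.eq_zero_or_pos m with rfl | hm0
    · rw [show j = i by omega]; exact D.mem_W_one i
    · rcases lt_or_ge j (i + m) with h | h
      · exact W_le_left hm i (ih (by omega) h1 h)
      · exact W_le_right hm i (ih (by omega) (by omega) (by omega))

theorem x_notMem {L : ℕ} (h : L < s) (i : ℤ) : D.x i ∉ W P g s L (i + 1) := by
  intro hx
  have hle : W P g s (L + 1) i ≤ W P g s L (i + 1) := D.span h fun j h1 h2 => by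
    push_cast at h2
    rcases eq_or_lt_of_le h1 with rfl | hlt
    · exact hx
    · exact D.x_mem h.le (by omega) (by omega)
  have := Subgroup.card_le_of_le hle
  rw [D.toWin.card_W h, D.toWin.card_W h.le] at this
  exact absurd this (not_le.2 (Nat.pow_lt_pow_right D.prime.one_lt (Nat.lt_succ_self L)))

theorem disjoint {a : ℕ} : ∀ {L : ℕ} {i : ℤ}, a + L ≤ s →
    W P g s a i ⊓ W P g s L (i + (a : ℤ)) = ⊥ := by
  induction a with
  | zero => intro L i _; rw [D.toWin.W_zero]; simp
  | succ a ih =>
    intro L i h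
    have hLle : W P g s L (i + ((a + 1 : ℕ) : ℤ)) ≤ W P g s (a + L) (i + 1) :=
      D.span (by omega) fun j h1 h2 => D.x_mem (by omega) (by push_cast at h1; omega)
        (by push_cast at h2 ⊢; omega)
    have hcut : W P g s (a + 1) i ⊓ W P g s (a + L) (i + 1) ≤ W P g s a (i + 1) := by
      have hbig : W P g s a (i + 1) ≤ W P g s (a + 1) i ⊓ W P g s (a + L) (i + 1) :=
        le_inf (W_le_right (by omega) i)
          (D.span (by omega) fun j h1 h2 => D.x_mem (by omega) h1 (by push_cast; omega))
      by_contra hno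
      have := eq_of_index D.prime (H := W P g s a (i + 1)) (K := W P g s (a + 1) i)
        (by rw [D.toWin.card_W (by omega), D.toWin.card_W (by omega), pow_succ'])
        hbig inf_le_left hno
      exact D.x_notMem (show a + L < s by omega) i
        ((this.ge.trans inf_le_right) (D.x_mem (by omega) le_rfl (by push_cast; omega)))
    rw [eq_bot_iff]
    intro y hy
    have h1 : y ∈ W P g s a (i + 1) := hcut ⟨hy.1, hLle hy.2⟩
    have h2 := ih (L := L) (i := i + 1) (by omega)
    rw [← h2]
    exact ⟨h1, by push_cast at hy; rw [show i + 1 + (a : ℤ) = i + ((a : ℤ) + 1) by ring]; exact hy.2⟩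

theorem commute_W {y : G} {len : ℕ} {i : ℤ} (hlen : len ≤ s)
    (h : ∀ j, i ≤ j → j < i + (len : ℤ) → Commute y (D.x j)) {z : G}
    (hz : z ∈ W P g s len i) : Commute y z := by
  have h1 := D.span (H := centralizer ({y} : Set G)) hlen
    (fun j h1 h2 => mem_centralizer_singleton_iff.2 (h j h1 h2).eq.symm) hz
  exact (mem_centralizer_singleton_iff.1 h1).symm

/-- The bound: if `d` is the least distance of two noncommuting members, `2 t ≤ 3 d`. -/
theorem two_mul_le {d : ℕ} (hd : d < s) (hne : ¬ Commute (D.x 0) (D.x d))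
    (hmin : ∀ a b : ℤ, (a - b).natAbs < d → Commute (D.x a) (D.x b)) : 2 * s ≤ 3 * d := by
  classical
  have hd1 : 1 ≤ d := by
    by_contra h
    rw [show d = 0 by omega] at hne
    exact hne (Commute.refl _)
  set a := D.x 0 with ha
  set b := D.x (d : ℤ) with hb
  set w := a * b * a⁻¹ * b⁻¹ with hw
  have hwne : w ≠ 1 := by
    intro h
    refine hne ?_
    show a * b = b * a
    calc a * b = w * (b * a) := by rw [hw]; group
      _ = b * a := by rw [h, one_mul]
  have hwin : w ∈ W P g s (d - 1) 1 := by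
    have hbmem : b ∈ W P g s d 1 := D.x_mem hd.le (by omega) (by omega)
    have hamem : a ∈ W P g s d 0 := D.x_mem hd.le le_rfl (by omega)
    have hamem' : a ∈ W P g s (d + 1) 0 := D.x_mem hd le_rfl (by push_cast; omega)
    have hbmem' : b ∈ W P g s (d + 1) 0 := D.x_mem hd (by omega) (by push_cast; omega)
    have hn := D.toWin.normal hd 0
    have h1 : w ∈ W P g s d 1 :=
      mul_mem ((Subgroup.mem_normalizer_iff.1 (hn.1 hamem') b).1 (by rw [zero_add]; exact hbmem))
        (inv_mem hbmem)
    have h2 : w ∈ W P g s d 0 := by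
      have h := (Subgroup.mem_normalizer_iff.1 (hn.2 hbmem') a⁻¹).1 (inv_mem hamem)
      have : w = a * (b * a⁻¹ * b⁻¹) := by rw [hw]; group
      rw [this]
      exact mul_mem hamem h
    have h3 := W_inf (P := P) (g := g) (show d - 1 < s by omega) 0
    rw [show d - 1 + 1 = d by omega, zero_add] at h3
    exact h3 ▸ ⟨h2, h1⟩
  have hexl : ∃ l ≤ d - 1, w ∈ W P g s l ((d : ℤ) - (l : ℤ)) := ⟨d - 1, le_rfl, by
    rw [show ((d : ℤ) - ((d - 1 : ℕ) : ℤ)) = 1 by omega]; exact hwin⟩
  obtain ⟨hlle, hwl⟩ := Nat.find_spec hexl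
  set l := Nat.find hexl with hl
  have hexm : ∃ m, w ∈ W P g s m 1 := ⟨d - 1, hwin⟩
  set m := Nat.find hexm with hm
  have hwm : w ∈ W P g s m 1 := Nat.find_spec hexm
  have hmle : m ≤ d - 1 := Nat.find_min' hexm hwin
  have hl0 : 1 ≤ l := by
    by_contra h
    rw [show l = 0 by omega, D.toWin.W_zero] at hwl
    exact hwne hwl
  have hm0 : 1 ≤ m := by
    by_contra h
    rw [show m = 0 by omega, D.toWin.W_zero] at hwm
    exact hwne hwm
  have hlm : d ≤ l + m := by
    by_contra h
    have h1 := D.disjoint (a := m) (L := d - 1 - m) (i := 1) (by omega)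
    refine hwne ?_
    rw [← mem_bot, ← h1]
    refine ⟨hwm, ?_⟩
    refine D.span (by omega) (fun j h2 h3 => D.x_mem (by omega) (by omega) (by omega)) hwl
  -- the end `d` with `α + d`
  have hleft : s ≤ d - l + d := by
    by_contra hcon
    set α : ℤ := (d : ℤ) - (l : ℤ) with hα
    set k : ℤ := α + (d : ℤ) with hk
    set K := d - l + d with hK
    have hKk : (K : ℤ) = k := by omega
    have hc : Commute (D.x k) w := by
      have hkb : Commute (D.x k) b := hmin _ _ (by omega)
      have hkmem : D.x k ∈ W P g s (K + 1) 0 := D.x_mem (by omega) (by omega) (by push_cast; omega)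
      have hamem : a ∈ W P g s K 0 := D.x_mem (by omega) le_rfl (by omega)
      set u := a⁻¹ * D.x k * a * (D.x k)⁻¹ with hu
      have hu1 : u ∈ W P g s K 0 := by
        have h := (Subgroup.mem_normalizer_iff.1 ((D.toWin.normal (show K < s by omega) 0).2 hkmem) a).1 hamem
        have : u = a⁻¹ * (D.x k * a * (D.x k)⁻¹) := by rw [hu]; group
        rw [this]; exact mul_mem (inv_mem hamem) h
      have hu2 : u ∈ W P g s K 1 := by
        have hn := (D.toWin.normal (show K < s by omega) 0).1
        rw [zero_add] at hn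
        have hka : D.x k ∈ W P g s K 1 := D.x_mem (by omega) (by omega) (by omega)
        have ham : a ∈ W P g s (K + 1) 0 := D.x_mem (by omega) le_rfl (by push_cast; omega)
        have h := (Subgroup.mem_normalizer_iff.1 (hn (inv_mem ham)) (D.x k)).1 hka
        rw [inv_inv] at h
        have : u = (a⁻¹ * D.x k * a) * (D.x k)⁻¹ := rfl
        rw [this]; exact mul_mem h (inv_mem hka)
      have hu3 : u ∈ W P g s (K - 1) 1 := by
        have h := W_inf (P := P) (g := g) (show K - 1 < s by omega) 0
        rw [show K - 1 + 1 = K by omega, zero_add] at h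
        exact h ▸ ⟨hu1, hu2⟩
      have hub : Commute b u := D.commute_W (by omega) (fun j h1 h2 => hmin _ _ (by omega)) hu3
      show D.x k * w = w * D.x k
      have e1 : D.x k * a * (D.x k)⁻¹ = a * u := by rw [hu]; group
      have e2 : D.x k * b * (D.x k)⁻¹ = b := by rw [hkb.eq]; group
      have e3 : D.x k * w * (D.x k)⁻¹ = w := by
        calc D.x k * w * (D.x k)⁻¹ = (D.x k * a * (D.x k)⁻¹) * (D.x k * b * (D.x k)⁻¹) *
              (D.x k * a * (D.x k)⁻¹)⁻¹ * (D.x k * b * (D.x k)⁻¹)⁻¹ := by rw [hw]; group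
          _ = a * (u * b) * u⁻¹ * a⁻¹ * b⁻¹ := by rw [e1, e2]; group
          _ = w := by rw [← hub.eq, hw]; group
      calc D.x k * w = (D.x k * w * (D.x k)⁻¹) * D.x k := by group
        _ = w * D.x k := by rw [e3]
    have hnot : w ∉ W P g s (l - 1) (α + 1) := by
      intro h
      refine Nat.find_min hexl (show l - 1 < l by omega) ⟨by omega, ?_⟩
      rwa [show ((d : ℤ) - ((l - 1 : ℕ) : ℤ)) = α + 1 by omega]
    have hsub : W P g s (l - 1) (α + 1) ≤ centralizer ({D.x k} : Set G) :=
      D.span (by omega) fun j h1 h2 => mem_centralizer_singleton_iff.2 (hmin _ _ (by omega)).eq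
    have heq := eq_of_index D.prime (H := W P g s (l - 1) (α + 1)) (K := W P g s l α)
      (L := W P g s l α ⊓ centralizer ({D.x k} : Set G))
      (by rw [D.toWin.card_W (by omega), D.toWin.card_W (by omega), ← pow_succ']; congr 1; omega)
      (le_inf (by
        have := W_le_right (P := P) (g := g) (show l - 1 < s by omega) α
        rwa [show l - 1 + 1 = l by omega] at this) hsub) inf_le_left
      (fun h => hnot (h ⟨hwl, mem_centralizer_singleton_iff.2 hc.eq.symm⟩))
    have hx : D.x α ∈ centralizer ({D.x k} : Set G) :=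
      (heq.ge (D.x_mem (by omega) le_rfl (by omega))).2
    have hcomm : Commute (D.x α) (D.x k) := (mem_centralizer_singleton_iff.1 hx)
    apply hne
    have := hcomm.map (sh g (-α)).toMonoidHom
    simpa [D.equivariant, hk, ha, hb] using this
  -- the end `0` with `β - d`
  have hright : s ≤ 2 * d - m := by
    by_contra hcon
    set k : ℤ := (m : ℤ) - (d : ℤ) with hk
    set K := 2 * d - m with hK
    have hKk : (K : ℤ) = (d : ℤ) - k := by omega
    have hc : Commute (D.x k) w := by
      have hka : Commute (D.x k) a := hmin _ _ (by omega)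
      have hkmem : D.x k ∈ W P g s (K + 1) k := D.x_mem (by omega) le_rfl (by push_cast; omega)
      have hbmem : b ∈ W P g s K (k + 1) := D.x_mem (by omega) (by omega) (by omega)
      set v := D.x k * b * (D.x k)⁻¹ * b⁻¹ with hv
      have hv1 : v ∈ W P g s K (k + 1) := by
        have h := (Subgroup.mem_normalizer_iff.1 ((D.toWin.normal (show K < s by omega) k).1 hkmem) b).1 hbmem
        exact mul_mem h (inv_mem hbmem)
      have hv2 : v ∈ W P g s K k := by
        have hn := (D.toWin.normal (show K < s by omega) k).2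
        have hkk : D.x k ∈ W P g s K k := D.x_mem (by omega) le_rfl (by omega)
        have hbb : b ∈ W P g s (K + 1) k := D.x_mem (by omega) (by omega) (by push_cast; omega)
        have h := (Subgroup.mem_normalizer_iff.1 (hn hbb) (D.x k)⁻¹).1 (inv_mem hkk)
        have : v = D.x k * (b * (D.x k)⁻¹ * b⁻¹) := by rw [hv]; group
        rw [this]; exact mul_mem hkk h
      have hv3 : v ∈ W P g s (K - 1) (k + 1) := by
        have h := W_inf (P := P) (g := g) (show K - 1 < s by omega) k
        rw [show K - 1 + 1 = K by omega] at h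
        exact h ▸ ⟨hv2, hv1⟩
      have hva : Commute a v := D.commute_W (by omega) (fun j h1 h2 => hmin _ _ (by omega)) hv3
      have hvw : Commute v w := D.commute_W (by omega) (fun j h1 h2 =>
        (D.commute_W (by omega) (fun i h3 h4 => hmin _ _ (by omega)) hv3).symm) hwm
      have e2 : D.x k * a * (D.x k)⁻¹ = a := by rw [hka.eq]; group
      have e1 : D.x k * b * (D.x k)⁻¹ = v * b := by rw [hv]; group
      have e3 : D.x k * w * (D.x k)⁻¹ = w := by
        calc D.x k * w * (D.x k)⁻¹ = (D.x k * a * (D.x k)⁻¹) * (D.x k * b * (D.x k)⁻¹) *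
              (D.x k * a * (D.x k)⁻¹)⁻¹ * (D.x k * b * (D.x k)⁻¹)⁻¹ := by rw [hw]; group
          _ = (a * v) * (b * a⁻¹ * b⁻¹) * v⁻¹ := by rw [e1, e2]; group
          _ = v * w * v⁻¹ := by rw [hva.eq, hw]; group
          _ = w := by rw [hvw.eq]; group
      show D.x k * w = w * D.x k
      calc D.x k * w = (D.x k * w * (D.x k)⁻¹) * D.x k := by group
        _ = w * D.x k := by rw [e3]
    have hnot : w ∉ W P g s (m - 1) 1 := Nat.find_min hexm (show m - 1 < m by omega)
    have hsub : W P g s (m - 1) 1 ≤ centralizer ({D.x k} : Set G) :=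
      D.span (by omega) fun j h1 h2 => mem_centralizer_singleton_iff.2 (hmin _ _ (by omega)).eq
    have heq := eq_of_index D.prime (H := W P g s (m - 1) 1) (K := W P g s m 1)
      (L := W P g s m 1 ⊓ centralizer ({D.x k} : Set G))
      (by rw [D.toWin.card_W (by omega), D.toWin.card_W (by omega), ← pow_succ']; congr 1; omega)
      (le_inf (by
        have := W_le_left (P := P) (g := g) (show m - 1 < s by omega) 1
        rwa [show m - 1 + 1 = m by omega] at this) hsub) inf_le_left
      (fun h => hnot (h ⟨hwm, mem_centralizer_singleton_iff.2 hc.eq.symm⟩))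
    have hx : D.x (m : ℤ) ∈ centralizer ({D.x k} : Set G) :=
      (heq.ge (D.x_mem (by omega) (by omega) (by omega))).2
    have hcomm : Commute (D.x k) (D.x (m : ℤ)) := (mem_centralizer_singleton_iff.1 hx).symm
    apply hne
    have := hcomm.map (sh g (-k)).toMonoidHom
    simpa [D.equivariant, hk, ha, hb] using this
  omega

end Gen

end Cfsg.Agent.H60.Windows
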